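import Cfsg.Agent.H07.W7

/-! Groups with an involution centraliser `2^{1+4}.S3` (namespace `H07.Wg`): alternating type, `typeA`. -/

set_option autoImplicit false
set_option maxRecDepth 100000
set_option synthInstance.maxSize 4096

namespace H07.Wg
open H13 H14.PK H27.PKx L.DC Subgroup Cfsg Equiv

variable {G : Type*} [Group G] {e : ℕ → G} {u v : G}

/-- conjugates of `s` -/
def LA : List ℕ := [1, 2, 3, 4, 5, 8, 9, 10, 11, 16, 17, 20, 21, 96, 98, 112, 115, 128, 138, 148, 159, 160, 164, 168, 173]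

/-- conjugates of `t` -/
def LB : List ℕ := [12, 13, 18, 19, 30, 31, 97, 99, 113, 114, 129, 139, 149, 158, 161, 165, 169, 172]

theorem ac : (∀ a < 192, MA a a = 0 → a = 0 ∨ a ∈ LA ∨ a ∈ LB) ∧ (∀ a ∈ LA, cj MA IA (get 12 CJA a) a ∈ [1, 2, 16, 96]) ∧
    ∀ a ∈ LB, cj MA IA (get 12 CJA a) a ∈ [18, 97] := by decide +kernel

theorem Mo.fin {n : ℕ} {y : ℕ → G} (m : Mo (n + 1) y) (hn : 3 ≤ n) (y1 : y 2 ≠ 1) (top : ∀ K : Subgroup G, (∀ j < n + 1, y j ∈ K) → K = ⊤) :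
    Nonempty (G ≃* alternatingGroup (Fin (n + 2))) := by
  obtain ⟨f, hf⟩ := m.hom
  have k : ∀ j < n + 1, y j ∈ f.range := fun j hj => ⟨_, hf ⟨j, hj⟩ (by simp [Perm.mem_alternatingGroup, (Fin.castSucc_lt_succ).ne])⟩
  obtain ⟨a, ha⟩ := k 2 (by omega)
  exact ⟨(MulEquiv.ofBijective f ⟨inj_alt (by omega) f (ha ▸ y1), MonoidHom.range_eq_top.1 (top _ k)⟩).symm⟩

namespace Mn
variable (M : Mn e u v)
include M

theorem c2 : u * e 2 * u⁻¹ = e 1 := mul_inv_eq_iff_eq_mul.2 (M.iu 3)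
theorem c16 : v * e 16 * v⁻¹ = e 1 := mul_inv_eq_iff_eq_mul.2 (M.iv 3)
theorem c96 : v * u * e 96 * (v * u)⁻¹ = e 1 := by rw [cc2, show u * e 96 * u⁻¹ = e 16 from mul_inv_eq_iff_eq_mul.2 (M.iu 0), M.c16]
theorem c97 : u * e 97 * u⁻¹ = e 18 := im1 M.h.toCG M.iu WR1 (by decide +kernel)

theorem sA {a : ℕ} (m : a ∈ LA) : IsConj (e 1) (e a) := by
  refine .trans ?_ (jc M.h.toCG (get 12 CJA a) rfl).symm
  have := ac.2.1 a m
  simp only [List.mem_cons, List.not_mem_nil, or_false] at this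
  rcases this with r | r | r | r <;> rw [r]
  exacts [(isConj_iff.2 ⟨_, M.c2⟩).symm, (isConj_iff.2 ⟨_, M.c16⟩).symm, (isConj_iff.2 ⟨_, M.c96⟩).symm]

theorem tA {a : ℕ} (m : a ∈ LB) : IsConj (e 18) (e a) := by
  refine .trans ?_ (jc M.h.toCG (get 12 CJA a) rfl).symm
  have := ac.2.2 a m
  simp only [List.mem_cons, List.not_mem_nil, or_false] at this
  rcases this with r | r <;> rw [r]
  exact (isConj_iff.2 ⟨_, M.c97⟩).symm

theorem tyA {a : ℕ} (ha : a < 192) (k : IsConj (e 1) (e a)) : a ∈ LA := by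
  rcases ac.1 a ha (M.h.meq1.1 (sq_of_conj k M.h.z2)) with rfl | m | m
  exacts [(ne_of_conj k M.h.z1 M.h.zero).elim, m, (M.nc (k.trans (M.tA m).symm)).elim]

theorem tyB {a : ℕ} (ha : a < 192) (k : IsConj (e 18) (e a)) : a ∈ LB := by
  rcases ac.1 a ha (M.h.meq1.1 (sq_of_conj k (M.h.meq1.2 (by decide +kernel)))) with rfl | m | m
  exacts [(ne_of_conj k (mt (M.h.eq1 (by decide)).1 (by decide)) M.h.zero).elim, (M.nc ((M.sA m).trans k.symm)).elim, m]

theorem oddA {x c d : G} {n : ℕ} (k1 : IsConj (e 1) c) (k2 : IsConj (e 18) d) (r : d * c = c * d) (r1 : x * c = c * x)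
    (r2 : x * d = d * x) (o : Odd n) (xn : x ^ n = 1) : x = 1 := by
  obtain ⟨g, rfl⟩ := isConj_iff.1 k1
  have k : ∀ {y}, y * (g * e 1 * g⁻¹) = g * e 1 * g⁻¹ * y → ∃ a < 192, e a = g⁻¹ * y * g⁻¹⁻¹ := fun r => (M.h.cen _).1 (by
    have := cj_comm (g := g⁻¹) r
    rwa [show g⁻¹ * (g * e 1 * g⁻¹) * g⁻¹⁻¹ = e 1 by group] at this)
  obtain ⟨a, a1, a2⟩ := k r1
  obtain ⟨b, b1, b2⟩ := k r
  have := (by decide +kernel : ∀ b ∈ LB, ∀ a < 192, MA a b = MA b a → pr MA (List.replicate 4 a) = 0) b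
    (M.tyB b1 (b2 ▸ k2.trans (H08.isConj_conj _ _))) a a1 (M.h.meq.1 (by rw [a2, b2]; exact cj_comm r2))
  rw [← pow_one x]
  refine odd_part (k := 2) o xn ((conj_eq_one_iff (a := g⁻¹)).1 ?_)
  rw [← conj_pow, ← a2]
  exact (pw M.h.toCG a 4).trans (this ▸ M.h.zero)

variable [Finite G]

theorem sylc {P : ℕ → Prop} {h0 hm hi} (p2 : ∀ a < 192, P a → pr MA (List.replicate 4 a) = 0) {D : Subgroup G}
    (le : ∀ a < 192, P a ↔ e a ∈ D) (P1 : P 1) (uq : ∀ a ∈ LA, P a → (∀ b < 192, P b → MA a b = MA b a) → a = 1) :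
    H26.IsSyl 2 (M.h.msub P h0 hm hi) D := by
  have : Fact (Nat.Prime 2) := ⟨Nat.prime_two⟩
  refine H26.isSyl_of_normalizer ⟨le_inf ?_ le_normalizer, H26.isPGroup_iff_mem.2 ?_, fun Q _ a b => le_antisymm (fun x hx => ?_) a⟩
  · rintro _ ⟨a, a1, a2, rfl⟩; exact (le a a1).1 a2
  · rintro _ ⟨a, a1, a2, rfl⟩; exact ⟨2, (pw M.h.toCG a 4).trans (p2 a a1 a2 ▸ M.h.zero)⟩
  obtain ⟨d, n⟩ := b hx
  obtain ⟨a, a1, a2, a3⟩ := (mem_normalizer_iff.1 n _).1 ⟨1, by decide, P1, rfl⟩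
  obtain rfl := uq a (M.tyA a1 (a3 ▸ H08.isConj_conj _ _)) a2 fun b b1 b2 => M.h.meq.1 (by
    obtain ⟨c, -, -, c3⟩ := (mem_normalizer_iff''.1 n _).1 ⟨b, b1, b2, rfl⟩
    have := cj_comm (g := x) (M.h.zc c)
    rw [c3, ← a3, show x * (x⁻¹ * e b * x) * x⁻¹ = e b by group] at this
    exact this.symm)
  obtain ⟨c, c1, rfl⟩ := (M.h.cen x).1 (mul_inv_eq_iff_eq_mul.1 a3.symm)
  exact ⟨c, c1, (le c c1).2 d, rfl⟩

theorem noX {g : G} {c : ℕ} (hc : c ∈ [12, 13, 30, 31]) (a : g * e 18 = e 18 * g) (r : g * e 113 * g⁻¹ = e c) : False := by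
  have : Fact (Nat.Prime 2) := ⟨Nat.prime_two⟩
  have h := M.h
  obtain ⟨k, -, hk⟩ := (M.sylc (P := (· ∈ [0, 1, 12, 13, 18, 19, 30, 31])) (h0 := by decide) (hm := by decide +kernel)
    (hi := by decide +kernel) (by decide +kernel) (D := centralizer {e 18} ⊓ centralizer {e c}) (fun a ha => by
      rw [mem_inf, mem_centralizer_singleton_iff, mem_centralizer_singleton_iff, h.meq, h.meq]
      clear r; revert a c; decide +kernel) (by decide) (by decide +kernel)).exists_cj_le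
    (Q := (h.msub (· < 4) (by decide) (by decide +kernel) (by decide +kernel)).map (MulAut.conj g).toMonoidHom)
    (IsPGroup.map (H26.isPGroup_iff_mem.2 (by
      rintro _ ⟨a, -, a2, rfl⟩
      exact ⟨1, (pow_two _).trans (h.meq1.2 ((by decide +kernel : ∀ a < 4, MA a a = 0) a a2))⟩)) _) (H26.cj_le_iff.2 (by
      rintro _ ⟨a, -, a2, rfl⟩
      obtain ⟨p, q⟩ := (by decide +kernel : ∀ a < 4, MA a 18 = MA 18 a ∧ MA a 113 = MA 113 a) a a2
      exact ⟨mem_centralizer_singleton_iff.2 (mul_inv_eq_iff_eq_mul.2 ‹_› ▸ cj_comm (h.meq.2 p)),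
        mem_centralizer_singleton_iff.2 (r ▸ cj_comm (h.meq.2 q))⟩))
  have f : ∀ a ∈ [1, 2], k * (g * e a * g⁻¹) * k⁻¹ = e 1 := fun a ha => by
    obtain ⟨b, b1, b2, b3⟩ := hk (H26.conj_mem_cj (H26.conj_mem_cj ⟨a, by simp at ha; omega, by simp at ha; omega, rfl⟩))
    rw [← b3, (by decide +kernel : ∀ b ∈ LA, b ∈ [0, 1, 12, 13, 18, 19, 30, 31] → b = 1) b (M.tyA b1 (b3 ▸ ((M.sA
      ((by decide : ∀ a ∈ [1, 2], a ∈ LA) a ha)).trans (H08.isConj_conj _ _)).trans (H08.isConj_conj _ _))) b2]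
  exact absurd (h.inj 1 (by decide) 2 (by decide) (by simpa using (f 1 (by decide)).trans (f 2 (by decide)).symm)) (by decide)

theorem ph : ∃ n, (n = 4 ∨ n = 5) ∧ ∃ ψ : G → Perm (Fin n), Ph (e 18) (e 113) ψ := by
  have : Fact (Nat.Prime 2) := ⟨Nat.prime_two⟩
  have h := M.h
  have m := @mm _ _ _ _ _ _ h.toCG
  have ne : ∀ {a b}, a < 192 → b < 192 → a ≠ b → e a ≠ e b := fun p q r => mt (h.inj _ p _ q) r
  have b2 : e 18 * e 18 = 1 := h.meq1.2 (by decide +kernel)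
  have t2 : e 113 * e 113 = 1 := h.meq1.2 (by decide +kernel)
  have tb : e 113 * e 18 = e 99 := m (by decide +kernel)
  have tb' : e 113 * e 18 = e 18 * e 113 := h.meq.2 (by decide +kernel)
  obtain ⟨V, mV⟩ : ∃ V : Subgroup G, ∀ {x}, x ∈ V ↔ ∃ a ∈ [0, 18, 113, 99], e a = x :=
    ⟨h.msub (· ∈ [0, 18, 113, 99]) (by decide) (by decide +kernel) (by decide +kernel),
      ⟨fun ⟨a, _, b⟩ => ⟨a, b⟩, fun ⟨a, b, c⟩ => ⟨a, by simp at b; omega, b, c⟩⟩⟩
  have mV' : ∀ {x}, x ∈ V ↔ x = 1 ∨ x = e 18 ∨ x = e 113 ∨ x = e 113 * e 18 := by simp [mV, h.zero, tb, eq_comm]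
  have TT : ∀ {k y}, k * e 18 = e 18 * k → (k * e 113 * k⁻¹ = e 113 ∨ k * e 113 * k⁻¹ = e 113 * e 18) → (y = e 113 ∨ y = e 113 * e 18) →
      k * y * k⁻¹ = e 113 ∨ k * y * k⁻¹ = e 113 * e 18 := fun a r s => by
    rcases s with rfl | rfl
    · exact r
    rw [← conj_mul, mul_inv_eq_iff_eq_mul.2 a]
    rcases r with r | r <;> rw [r]
    exacts [.inr rfl, .inl (by rw [mul_assoc, b2, mul_one])]
  have nV : ∀ {k}, k * e 18 = e 18 * k → (k * e 113 * k⁻¹ = e 113 ∨ k * e 113 * k⁻¹ = e 113 * e 18) → ∀ y ∈ V, k * y * k⁻¹ ∈ V :=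
    fun a r y p => mV'.2 (by
      rcases mV'.1 p with rfl | rfl | s
      exacts [.inl (by simp), .inr (.inl (mul_inv_eq_iff_eq_mul.2 a)), .inr (.inr (TT a r s))])
  have N := cent_quot (a := e 1) (a' := e 2) b2 t2 tb' h.z2 (h.meq1.2 (by decide +kernel)) (h.zc 18).symm (h.meq.2 (by decide +kernel))
    (fun g a r => by
      have w2 := cj_sq (g := g) t2
      have wb : g * e 113 * g⁻¹ * e 18 = e 18 * (g * e 113 * g⁻¹) := mul_inv_eq_iff_eq_mul.2 a ▸ cj_comm tb'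
      obtain ⟨k, ⟨k1, k2⟩, hk⟩ := (M.sylc (P := fun a => MA a 18 = MA 18 a) (h0 := by decide +kernel) (hm := by decide +kernel)
        (hi := by decide +kernel) (by decide +kernel) (D := centralizer {e 18} ⊓ normalizer (V : Set G)) (fun a ha =>
          ⟨fun p => ⟨mem_centralizer_singleton_iff.2 (h.meq.2 p), H26.mem_normalizer_of_cj_le (H26.cj_le_iff.2 (nV (h.meq.2 p) (by
            rw [h.cj, tb, h.eq (h.cj_lt _ _) (by decide), h.eq (h.cj_lt _ _) (by decide)]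
            revert a; decide +kernel)))⟩, fun p => h.meq.1 (mem_centralizer_singleton_iff.1 p.1)⟩) (by decide +kernel)
          (by decide +kernel)).exists_cj_le (H26.isPGroup_zpowers ⟨1, (pow_two _).trans w2⟩) (zpowers_le.2
          ⟨mem_centralizer_singleton_iff.2 wb, H26.mem_normalizer_of_cj_le (H26.cj_le_iff.2 (nV wb (r.imp
            (fun r => mul_inv_eq_iff_eq_mul.2 r.symm) fun r => by
              rw [mul_inv_eq_iff_eq_mul, mul_assoc _ (e 18), ← wb, ← mul_assoc, r, mul_assoc _ (e 18), b2, mul_one])))⟩)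
      obtain ⟨c, c1, c2, c3⟩ := hk (H26.conj_mem_cj (mem_zpowers _))
      have k1 := mem_centralizer_singleton_iff.1 k1
      have kg : k * g * e 18 = e 18 * (k * g) := by rw [mul_assoc, a, ← mul_assoc, k1, mul_assoc]
      rw [← cc2] at c3
      rcases (by decide +kernel : ∀ c ∈ LB, MA c 18 = MA 18 c → c = 18 ∨ MA c 18 ∈ LA ∨ (c = 113 ∨ c = 99) ∨ c ∈ [12, 13, 30, 31]) c
        (M.tyB c1 (c3 ▸ (M.tA (by decide)).trans (H08.isConj_conj _ _))) c2 with rfl | s | s | s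
      · rw [← mul_inv_eq_iff_eq_mul.2 kg, mul_left_inj, mul_right_inj] at c3
        exact (ne (by decide) (by decide) (by decide) c3).elim
      · refine (M.nc ((M.sA s).trans (.trans (isConj_iff.2 ⟨k * g, ?_⟩).symm (M.tA (a := 99) (by decide)).symm))).elim
        rw [← h.mul, c3, ← tb, ← conj_mul, mul_inv_eq_iff_eq_mul.2 kg]
      · have k1' : k⁻¹ * e 18 = e 18 * k⁻¹ := (show Commute k _ from k1).inv_left
        have := TT (y := e c) k1' (by
          rcases mV'.1 ((mem_normalizer_iff.1 (inv_mem k2) _).1 (mV'.2 (.inr (.inr (.inl rfl))))) with q | q | q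
          · exact (ne (by decide) (by decide) (by decide) ((conj_eq_one_iff.1 q).trans h.zero.symm)).elim
          · rw [← mul_inv_eq_iff_eq_mul.2 k1', mul_left_inj, mul_right_inj] at q
            exact (ne (by decide) (by decide) (by decide) q).elim
          · exact q) (s.imp (congrArg e) fun s => (congrArg e s).trans tb.symm)
        rwa [c3, show k⁻¹ * (k * g * e 113 * (k * g)⁻¹) * k⁻¹⁻¹ = g * e 113 * g⁻¹ by group] at this
      · exact (M.noX s kg c3.symm).elim)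
    fun c hc x n o xn xb xc _ => by
      rcases hc with rfl | rfl | rfl
      exacts [M.oddA (.refl _) (.refl _) (h.zc 18) xc xb o xn, M.oddA (M.sA (by decide)) (.refl _) (h.meq.2 (by decide +kernel)) xc xb o xn,
        M.oddA (m (by decide +kernel : MA 1 2 = 3) ▸ M.sA (by decide)) (.refl _) (by rw [h.mul 1 2, h.meq]; decide +kernel) xc xb o xn]
  have mC : ∀ {a}, MA a 18 = MA 18 a → e a ∈ centralizer {e 18} := fun r => mem_centralizer_singleton_iff.2 (h.meq.2 r)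
  obtain ⟨n, hn, φ, su, ke⟩ := quot45 (C := centralizer {e 18}) (V := V) (z := e 1)
    (fun g hg => nV (mem_centralizer_singleton_iff.1 hg) (N g (mem_centralizer_singleton_iff.1 hg)))
    (mC (a := 2) (by decide +kernel)) (mC (a := 12) (by decide +kernel)) (h.meq1.2 (by decide +kernel)) (h.meq1.2 (by decide +kernel)) h.z2
    (fun r => by
      obtain ⟨a, a1, a2⟩ := mV.1 r
      exact ne (by simp at a1; omega) (by decide) (by simp at a1; omega) a2) (by rw [h.mul]; exact m (by decide +kernel)) (fun x hx r => by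
      have hx := mem_centralizer_singleton_iff.1 hx
      have : x * e 1 = e 1 * x := by
        obtain ⟨a, a1, a2⟩ := mV.1 r
        have a3 : x⁻¹ * e 1 * x⁻¹⁻¹ = e (MA 1 a) := by rw [← h.mul, a2]; group
        rcases (by decide +kernel : ∀ a ∈ [0, 18, 113, 99], a = 0 ∨ MA 1 a ∈ LB ∨ MA (MA 1 a) 18 ∈ LA) a a1 with rfl | s | s
        · exact inv_mul_eq_one.1 (a2.symm.trans h.zero)
        · exact (M.nc ((isConj_iff.2 ⟨_, a3⟩).trans (M.tA s).symm)).elim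
        · refine (M.nc ((M.sA s).trans (.trans (isConj_iff.2 ⟨x⁻¹, ?_⟩).symm (M.tA (a := 19) (by decide)).symm))).elim
          rw [← h.mul, ← a3, ← m (by decide +kernel : MA 1 18 = 19), ← conj_mul,
            mul_inv_eq_iff_eq_mul.2 (show Commute x _ from hx).inv_left.eq]
      obtain ⟨a, ha, rfl⟩ := (h.cen x).1 this
      obtain ⟨i, -, j, -, r⟩ := (by decide +kernel : ∀ a < 192, MA a 18 = MA 18 a → ∃ i < 4, ∃ j < 2,
        MA (IA a) (MA (pr MA (List.replicate i (MA 2 12))) (pr MA (List.replicate j 2))) ∈ [0, 18, 113, 99]) a ha (h.meq.1 hx)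
      exact ⟨i, j, mV.2 ⟨_, r, by rw [h.mul, pw h.toCG, pw h.toCG, h.inv, h.mul, h.mul]⟩⟩)
    ⟨e 12 * u * v, mem_centralizer_singleton_iff.2 (mul_inv_eq_iff_eq_mul.1 (by
      rw [cc2, im1 h.toCG M.iv WR2 (b := 97) (by decide +kernel), cc2, M.c97, jj h.toCG (by decide +kernel : _ = 18)])), by
      rw [cc2, im1 h.toCG M.iv WR2 (b := 16) (by decide +kernel), cc2, im1 h.toCG M.iu WR1 (b := 96) (by decide +kernel), h.cj, h.inv, h.mul]
      exact mV.2 ⟨_, by decide +kernel, rfl⟩⟩ fun g _ r => by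
      obtain ⟨a, a1, a2⟩ := mV.1 r
      have a3 : g * e 1 * g⁻¹ = e (MA 12 (IA a)) := by rw [← h.mul, ← h.inv, a2]; group
      exact (by decide +kernel : ∀ a ∈ [0, 18, 113, 99], MA 12 (IA a) ∉ LA) a a1 (M.tyA (h.mu_lt _ _) (isConj_iff.2 ⟨_, a3⟩))
  classical
  have q : ∀ {g} (a : Commute g (e 18)), (if h : g ∈ centralizer {e 18} then φ ⟨g, h⟩ else 1) = φ ⟨g, mem_centralizer_singleton_iff.2 a⟩ :=
    fun a => dif_pos _
  exact ⟨n, hn, fun g => if h : g ∈ centralizer {e 18} then φ ⟨g, h⟩ else 1, b2, h.zero ▸ ne (by decide) (by decide) (by decide), t2, tb',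
    fun a c => by rw [q a, q c, q (a.mul_left c), ← map_mul]; rfl, fun a => by rw [q a, ke, mV'], fun P => (su P).elim fun g r =>
      ⟨g, mem_centralizer_singleton_iff.1 g.2, (q (mem_centralizer_singleton_iff.1 g.2)).trans r⟩, fun a => N _ a⟩

theorem top {K : Subgroup G} (a : M.h.sub ≤ K ∧ u ∈ K ∧ v ∈ K) (c : ∀ g, Commute g (e 18) → g ∈ K) : K = ⊤ :=
  top_of_two M.h.z2 (M.h.meq1.2 (by decide +kernel)) M.h.z1 M.nc (fun _ r => a.1 (M.h.mem.2 r)) c fun w p w2 w1 => by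
    obtain ⟨g, hg, r, r1, r2⟩ := M.h.into qokA treeA cokA a.1 p w2 w1
    simp only [List.mem_cons, List.not_mem_nil, or_false] at r1
    rcases r1 with rfl | rfl | rfl | rfl | rfl | rfl
    exacts [⟨g, hg, .inl r2⟩, ⟨u * g, mul_mem a.2.1 hg, .inl (by rw [cc2, r2, M.c2])⟩, ⟨v * g, mul_mem a.2.2 hg, .inl (by rw [cc2, r2, M.c16])⟩,
      ⟨g, hg, .inr r2⟩, ⟨v * u * g, mul_mem (mul_mem a.2.2 a.2.1) hg, .inl (by rw [cc2, r2, M.c96])⟩,
      ⟨u * g, mul_mem a.2.1 hg, .inr (by rw [cc2, r2, M.c97])⟩]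

theorem alt : Nonempty (G ≃* alternatingGroup (Fin 8)) ∨ Nonempty (G ≃* alternatingGroup (Fin 9)) := by
  obtain ⟨x, m, x2, x1, hK⟩ := M.mo
  obtain ⟨n, hn, ψ, p⟩ := M.ph
  have top := @Mn.top _ _ _ _ _ M _
  rw [← x1, ← x2] at p
  rw [← x2] at top
  rcases hn with rfl | rfl
  · exact .inl (m.fin (by decide) p.b1 fun K k => top (hK K k) fun g => p.eight m k)
  · obtain ⟨y, y1, y2, y3⟩ := p.nine m
    exact .inr (y1.fin (by decide) (y2 2 (by decide) ▸ p.b1) fun K k => top (hK K fun j hj => y2 j hj ▸ k j (by omega)) (y3 K k))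

end Mn

end H07.Wg
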