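import Cfsg.Agent.H07.L3
import Cfsg.Agent.H17.AL0
import Cfsg.Agent.H03.PResidual
import Cfsg.Agent.S0111
import Cfsg.Agent.S3225
import Cfsg.Agent.S0215
import Cfsg.Agent.S0144

/-! Involution centraliser `2^{1+4}_-.S₄`: the normal subgroup of index four (`H07.AG.g`). -/

set_option autoImplicit false

namespace H07.AG
open Subgroup Cfsg H26 L.DC H17.AL H07.L4

universe u v

variable {G : Type u} [Group G] [Finite G] {F : Type v} [Field F] {z t s : G} {T : Subgroup G}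

local notation "N[" A "]" => normalizer (SetLike.coe A)

theorem mC {G : Type*} [Group G] {x y : G} : x ∈ centralizer {y} ↔ x * y = y * x := mem_centralizer_singleton_iff

theorem tt {K R Q : Subgroup G} (i : ∀ M : Subgroup K, M.index ≠ 2) (s : IsSyl 2 R K) (l : Q ≤ R) (r : Q.relIndex R = 2) :
    (∀ x ∈ R, x ∉ Q → x * x = 1 → ∃ g, g * x * g⁻¹ ∈ Q) ∧
      ((∀ x ∈ R, x ∉ Q → x * x ≠ 1) → ∀ x ∈ R, orderOf x = 4 → ∃ g, g * x * g⁻¹ ∈ Q) := by
  obtain ⟨P, hP, -⟩ := s.exists_sylow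
  have a : Q.subgroupOf K ≤ P := hP ▸ fun x hx => l hx
  have b : (Q.subgroupOf K).relIndex P = 2 := by rw [hP, relIndex_subgroupOf s.1, r]
  refine ⟨fun x x1 x2 x3 => ?_, fun k x x1 x2 => ?_⟩
  · obtain ⟨g, e⟩ := (Cfsg.Agent.S0111.result P _ a b ⟨x, s.1 x1⟩ (ord2 (Subtype.ext x3) fun e => x2 (by
      rw [show x = 1 from congrArg Subtype.val e]; exact one_mem _)) (show _ ∈ (P : Subgroup K) from hP ▸ x1) x2).resolve_left
      fun ⟨M, _, e, _⟩ => i M e
    exact ⟨g, e⟩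
  · obtain ⟨g, e⟩ := Cfsg.Agent.S3225.result (even_iff_two_dvd.2 ((r.symm.dvd.trans (index_dvd_card (Q.subgroupOf R))).trans (card_dvd_of_le s.1))) i P _ a b 2
      (by decide) (fun y y1 y2 => by
        by_contra! c
        refine k y (by rwa [hP] at y1) y2 (congrArg Subtype.val (show y * y = 1 from ?_))
        have := orderOf_pos y
        rw [← pow_two]
        exact orderOf_dvd_iff_pow_eq_one.1 (by interval_cases orderOf y <;> simp)) ⟨x, s.1 x1⟩ (hP ▸ x1) (by rw [← orderOf_coe]; exact x2)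
    exact ⟨g, e⟩

theorem cls {A : Subgroup G} (n : A.Normal) {w : G} (r : w ∈ A) : (centralizer {w}).index ≤ Nat.card A :=
  Nat.card_le_card_of_injective (fun q : G ⧸ centralizer {w} => (⟨_, n.conj_mem _ r q.out⟩ : A)) fun p q e => by
    rw [← p.out_eq, ← q.out_eq]
    refine QuotientGroup.eq.2 (mC.2 ?_)
    calc _ = p.out⁻¹ * (q.out * w * q.out⁻¹) * q.out := by group
      _ = _ := by rw [← show p.out * w * p.out⁻¹ = q.out * w * q.out⁻¹ from congrArg Subtype.val e]; group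

variable (h : Lo F z t s T)
include h

omit [Finite G] in
theorem zz : z * z = 1 := H08.mul_self_of_orderOf h.z2

omit [Finite G] in
theorem z1 : z ≠ 1 := fun r => by simpa [r] using h.z2

theorem syl {x y : G} (x1 : x * z = z * x) (x2 : x ∉ T) (x3 : x * x = 1) (y1 : y * x = x * y) (y2 : ∃ k, y ^ 2 ^ k = 1) :
    ∃ c, c * x = x * c ∧ c * y * c⁻¹ * z = z * (c * y * c⁻¹) := by
  obtain ⟨w, w1, w2⟩ := h.w4 x x1 x2 x3
  have w3 : ∀ n : G, (n * w * n⁻¹) ^ 4 = 1 := fun n => by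
    rw [conj_pow, show w ^ 4 = w * w * (w * w) by simp [pow_succ, mul_assoc], w2, zz h]; simp
  obtain ⟨P, p1, p2⟩ := exists_isSyl_ge (H := centralizer {x} ⊓ centralizer {z}) (isPGroup_zpowers (p := 2) ⟨2, by simpa using w3 1⟩)
    (zpowers_le.2 ⟨mC.2 w1, mC.2 (by rw [← w2, mul_assoc])⟩)
  have p3 : IsSyl 2 P (centralizer {x}) := isSyl_of_normalizer (p1.mono (le_inf (p1.1.trans inf_le_left) le_normalizer) fun n r => ⟨r.1, by
    have m := p1.1 ((mem_normalizer_iff.1 r.2 _).1 (p2 (mem_zpowers w)))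
    have := h.y4 x x1 x2 x3 _ (mC.1 m.2) (mC.1 m.1) (w3 n)
    rw [conj_mul, w2, conj_eq_one_iff] at this
    exact mC.2 (mul_inv_eq_iff_eq_mul.1 (this.resolve_left (z1 h)))⟩)
  obtain ⟨c, c1, c2⟩ := p3.exists_cj_le (isPGroup_zpowers y2) (zpowers_le.2 (mC.2 y1))
  exact ⟨c, mC.1 c1, mC.1 (p1.1 (cj_le_iff.1 c2 y (mem_zpowers y))).2⟩

theorem nf {x g : G} (x1 : x * z = z * x) (x2 : x ∉ T) (x3 : x * x = 1) : g * x * g⁻¹ ∉ T := fun r => by
  obtain ⟨w, e⟩ := h.sq _ r (cj_sq x3)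
  have e1 : g⁻¹ * w * g * (g⁻¹ * w * g) = x := by rw [show g⁻¹ * w * g * (g⁻¹ * w * g) = g⁻¹ * (w * w) * g by group, e]; group
  generalize g⁻¹ * w * g = y at e1
  have e2 : y ^ 4 = 1 := by rw [show y ^ 4 = y * y * (y * y) by simp [pow_succ, mul_assoc], e1, x3]
  have e3 : y * x = x * y := by rw [← e1, mul_assoc]
  obtain ⟨c, c1, c2⟩ := syl h x1 x2 x3 e3 ⟨2, e2⟩
  have e4 : c * y * c⁻¹ * (c * y * c⁻¹) = x := by rw [conj_mul, e1, c1, mul_inv_cancel_right]
  rcases h.y4 x x1 x2 x3 _ c2 (by rw [← e4, mul_assoc (c * y * c⁻¹)]) (by rw [conj_pow, e2]; simp) with k | k <;> rw [e4] at k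
  exacts [x2 (k ▸ one_mem T), x2 (k ▸ h.zT)]

theorem exP : ∃ P : Sylow 2 G, T ≤ P ∧ s ∈ (P : Subgroup G) ∧ (P : Subgroup G) ≤ centralizer {z} ∧ Nat.card (P : Subgroup G) = 256 := by
  obtain ⟨P, p1, p2⟩ := exists_isSyl_ge (H := centralizer {z}) (isPGroup_sup (isPGroup_zpowers (p := 2) (x := s) ⟨1, by simpa [pow_two] using h.s2⟩)
    (IsPGroup.of_card (n := 6) h.cT) (zpowers_le.2 (h.nT (mC.2 h.sH)))) (sup_le (zpowers_le.2 (mC.2 h.sH)) h.TH)
  obtain ⟨Q, rfl⟩ := (isSyl_of_not_dvd le_top p1.2 (by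
    rw [relIndex_top_right, ← relIndex_mul_index p1.1]
    exact fun r => (Nat.prime_two.dvd_mul.1 r).elim p1.not_dvd h.odd)).exists_sylow_top
  refine ⟨Q, le_sup_right.trans p2, p2 (mem_sup_left (mem_zpowers s)), p1.1, ?_⟩
  obtain ⟨k, e⟩ := IsPGroup.iff_card.1 p1.2
  have a := ((Q : Subgroup G).subgroupOf (centralizer {z})).index_mul_card
  have b := p1.not_dvd
  rw [card_subgroupOf p1.1, h.cH, e] at a
  rw [e, relIndex] at *
  have c : 2 ^ k ∣ 2 ^ 8 := (Nat.Coprime.pow_left k (by decide : Nat.Coprime 2 3)).dvd_of_dvd_mul_right (Dvd.intro_left _ a)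
  have := (Nat.pow_dvd_pow_iff_le_right (by decide)).1 c
  interval_cases k <;> omega

theorem exK : ∃ K : Subgroup G, K.Normal ∧ K.index = 4 ∧ IsSyl 2 T K ∧ K ⊔ centralizer {z} = ⊤ := by
  obtain ⟨P, p1, p2, p3, p4⟩ := exP h
  have i : ∀ M : Subgroup (pResidual 2 G), M.index ≠ 2 := fun M r => by
    have := normal_of_index_eq_two r
    have := H03.pResidual_le_of_index (p := 2) M (k := 1) r
    rw [H03.pResidual_pResidual, top_le_iff] at this
    simp [this] at r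
  have j := H03.pResidual_sup_sylow P
  have l : T ≤ pResidual 2 G := h.gen _ fun x r => H03.mem_pResidual_of_coprime (Nat.Coprime.coprime_dvd_left (orderOf_dvd_of_pow_eq_one r) (by decide))
  have n : (pResidual 2 G).Normal := inferInstance
  generalize pResidual 2 G = K at *
  have q := (isSyl_top P).inf_of_le (N := K) le_top le_normalizer_of_normal
  have sK : s ∉ K := fun r => by
    have st : s * t * s⁻¹ = z * t := (h.ht s h.sH).resolve_left fun e => h.st (mul_inv_eq_iff_eq_mul.1 e)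
    obtain ⟨g, e⟩ := (tt i q (Q := P ⊓ K ⊓ centralizer {t}) inf_le_left (index_eq_two_iff_exists_notMem_and.2 ⟨⟨s, p2, r⟩, fun e => h.st (mC.1 e.2),
      fun b => (h.ht b (mC.1 (p3 b.2.1))).symm.imp (fun e => ⟨mul_mem b.2 ⟨p2, r⟩, mC.2 (mul_inv_eq_iff_eq_mul.1 (by
        show b * s * t * (b * s : G)⁻¹ = t
        rw [show b * s * t * (b * s : G)⁻¹ = b * (s * t * s⁻¹) * (b : G)⁻¹ by group, st, ← conj_mul, e, mC.1 (p3 b.2.1), mul_inv_cancel_right,
          ← mul_assoc, zz h, one_mul]))⟩) fun e => ⟨b.2, mC.2 (mul_inv_eq_iff_eq_mul.1 e)⟩⟩)).1 s ⟨p2, r⟩ (fun e => h.st (mC.1 e.2)) h.s2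
    have x1 := mC.1 (p3 e.1.1)
    have x2 := nf h (g := g) h.sH (fun r => h.st (h.Tt s r)) h.s2
    obtain ⟨y, y1, y2, y3⟩ := h.y8
    have y4 : g * y * g⁻¹ * (g * s * g⁻¹) = g * s * g⁻¹ * (g * y * g⁻¹) := by rw [conj_mul, conj_mul, y1]
    obtain ⟨c, c1, c2⟩ := syl h x1 x2 (cj_sq h.s2) y4 ⟨3, by rw [conj_pow, show 2 ^ 3 = 8 from rfl, y2]; simp⟩
    have := h.r4 _ x1 x2 (cj_sq h.s2) (mC.1 e.2) _ c2 (by
      generalize g * s * g⁻¹ = x at c1 y4 ⊢
      generalize g * y * g⁻¹ = y at y4 ⊢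
      rw [← mul_inv_eq_iff_eq_mul.2 c1, conj_mul, conj_mul, y4])
    rw [conj_pow, conj_pow, conj_eq_one_iff, conj_eq_one_iff] at this
    exact y3 this
  have e : (P : Subgroup G) ⊓ K = T := by
    by_contra c
    have l' : T ≤ (P : Subgroup G) ⊓ K := le_inf p1 l
    have r : T.relIndex ((P : Subgroup G) ⊓ K) = 2 := by
      have a := (T.subgroupOf ((P : Subgroup G) ⊓ K)).index_mul_card
      have b := ((P ⊓ K : Subgroup G).subgroupOf P).index_mul_card
      have a1 : (T.subgroupOf ((P : Subgroup G) ⊓ K)).index ≠ 1 := fun r => c (le_antisymm (relIndex_eq_one.1 r) l')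
      have b1 : ((P ⊓ K : Subgroup G).subgroupOf P).index ≠ 1 := fun r => sK (relIndex_eq_one.1 r p2).2
      rw [card_subgroupOf l', h.cT] at a
      rw [card_subgroupOf inf_le_left, p4, ← a] at b
      rw [relIndex]
      generalize (T.subgroupOf ((P : Subgroup G) ⊓ K)).index = m at *
      generalize ((P ⊓ K : Subgroup G).subgroupOf P).index = m' at *
      have : m' * m = 4 := by linarith
      have := Nat.le_of_dvd (by decide) (Dvd.intro_left _ this)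
      interval_cases m <;> omega
    obtain ⟨a, b⟩ := tt i q l' r
    have k : ∀ x ∈ (P : Subgroup G) ⊓ K, x ∉ T → x * x ≠ 1 := fun x x1 x2 x3 => by
      obtain ⟨g, e⟩ := a x x1 x2 x3
      exact nf h (mC.1 (p3 x1.1)) x2 x3 e
    obtain ⟨y, y1, y2⟩ := SetLike.not_le_iff_exists.1 fun r => c (le_antisymm r l')
    obtain ⟨τ, t1, t2⟩ := h.cos y (mC.1 (p3 y1.1)) (isPGroup_iff_mem.1 P.2 y y1.1)
    have x1 := mul_mem y1 (l' t1)
    have x2 : y * τ ∉ T := fun r => y2 ((mul_mem_cancel_right t1).1 r)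
    replace t2 := t2.resolve_left (k _ x1 x2)
    generalize y * τ = x at x1 x2 t2
    obtain ⟨g, e⟩ := b k x x1 (orderOf_eq_prime_pow (p := 2) (n := 1) (by rw [pow_one, pow_two, t2]; exact z1 h)
      (by rw [show x ^ 2 ^ (1 + 1) = x * x * (x * x) by simp [pow_succ, mul_assoc], t2, zz h]))
    exact x2 ((mem_normalizer_iff.1 (h.wk _ e g (by rw [conj_mul, t2])) x).2 e)
  refine ⟨K, n, ?_, e ▸ q, top_le_iff.1 (j.ge.trans (sup_le_sup_left p3 K))⟩
  have a := ((P ⊓ K : Subgroup G).subgroupOf P).index_mul_card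
  rw [card_subgroupOf inf_le_left, p4, ← relIndex, inf_relIndex_left, e, h.cT, ← relIndex_sup_left, j, relIndex_top_right] at a
  omega

theorem niso (o : oddCore G = ⊥) (n : ¬ Group.IsSolvable G) : ¬ ∀ g, g * z * g⁻¹ ∈ T → g * z * g⁻¹ = z := fun k => by
  obtain ⟨P, p1, -, p3, -⟩ := exP h
  obtain ⟨N, _, a, b⟩ := Cfsg.Agent.S0215.result P z h.z2 (p1 h.zT) fun g r => k g (by
    by_contra c
    exact nf h (g := g⁻¹) (mC.1 (p3 r)) c (cj_sq (zz h)) (by simpa [mul_assoc] using h.zT))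
  have := h.sol
  refine n (Group.isSolvable_of_surjective (f := (centralizer {z}).subtype) fun g => ⟨⟨g, mC.2 ?_⟩, rfl⟩)
  have := mem_bot.1 (o ▸ H08.le_oddCore a (b g))
  rw [mul_inv_eq_one, mul_inv_eq_iff_eq_mul] at this
  exact this.symm

omit h

theorem g (P : PStmt.{u, v}) (L : LStmt.{u, v}) (D : DStmt.{u, v}) : GStmt.{u, v} := fun G _ _ F _ _ c4 z t s T h o n => by
  obtain ⟨u, u1, u2, rfl, rfl, u3⟩ := h.dich.resolve_left (niso h o n)
  obtain ⟨K, nK, k1, k2, k3⟩ := exK h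
  have m : ∀ a b c, u a b c ∈ K := fun a b c => k2.1 (Subgroup.subset_closure ⟨a, b, c, rfl⟩)
  have e : L4.T (fun a b c => (⟨u a b c, m a b c⟩ : K)) = (L4.T u).subgroupOf K :=
    (map_subtype_subgroupOf _).symm.trans (congrArg (subgroupOf · K) (T_map K.subtype _).symm)
  have k : Hs (fun a b c => (⟨u a b c, m a b c⟩ : K)) := ⟨c4, fun _ _ _ _ _ _ => Subtype.ext (u1 ..),
    fun _ _ _ r => u2 _ _ _ (congrArg Subtype.val r), e ▸ k2.not_dvd⟩
  have oK : oddCore K = ⊥ := H02.pPrimeCoreOf_eq_bot_iff.1 (le_bot_iff.1 (o ▸ H02.pPrimeCoreOf_le_pPrimeCore K))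
  have cC : Nat.card (centralizer {(⟨u 0 0 1, m 0 0 1⟩ : K)}) = 192 := by
    have a := (K.subgroupOf (centralizer {u 0 0 1})).index_mul_card
    rw [← relIndex, ← relIndex_sup_left, k3, relIndex_top_right, k1, h.cH, ← inf_subgroupOf_right, card_subgroupOf inf_le_right] at a
    rw [show centralizer {(⟨u 0 0 1, m 0 0 1⟩ : K)} = (K ⊓ centralizer {u 0 0 1}).subgroupOf K from Subgroup.ext fun x =>
      mC.trans (Subtype.ext_iff.trans ⟨fun r => ⟨x.2, mC.2 r⟩, fun r => mC.1 r.2⟩), card_subgroupOf inf_le_left]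
    omega
  have cT : centralizer {(⟨u 0 0 1, m 0 0 1⟩ : K)} ≤ N[L4.T fun a b c => (⟨u a b c, m a b c⟩ : K)] := fun x r => by
    rw [e]
    exact mem_normalizer_iff.2 fun y => mem_normalizer_iff.1 (h.nT (mC.2 (congrArg Subtype.val (mC.1 r)))) y
  let σ : K ≃* K := MulAut.conjNormal s
  have σ2 : ∀ x, σ (σ x) = x := fun x => Subtype.ext (by
    show s * (s * x * s⁻¹) * s⁻¹ = x
    rw [show s * (s * x * s⁻¹) * s⁻¹ = s * s * x * (s * s)⁻¹ by group, h.s2]; simp)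
  have σE : ∀ a c, ∃ b c', σ ⟨u a 0 c, m _ _ _⟩ = ⟨u 0 b c', m _ _ _⟩ := fun a c => (u3 a c).imp fun _ r => r.imp fun _ r => Subtype.ext r
  have hz : (⟨u 0 0 1, m 0 0 1⟩ : K) ∈ Z _ := k.mZ.2 ⟨rfl, rfl⟩
  have z1 : (⟨u 0 0 1, m 0 0 1⟩ : K) ≠ 1 := fun r => one_ne_zero (k.eq1.1 r).2.2
  have cK : ∀ g, g * u 0 0 1 = u 0 0 1 * g → (∀ x ∈ K, x * u 0 0 1 = u 0 0 1 * x) → ∀ x : K, x * ⟨u 0 0 1, m 0 0 1⟩ = ⟨u 0 0 1, m 0 0 1⟩ * x :=
    fun _ _ r x => Subtype.ext (r x x.2)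
  have cG : Nat.card G = 4 * Nat.card K := k1 ▸ K.index_mul_card.symm
  generalize (⟨u 0 0 1, m 0 0 1⟩ : K) = w at cC cT hz z1 cK
  generalize hv : (fun a b c => (⟨u a b c, m a b c⟩ : K)) = v at k cT hz
  replace σE : ∀ a c, ∃ b c', σ (v a 0 c) = v 0 b c' := hv ▸ σE
  have s1 : (E v).map σ.toMonoidHom = E' v := eq_of_le_of_card_ge (by
    rintro _ ⟨x, r, rfl⟩
    obtain ⟨a, c, rfl⟩ := k.memE.1 r
    obtain ⟨b, c', r⟩ := σE a c
    exact k.memE'.2 ⟨b, c', r.symm⟩) (by rw [card_map_inj (f := σ.toMonoidHom) σ.injective, k.cardE, k.cardE'])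
  have s2 : ∀ x, σ x ∈ E' v ↔ x ∈ E v := fun x => by rw [← s1]; exact mem_map_iff_mem (f := σ.toMonoidHom) σ.injective
  have s3 : ∀ x, σ x ∈ E v ↔ x ∈ E' v := fun x => by rw [← s2, σ2]
  have s4 : ∀ x, σ x ∈ Z v ↔ x ∈ Z v := fun x => by rw [← k.inf, mem_inf, mem_inf, s2, s3, and_comm]
  have s5 : ∀ {A B : Subgroup K}, (∀ x, σ x ∈ A ↔ x ∈ B) → ∀ x, x ∈ N[B] → σ x ∈ N[A] := fun r x a => mem_normalizer_iff.2 fun y => by
    rw [← σ2 y, ← map_inv, ← map_mul, ← map_mul, r, r]; exact mem_normalizer_iff.1 a _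
  have nZ : ¬ (Z v).Normal := fun r => n (by
    have b := cls r hz
    have c := (centralizer {w}).index_mul_card
    rw [k.cardZ] at b
    have d : ¬ 2 ∣ (centralizer {w}).index := fun r => k.odd (r.trans (index_dvd_of_le (k.TC hz)))
    rw [← c, cC] at cG
    generalize (centralizer {w}).index = i at *
    interval_cases i
    exacts [by omega, Cfsg.Agent.S0144.result 2 3 8 1 Nat.prime_two Nat.prime_three cG, by omega,
      Cfsg.Agent.S0144.result 2 3 8 2 Nat.prime_two Nat.prime_three cG, by omega])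
  have nE : ¬ (E v).Normal := fun r => nZ (normal_of_top_le (k.inf ▸ le_normalizer_inf le_normalizer_of_normal fun x _ =>
    σ2 x ▸ s5 s2 _ (le_normalizer_of_normal (mem_top _))))
  have nn : ¬ N[E v] ≤ N[Z v] := fun r => nE (D K F v k oK fun x a => σ2 x ▸ s5 s4 _ (r (s5 s3 x a)))
  have a := orb (H := N[E v]) (A := E v) (z := w) fun e => ⟨by
    rintro ⟨m, r, rfl⟩; exact ⟨(mem_normalizer_iff.1 r _).1 (k.ZE hz), mt conj_eq_one_iff.1 z1⟩, fun r => k.tr nn r.1 r.2 hz z1⟩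
  rw [k.cardE] at a
  refine ⟨K, nK, k1, h.nz _ (fun x r => mC.2 (r _ (m 0 0 1)).symm) le_normalizer_of_normal fun r => ?_, k.main P L D oK, E v,
    fun r => by simpa [r] using k.cardE, k.pT.to_le k.ET, nE, ?_⟩
  · rw [show centralizer {w} = ⊤ from top_le_iff.1 fun x _ => mC.2 (cK 1 (by simp) r x), relIndex_top_left] at a
    omega
  · have b := ((centralizer {w}).subgroupOf N[E v]).index_mul_card
    rw [card_subgroupOf (cT.trans k.NTE), cC, ← relIndex, show (centralizer {w}).relIndex N[E v] = 15 by omega] at b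
    exact b.symm

end H07.AG
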