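import Cfsg.Agent.H07.D4b
import Cfsg.Agent.S3278
import Cfsg.Agent.S3378

/-!
# Groups with `χ(1) - χ(u) = 4` or `χ(u) = 0`: the group structure
-/

set_option autoImplicit false

namespace H07.D4

open Cfsg H05 Subgroup Equiv
open scoped ComplexConjugate

variable {G : Type*} [Group G] [Fintype G] {u : G}

theorem A5_aux : ∀ a : Perm (Fin 5), Perm.sign a = 1 → a ^ 4 = 1 → a ≠ 1 → a * a = 1 ∧
    ∃ c : Perm (Fin 5), Perm.sign c = 1 ∧ c * (swap 0 1 * swap 2 3) * c⁻¹ = a := by decide +kernel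

theorem A5_conj {a b : alternatingGroup (Fin 5)} (ha : a ^ 4 = 1) (ha1 : a ≠ 1) (hb : b ^ 4 = 1) (hb1 : b ≠ 1) :
    a * a = 1 ∧ IsConj a b := by
  obtain ⟨h1, c, h2, h3⟩ := A5_aux a a.2 (congrArg Subtype.val ha) fun h => ha1 (Subtype.ext h)
  obtain ⟨-, d, h4, h5⟩ := A5_aux b b.2 (congrArg Subtype.val hb) fun h => hb1 (Subtype.ext h)
  refine ⟨Subtype.ext h1, isConj_iff.2 ⟨⟨d, h4⟩ * ⟨c, h2⟩⁻¹, Subtype.ext ?_⟩⟩
  simp [← h3, ← h5, mul_assoc]

theorem camina {A : Type*} [Group A] [Fintype A] (f : G →* A) (hf : Function.Surjective f)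
    (h : Nat.card (centralizer ({u} : Set G)) = Nat.card (centralizer ({f u} : Set A))) {s : G}
    (hs : IsConj (f u) (f s)) : IsConj u s := by
  classical
  have h1 := sum_comp_of_surjective f hf fun a => if IsConj (f u) a then 1 else 0
  simp only [Finset.sum_boole, card_filter_isConj] at h1
  have h2 := (centralizer ({u} : Set G)).card_mul_index
  rw [← f.ker.card_mul_index, index_ker, MonoidHom.range_eq_top.2 hf, card_top,
    ← (centralizer ({f u} : Set A)).card_mul_index, h, mul_left_comm] at h2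
  have h3 := Finset.eq_of_subset_of_card_le (s := {s | IsConj u s}) (t := {s | IsConj (f u) (f s)})
    (fun s hs => Finset.mem_filter.2 ⟨Finset.mem_univ _, f.map_isConj (Finset.mem_filter.1 hs).2⟩)
    (by rw [card_filter_isConj, mul_left_cancel₀ Nat.card_pos.ne' h2]; exact le_of_eq (by exact_mod_cast h1))
  exact (Finset.mem_filter.1 (h3.ge (Finset.mem_filter.2 ⟨Finset.mem_univ _, hs⟩))).2

omit [Fintype G] in
theorem Hyp.map {A : Type*} [Group A] (h : Hyp u) (f : G →* A) (hf : Function.Surjective f) : Hyp (f u) :=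
  fun χ hχ h1 => by
    simpa using h _ (hχ.comp_of_surjective f hf) fun e => h1 (funext fun a => by
      obtain ⟨g, rfl⟩ := hf a; exact congrFun e g)

theorem Hyp.ne_one (h : Hyp u) [Nontrivial G] : u ≠ 1 := by
  rintro rfl
  obtain ⟨g, hg⟩ := exists_ne (1 : G)
  refine hg (eq_one_of_forall_irr fun χ => by_contra fun h1 => ?_)
  simpa [χ.2.apply_one_ne_zero] using h χ.1 χ.2 fun e => h1 (by simp [e])

theorem Hyp.perfect (h : Hyp u) : Group.IsPerfect G :=
  ⟨eq_top_iff.2 fun x _ => by_contra fun hx => by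
    obtain ⟨φ, hφ⟩ := exists_hom_apply_ne_one hx
    simp [h.lin φ] at hφ⟩

theorem Hyp.le_ker (h : Hyp u) {χ : G → ℂ} (hχ : T3 u χ) (N : Subgroup G) [N.Normal] (hN : N ≠ ⊤) :
    N ≤ charKer χ := by
  classical
  have := QuotientGroup.nontrivial_iff.2 hN
  have h1 := h.map (QuotientGroup.mk' N) (QuotientGroup.mk'_surjective N)
  obtain ⟨α, β, hα, hβ, hne⟩ := (h1.main h1.ne_one).1
  have k : ∀ α, T3 (QuotientGroup.mk' N u) α → T3 u fun g => α g := fun α hα =>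
    h.t3 (hα.irr.inflate N) hα.c.deg (by simpa using hα.c.val)
  have k2 : ∀ α : G ⧸ N → ℂ, χ = (fun g : G => α g) → N ≤ charKer χ := fun α e x hx =>
    hχ.c.ch.mem_charKer.2 (by simp [e, (QuotientGroup.eq_one_iff x).2 hx])
  by_contra h2
  exact h.no_three hχ (k α hα) (k β hβ) (fun e => h2 (k2 α e)) (fun e => h2 (k2 β e))
    fun e => hne (funext fun q => QuotientGroup.induction_on q (congrFun e))

theorem Hyp.struct (h : Hyp u) (hu : u ≠ 1) : ∃ f : G →* alternatingGroup (Fin 5), Function.Surjective f ∧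
    f u ≠ 1 ∧ ∀ s, f s ≠ 1 → f s ^ 4 = 1 → IsConj u s := by
  classical
  obtain ⟨⟨χ, ρ, hχ, hρ, hne⟩, h4⟩ := h.main hu
  let π := QuotientGroup.mk' (charKer χ)
  have hπ : ∀ g, π g = 1 ↔ χ g = 3 := fun g => by
    rw [QuotientGroup.mk'_apply, QuotientGroup.eq_one_iff, hχ.c.ch.mem_charKer, hχ.c.deg]; rfl
  have h1 := h.map π (QuotientGroup.mk'_surjective _)
  have h2 : π u ≠ 1 := by rw [Ne, hπ, hχ.c.val]; norm_num
  have h3 := (h1.main h2).2
  have : Nontrivial (G ⧸ charKer χ) := ⟨_, _, h2⟩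
  have : IsSimpleGroup (G ⧸ charKer χ) := ⟨fun N hN => or_iff_not_imp_right.2 fun h5 => eq_bot_iff.2 fun q hq => by
    obtain ⟨g, rfl⟩ := QuotientGroup.mk_surjective q
    exact (QuotientGroup.eq_one_iff g).2 (h.le_ker hχ (N.comap π)
      (fun e => h5 (comap_injective (QuotientGroup.mk'_surjective _) e)) hq)⟩
  have h5 : IsKleinFour (centralizer ({π u} : Set (G ⧸ charKer χ))) := H08.isKleinFour_iff.2 ⟨h3, fun c hc => by
    obtain ⟨g, rfl⟩ := QuotientGroup.mk'_surjective _ c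
    have e1 : π g ^ 4 = 1 := congrArg Subtype.val (h3 ▸ pow_card_eq_one' (x := (⟨_, hc⟩ : centralizer {π u})))
    rw [← map_pow, show g ^ 4 = g * g * (g * g) by simp only [pow_succ, pow_zero, one_mul, mul_assoc], hπ,
      h.newton hχ.c.ch hχ.c.deg, show conj (χ _) = _ from congrFun (h.real hχ) _] at e1
    rw [← map_mul, hπ]
    refine (mul_eq_zero.1 (show (χ (g * g) - 3) * (χ (g * g) + 1) = 0 by linear_combination e1)).elim
      sub_eq_zero.1 fun e2 => ?_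
    rw [h.newton hχ.c.ch hχ.c.deg, show conj (χ _) = _ from congrFun (h.real hχ) _] at e2
    have e3 : χ g = 1 := sub_eq_zero.1 (pow_eq_zero_iff two_ne_zero |>.1 (by linear_combination e2))
    by_cases e4 : χ g = ρ g
    · have := h.vals hχ hρ hne e4
      norm_num [e3] at this
    · have := (h.gold hχ hρ hne e4).2
      norm_num [e3] at this⟩
  have h6 : π u ^ 2 = 1 := by rw [← map_pow, sq, hπ, hχ.c.sq]; rfl
  obtain ⟨e⟩ := Cfsg.Agent.S3278.result (π u) (orderOf_eq_prime h6 h2) _ le_rfl h5 (by simp) (by simp)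
  have h7 : e (π u) ≠ 1 := by simpa using h2
  refine ⟨e.toMonoidHom.comp π, e.surjective.comp (QuotientGroup.mk'_surjective _), h7,
    fun s s1 s2 => camina π (QuotientGroup.mk'_surjective _) (h4.trans h3.symm) ?_⟩
  simpa using e.symm.toMonoidHom.map_isConj (A5_conj (by rw [← map_pow, pow_mul _ 2 2, h6]; simp) h7 s2 s1).2

theorem exists_xy {f : G →* alternatingGroup (Fin 5)} (hf : Function.Surjective f) (S : Sylow 2 G) :
    ∃ x ∈ S, ∃ y ∈ S, f x ≠ 1 ∧ f y ≠ 1 ∧ f (x * y) ≠ 1 ∧ ∀ s ∈ S, f s ^ 4 = 1 := by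
  have h1 : Nat.card ((S : Subgroup G).map f) = 4 :=
    (S.mapSurjective hf).card_eq_multiplicity.trans (by rw [H08.card_A5]; decide +kernel)
  have h2 : ∀ s ∈ S, f s ^ 4 = 1 := fun s hs =>
    congrArg Subtype.val (h1 ▸ pow_card_eq_one' (x := (⟨_, mem_map_of_mem f hs⟩ : (S : Subgroup G).map f)))
  have h3 : 3 ≤ ENat.card ((S : Subgroup G).map f) := by rw [ENat.card_eq_coe_natCard, h1]; norm_num
  obtain ⟨⟨_, x, hx, rfl⟩, h4, -⟩ := ENat.exists_ne_ne_of_three_le h3 1 1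
  obtain ⟨⟨_, y, hy, rfl⟩, h5, h6⟩ := ENat.exists_ne_ne_of_three_le h3 1 ⟨_, mem_map_of_mem f hx⟩⁻¹
  exact ⟨x, hx, y, hy, fun e => h4 (Subtype.ext e), fun e => h5 (Subtype.ext e),
    fun e => h6 (Subtype.ext (eq_inv_of_mul_eq_one_right (by simpa using e))), h2⟩

omit [Fintype G] in
theorem inv3 {x y k : G} (h1 : x * k * (x * k) = x * x) (h2 : y * k * (y * k) = y * y)
    (h3 : x * y * k * (x * y * k) = x * y * (x * y)) : k * (x * y) = x * y * k ∧ k * k = 1 := by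
  have e : ∀ x : G, x * k * (x * k) = x * x → k * x = x * k⁻¹ := fun x h => by
    rw [eq_mul_inv_iff_mul_eq]; exact mul_left_cancel (a := x) (by simpa only [mul_assoc] using h)
  have e1 : k * (x * y) = x * y * k := by
    rw [← mul_assoc, e x h1, mul_assoc, mul_assoc, mul_left_cancel_iff, inv_mul_eq_iff_eq_mul, ← mul_assoc, e y h2]
    simp
  exact ⟨e1, mul_eq_one_iff_eq_inv.2 (mul_left_cancel (e1.symm.trans (e _ h3)))⟩

theorem Hyp.inv (h : Hyp u) (hu : u ≠ 1) (h2 : u * u = 1) : Nonempty (G ≃* alternatingGroup (Fin 5)) := by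
  obtain ⟨f, hf, -, hc⟩ := h.struct hu
  obtain ⟨S⟩ : Nonempty (Sylow 2 G) := inferInstance
  obtain ⟨x, hx, y, hy, x1, y1, xy1, hS⟩ := exists_xy hf S
  have h1 : ∀ s ∈ S, f s ≠ 1 → ∀ k ∈ f.ker, s * k * (s * k) = 1 := fun s hs s1 k hk => by
    obtain ⟨c, hc⟩ := isConj_iff.1 (hc (s * k) (by simpa [MonoidHom.mem_ker.1 hk]) (by simpa [MonoidHom.mem_ker.1 hk] using hS s hs))
    simp [← hc, mul_assoc, ← mul_assoc u, h2]
  have h3 : ∀ s ∈ S, f s ≠ 1 → s * s = 1 := fun s hs s1 => by simpa using h1 s hs s1 1 (one_mem _)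
  have xy := S.mul_mem hx hy
  refine ⟨.ofBijective f ⟨(injective_iff_map_eq_one f).2 fun k hk => by_contra fun k1 => ?_, hf⟩⟩
  have h4 := (card_centralizer_eq_of_isConj (hc _ xy1 (hS _ xy))).symm.trans (h.main hu).2
  have h5 := (inv3 (by rw [h1 x hx x1 k hk, h3 x hx x1]) (by rw [h1 y hy y1 k hk, h3 y hy y1])
    (by rw [h1 _ xy xy1 k hk, h3 _ xy xy1])).1
  have h6 : y * x = x * y := by
    rw [eq_inv_of_mul_eq_one_left (h3 _ xy xy1), mul_inv_rev, inv_eq_of_mul_eq_one_left (h3 x hx x1),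
      inv_eq_of_mul_eq_one_left (h3 y hy y1)]
  classical
  have h7 := Finset.card_le_card (s := {1, k, x, y, x * y}) (t := Set.toFinset (centralizer ({x * y} : Set G)))
    (by simp [Set.insert_subset_iff, mem_centralizer_singleton_iff, h5, mul_assoc, h6, ← mul_assoc y])
  have n : ∀ a b, f a ≠ f b → a ≠ b := fun a b h e => h (e ▸ rfl)
  have n1 : f x ≠ f y := fun e => xy1 (by rw [map_mul, ← e, ← map_mul, h3 x hx x1, map_one])
  rw [Set.toFinset_card, ← Nat.card_eq_fintype_card, SetLike.coe_sort_coe, h4, Finset.card_insert_of_notMem,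
    Finset.card_insert_of_notMem, Finset.card_insert_of_notMem, Finset.card_pair] at h7
  · omega
  · exact n _ _ (by simpa using x1)
  · simpa using ⟨n _ _ n1, n _ _ (map_one f ▸ y1)⟩
  · simpa using ⟨n _ _ (hk ▸ x1.symm), n _ _ (hk ▸ y1.symm), n _ _ (hk ▸ xy1.symm)⟩
  · simpa using ⟨Ne.symm k1, n _ _ (map_one f ▸ x1.symm), n _ _ (map_one f ▸ y1.symm), n _ _ (map_one f ▸ xy1.symm)⟩

theorem Hyp.four (h : Hyp u) (hu : u ≠ 1) (h2 : u * u ≠ 1) : ∃ f : G →* alternatingGroup (Fin 5),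
    Function.Surjective f ∧ ∀ S : Sylow 2 G, Nonempty ((S : Subgroup G) ≃* QuaternionGroup 2) ∧
      ∃ w ∈ S, orderOf w = 2 ∧ w ∈ f.ker ∧ (∀ s ∈ S, s * w = w * s) ∧ ∀ k ∈ f.ker, k * w = w * k → k = 1 ∨ k = w := by
  classical
  obtain ⟨f, hf, -, hc⟩ := h.struct hu
  refine ⟨f, hf, fun S => ?_⟩
  obtain ⟨x, hx, y, hy, x1, y1, xy1, hS⟩ := exists_xy hf S
  have h0 : ∀ s, f s ≠ 1 → f s ^ 4 = 1 → orderOf s = 4 ∧ ∀ c, c * s = s * c → c ∈ zpowers s := fun s s1 s2 => by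
    have h4 := (card_centralizer_eq_of_isConj (hc s s1 s2)).symm.trans (h.main hu).2
    have h5 : s ∈ centralizer ({s} : Set G) := mem_centralizer_singleton_iff.2 rfl
    have h6 : orderOf s = 2 ^ 2 := orderOf_eq_prime_pow (fun e => h2 (by
      obtain ⟨c, rfl⟩ := isConj_iff.1 (hc s s1 s2)
      simpa [← sq] using e)) (orderOf_dvd_iff_pow_eq_one.1 ((orderOf_dvd_natCard _ h5).trans h4.dvd))
    exact ⟨h6, fun c hc => (eq_of_le_of_card_ge (zpowers_le.2 h5) (by rw [h4, Nat.card_zpowers, h6]; rfl)).ge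
      (mem_centralizer_singleton_iff.2 hc)⟩
  have h1 : ∀ s, f s ≠ 1 → f s ^ 4 = 1 → ∀ c, c * s = s * c → c * c = 1 → c = 1 ∨ c = s * s := fun s s1 s2 c c1 c2 => by
    obtain ⟨h3, h4⟩ := h0 s s1 s2
    obtain ⟨i, hi, rfl⟩ := (mem_zpowers_iff_mem_range_orderOf.1 (h4 c c1) |> Finset.mem_image.1)
    rw [← pow_add, ← orderOf_dvd_iff_pow_eq_one, h3] at c2
    rw [Finset.mem_range, h3] at hi
    obtain rfl | rfl : i = 0 ∨ i = 2 := by omega
    all_goals simp [sq]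
  have : Nontrivial (S : Subgroup G) := ⟨⟨x, hx⟩, 1, fun e => x1 (by simp [show x = 1 from congrArg Subtype.val e])⟩
  have := S.2.center_nontrivial
  obtain ⟨⟨⟨w, hw⟩, hw1⟩, hw2⟩ := exists_prime_orderOf_dvd_card' (G := center (S : Subgroup G)) 2
    ((S.2.to_subgroup _).card_eq_or_dvd.resolve_left Finite.one_lt_card.ne')
  rw [orderOf_mk, orderOf_mk] at hw2
  have w1 : ∀ s ∈ S, s * w = w * s := fun s hs => congrArg Subtype.val (mem_center_iff.1 hw1 ⟨s, hs⟩)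
  have w2 : w ≠ 1 := by rintro rfl; simp at hw2
  have w3 : ∀ s, f s ≠ 1 → f s ^ 4 = 1 → s * w = w * s → s * s = w := fun s s1 s2 s3 =>
    ((h1 s s1 s2 w s3.symm (by rw [← sq, ← hw2, pow_orderOf_eq_one])).resolve_left w2).symm
  have xy := S.mul_mem hx hy
  have w4 : ∀ k ∈ f.ker, k * w = w * k → k = 1 ∨ k = w := fun k hk k1 => by
    have e : ∀ s ∈ S, f s ≠ 1 → s * k * (s * k) = s * s := fun s hs s1 => by
      rw [w3 s s1 (hS s hs) (w1 s hs), w3 _ (by simpa [MonoidHom.mem_ker.1 hk]) (by simpa [MonoidHom.mem_ker.1 hk] using hS s hs)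
        (by rw [mul_assoc, k1, ← mul_assoc, w1 s hs, mul_assoc])]
    obtain ⟨e1, e2⟩ := inv3 (e x hx x1) (e y hy y1) (e _ xy xy1)
    exact w3 _ xy1 (hS _ xy) (w1 _ xy) ▸ h1 _ xy1 (hS _ xy) k e1 e2
  refine ⟨?_, w, hw, hw2, ?_, w1, w4⟩
  swap
  · rw [← w3 x x1 (hS x hx) (w1 x hx), MonoidHom.mem_ker, map_mul, (A5_conj (hS x hx) x1 (hS x hx) x1).1]
  have w5 : ∀ s ∈ S, s ^ 4 = 1 ∧ (orderOf s = 2 → s = w) := fun s hs => by
    by_cases s1 : f s = 1
    · rcases w4 s s1 (w1 s hs) with rfl | rfl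
      · simp
      · simp [← orderOf_dvd_iff_pow_eq_one, hw2]
    · simp [← orderOf_dvd_iff_pow_eq_one, (h0 s s1 (hS s hs)).1]
  rcases H04.isCyclic_or_quaternion_of_unique S.2 (fun H K hH hK => by
    have k : ∀ H : Subgroup (S : Subgroup G), Nat.card H = 2 → H = zpowers ⟨w, hw⟩ := fun H hH => by
      obtain ⟨⟨⟨s, hs⟩, hs1⟩, hs2⟩ := exists_prime_orderOf_dvd_card' (G := H) 2 hH.symm.dvd
      rw [orderOf_mk, orderOf_mk] at hs2
      obtain rfl := (w5 s hs).2 hs2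
      exact (eq_of_le_of_card_ge (zpowers_le.2 hs1) (by rw [hH, Nat.card_zpowers, orderOf_mk, hs2])).symm
    rw [k H hH, k K hK]) with h3 | ⟨-, n, ⟨e⟩⟩
  · obtain ⟨i, hi, rfl⟩ := Finset.mem_image.1 (mem_zpowers_iff_mem_range_orderOf.1 ((h0 x x1 (hS x hx)).2 y
      (congrArg Subtype.val (h3.isMulCommutative.is_comm.comm ⟨y, hy⟩ ⟨x, hx⟩))))
    have e := (A5_conj (hS x hx) x1 (hS x hx) x1).1
    rw [Finset.mem_range, (h0 x x1 (hS x hx)).1] at hi
    interval_cases i <;> simp [pow_succ, e] at y1 xy1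
  obtain rfl : n = 0 := by
    have e1 : (e.symm (.a 1)) ^ 4 = 1 := Subtype.ext (w5 _ (e.symm (.a 1)).2).1
    rw [← map_pow, EmbeddingLike.map_eq_one_iff, ← orderOf_dvd_iff_pow_eq_one, QuaternionGroup.orderOf_a_one,
      ← pow_succ'] at e1
    have := (Nat.pow_dvd_pow_iff_le_right (k := n + 1 + 1) (l := 2) one_lt_two).1 e1
    omega
  exact ⟨e⟩

end H07.D4
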