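import Cfsg.Agent.H07.Deg
import Cfsg.Agent.H07.Cnt
import Cfsg.Agent.H06.Mackey
import Cfsg.Agent.H26.Syl
import Cfsg.Agent.H16.HallConv
import Cfsg.Agent.H01.Gaschutz

/-! Fully ramified characters (DeMeyer–Janusz, Gagola). -/

namespace H07
open Cfsg H05 H06 H01
open scoped ComplexConjugate commutatorElement Pointwise

variable {G : Type*} [Group G] {χ : G → ℂ}

theorem inner_eq_one_of_cyclic_inv [Fintype G] (N : Subgroup G) [N.Normal] [Fintype N] (hc : IsCyclic (G ⧸ N))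
    (hχ : IsIrrCharacter G χ) {θ : N → ℂ} (hθ : IsIrrCharacter N θ) (hinv : ∀ g, conjFun N g θ = θ)
    (h : classInner (fun n : N => χ n) θ ≠ 0) : (fun n : N => χ n) = θ := by
  obtain ⟨ξ, h1, h2⟩ := exists_ext_of_cyclic N hc hθ hinv
  obtain rfl : θ = fun n : N => ξ n := funext fun n => (h2 n).symm
  obtain ⟨β, h3, h4, rfl⟩ := gallagher_one_surj N h1.isCharacter hθ hχ h
  obtain ⟨γ, h5, h6⟩ := h3.exists_quotient N h4
  have h7 : β 1 = 1 := (congrFun h6 1).trans h5.apply_one_of_comm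
  exact funext fun n => by rw [Pi.mul_apply, h4 n n.2, h7, one_mul]

theorem isCyclic_quot_subgroupOf (N T : Subgroup G) [N.Normal] (hc : IsCyclic (G ⧸ N)) :
    IsCyclic (T ⧸ N.subgroupOf T) :=
  isCyclic_of_injective (QuotientGroup.map _ N T.subtype le_rfl) ((injective_iff_map_eq_one _).2 fun x hx => by
    obtain ⟨x, rfl⟩ := QuotientGroup.mk_surjective x
    exact (QuotientGroup.eq_one_iff _).2 ((QuotientGroup.eq_one_iff (x : G)).1 hx))

theorem inner_eq_one_of_cyclic [Fintype G] (N : Subgroup G) [N.Normal] [Fintype N] (hc : IsCyclic (G ⧸ N))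
    (hχ : IsIrrCharacter G χ) {θ : N → ℂ} (hθ : IsIrrCharacter N θ)
    (h : classInner (fun n : N => χ n) θ ≠ 0) : classInner (fun n : N => χ n) θ = 1 := by
  classical
  have hle := le_inertia N hθ.isClassFunction
  obtain ⟨ψ, h1, -, h2⟩ := clifford_corr_surj N _ hle hθ rfl hχ h
  rw [← h2, ← classInner_subgroupOf N _ hle] at h ⊢
  have h3 := (isIrr_subgroupOf_iff N _ hle θ).2 hθ
  rw [inner_eq_one_of_cyclic_inv _ (isCyclic_quot_subgroupOf N _ hc) h1 h3
    (fun g => conjFun_subgroupOf N _ hle g g.2) h, h3.classInner_self]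

theorem sq_eq_relIndex_inertia [Fintype G] (N : Subgroup G) [N.Normal] [Fintype N] (hχ : IsIrrCharacter G χ)
    (h0 : ∀ g, g ∉ N → χ g = 0) {θ : N → ℂ} (hθ : IsIrrCharacter N θ) {a : ℕ} (ha0 : a ≠ 0)
    (ha : classInner (fun n : N => χ n) θ = a) : a ^ 2 = N.relIndex (inertia N θ) := by
  have h1 := clifford_norm N hχ hθ (by rw [ha]; exact_mod_cast ha0)
  rw [(norm_res_eq_index_iff N hχ).2 h0, ha,
    ← Subgroup.relIndex_mul_index (le_inertia N hθ.isClassFunction)] at h1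
  exact (Nat.eq_of_mul_eq_mul_right (Nat.pos_of_ne_zero (inertia N θ).index_ne_zero_of_finite)
    (by exact_mod_cast h1)).symm

theorem dvd_of_indFun_eq [Fintype G] (N : Subgroup G) [N.Normal] [Fintype N] (hχ : IsIrrCharacter G χ)
    {θ : N → ℂ} (hθ : IsIrrCharacter N θ) {a c : ℕ} (ha0 : a ≠ 0) (ha : classInner (fun n : N => χ n) θ = a)
    {β : N → ℂ} (hβ : IsCharacter N β) (h : classInner (indFun N β) χ = c) : a ∣ c := by
  obtain ⟨m, h1, h2⟩ := hβ.exists_nat_coeff
  rw [frobenius_reciprocity N β χ hχ.isClassFunction, h2, H05.classInner_sum_left] at h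
  have h3 : ∀ ψ : IrrCharacter N, ∃ k : ℕ, classInner ψ.1 (fun n : N => χ n) = a * k := fun ψ => by
    rw [ψ.2.isCharacter.classInner_comm (hχ.isCharacter.restrict N)]
    by_cases h4 : classInner (fun n : N => χ n) ψ.1 = 0
    · exact ⟨0, by simp [h4]⟩
    · obtain ⟨g, hg⟩ := exists_conj_of_constituent N hχ hθ ψ.2 (by rw [ha]; exact_mod_cast ha0) h4
      exact ⟨1, by rw [← hg, classInner_res_conjFun N hχ.isClassFunction, ha]; simp⟩
  choose k hk using h3
  refine ⟨∑ ψ, m ψ * k ψ, ?_⟩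
  simp only [H05.classInner_smul_left, hk] at h
  have : (c : ℂ) = (a * ∑ ψ, m ψ * k ψ : ℕ) := by
    rw [← h]; push_cast; rw [Finset.mul_sum]; exact Finset.sum_congr rfl fun _ _ => by ring
  exact_mod_cast this

theorem sum_eq_sum_subgroup [Fintype G] (Z : Subgroup G) [Fintype Z] {f : G → ℂ} (h : ∀ g, g ∉ Z → f g = 0) :
    ∑ g, f g = ∑ z : Z, f z := by
  classical
  rw [← Finset.sum_subset (Finset.subset_univ (Finset.univ.filter (· ∈ Z))) fun x _ hx => h x (by simpa using hx)]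
  exact Finset.sum_subtype _ (by simp) f

theorem index_mul_inner [Fintype G] (Z : Subgroup G) [Fintype Z] (h : ∀ g, g ∉ Z → χ g = 0) (η : G → ℂ) :
    Z.index * classInner χ η = classInner (fun z : Z => χ z) fun z : Z => η z := by
  rw [H05.classInner_def, H05.classInner_def, sum_eq_sum_subgroup Z fun g hg => by rw [h g hg, zero_mul],
    ← Z.index_mul_card, Nat.cast_mul, mul_inv, ← mul_assoc, mul_inv_cancel_left₀]
  exact_mod_cast Z.index_ne_zero_of_finite

/-- DeMeyer–Janusz -/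
theorem fr_pgroup [Fintype G] {p k t e : ℕ} [hp : Fact p.Prime] (Z : Subgroup G) [Z.Normal] (hk : Z.index = p ^ k)
    (ht : ¬ p ∣ t) (he : e ^ 2 = t * Z.index) (hχ : IsCharacter G χ) (h0 : ∀ g, g ∉ Z → χ g = 0) {θ : Z → ℂ}
    (hθ : IsIrrCharacter Z θ) (h : ∀ z : Z, χ z = e * θ z) :
    ∃ (η : G → ℂ) (c : ℕ), IsIrrCharacter G η ∧ ¬ p ∣ c ∧ χ = (c : ℂ) • η := by
  classical
  have hi : (Z.index : ℂ) ≠ 0 := by exact_mod_cast Z.index_ne_zero_of_finite
  have he0 : e ≠ 0 := by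
    rintro rfl
    exact mul_ne_zero (by rintro rfl; exact ht (dvd_zero p)) Z.index_ne_zero_of_finite he.symm
  have h' : (fun z : Z => χ z) = (e : ℂ) • θ := funext h
  obtain ⟨η, h1, h2⟩ := hχ.exists_constituent fun e' => hθ.apply_one_ne_zero (by
    have := h 1
    rw [e'] at this
    simpa [he0] using this)
  obtain ⟨c, hc⟩ := hχ.exists_classInner_eq_nat h1.isCharacter
  have h3 := index_mul_inner Z h0 η
  rw [h', H05.classInner_smul_left, hθ.isCharacter.classInner_comm (h1.isCharacter.restrict Z)] at h3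
  obtain ⟨f, hf0, hf, hf'⟩ := exists_res_eq_smul Z h1 hθ (fun e' => mul_ne_zero hi h2 (by rw [h3, e', mul_zero]))
    fun g => smul_right_injective _ (by exact_mod_cast he0 : (e : ℂ) ≠ 0) (by
      simp only [← conjFun_smul, ← h', conjFun_res Z hχ.isClassFunction])
  have h4 : Z.index * c = e * f := by rw [hc, hf] at h3; exact_mod_cast h3
  have h5 := sq_le_index Z h1 hθ hf'
  have h6 : Z.index * c ^ 2 = t * f ^ 2 := Nat.eq_of_mul_eq_mul_left
    (Nat.pos_of_ne_zero Z.index_ne_zero_of_finite) (by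
      calc Z.index * (Z.index * c ^ 2) = (Z.index * c) ^ 2 := by ring
        _ = _ := by rw [h4, mul_pow, he]; ring)
  have h7 : f ^ 2 = Z.index := le_antisymm h5 (Nat.le_of_dvd (by positivity)
    ((hk ▸ ((Nat.Prime.coprime_iff_not_dvd hp.out).2 ht).pow_left k : Z.index.Coprime t).dvd_of_dvd_mul_left
      ⟨_, h6.symm⟩))
  have h8 : c ^ 2 = t := Nat.eq_of_mul_eq_mul_left (Nat.pos_of_ne_zero Z.index_ne_zero_of_finite)
    (by rw [h6, h7, mul_comm])
  refine ⟨η, c, h1, fun h => ht (h8 ▸ dvd_pow h two_ne_zero), sub_eq_zero.1 ((H05.classInner_self_eq_zero _).1 ?_)⟩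
  have h9 : classInner χ χ = c ^ 2 := mul_left_cancel₀ hi (by
    rw [index_mul_inner Z h0, norm_res_of_eq_smul Z hθ h', he, ← h8]; push_cast; ring)
  rw [H05.classInner_sub_left, H05.classInner_sub_right, H05.classInner_sub_right, H05.classInner_smul_left,
    H05.classInner_smul_left, H05.classInner_natCast_smul_right, H05.classInner_natCast_smul_right,
    h1.isCharacter.classInner_comm hχ, h9, hc, h1.classInner_self]
  ring

theorem fr_compl [Finite G] {p e : ℕ} [hp : Fact p.Prime] {Z K : Subgroup G} [Z.Normal] [K.Normal] (hZK : Z ≤ K)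
    (hχ : IsIrrCharacter G χ) {θ : Z → ℂ} (hθ : IsIrrCharacter Z θ) (he : e ^ 2 = Z.index)
    (h : ∀ z : Z, χ z = e * θ z) (P : Sylow p (G ⧸ K))
    (H : ∀ (S : Subgroup G) [Fintype S] [Fintype (K.subgroupOf S)] (η : S → ℂ) (c a : ℕ) (ψ : K.subgroupOf S → ℂ),
      S.map (QuotientGroup.mk' K) = P → IsIrrCharacter S η → ¬ p ∣ c → (fun s : S => χ s) = (c : ℂ) • η →
      IsIrrCharacter _ ψ → a ≠ 0 → classInner (fun n : K.subgroupOf S => η n) ψ = a → p ∣ a → False) :
    ∃ M : Subgroup (G ⧸ K), M.IsComplement' (P : Subgroup (G ⧸ K)) := by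
  classical
  letI := Fintype.ofFinite G
  have h0 := (fullyRamified_iff_vanish Z hχ hθ (funext h)).1 he
  obtain ⟨S0, rfl⟩ := Sylow.mapSurjective_surjective (QuotientGroup.mk'_surjective K) p P
  set S := (S0 : Subgroup G) ⊔ Z with hS
  have hZS : Z ≤ S := le_sup_right
  have hmap : S.map (QuotientGroup.mk' K) = (S0 : Subgroup G).map (QuotientGroup.mk' K) := by
    rw [hS, Subgroup.map_sup, (Subgroup.map_eq_bot_iff Z).2 (by rwa [QuotientGroup.ker_mk']), sup_bot_eq]
  have hpk : ∀ X : Subgroup G, Z ≤ X → ∃ k, X.relIndex S = p ^ k := fun X hX => by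
    obtain ⟨a, ha⟩ := IsPGroup.iff_card.1 S0.2
    obtain ⟨k, -, hk⟩ := (Nat.dvd_prime_pow hp.out).1 ((Subgroup.relIndex_dvd_of_le_left S hX).trans
      (by rw [hS, Subgroup.relIndex_sup_right, ← ha]; exact Subgroup.relIndex_dvd_card _ _))
    exact ⟨k, hk⟩
  obtain ⟨k, hk⟩ := hpk Z le_rfl
  obtain ⟨η, c, h1, h2, h3⟩ := fr_pgroup (Z.subgroupOf S) (t := S.index) (e := e) hk
    (fun h => S0.not_dvd_index (h.trans (Subgroup.index_dvd_of_le le_sup_left)))
    (by rw [he, mul_comm]; exact (Subgroup.relIndex_mul_index hZS).symm) (hχ.isCharacter.restrict S)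
    (fun g hg => h0 g hg) ((isIrr_subgroupOf_iff Z S hZS θ).2 hθ) fun z => h ⟨z, z.2⟩
  set R := S ⊓ K with hR
  have hRS : R ≤ S := inf_le_left
  have hZR : Z ≤ R := le_inf hZS hZK
  have hSR : S ≤ Subgroup.normalizer (R : Set G) :=
    le_normalizer_inf Subgroup.le_normalizer (le_normalizer_of_normal _ _)
  obtain ⟨ψ, h4, h5⟩ := exists_mult_under (Subgroup.inclusion hRS) h1
  have hc0 : (c : ℂ) ≠ 0 := by exact_mod_cast fun e : c = 0 => h2 (e ▸ dvd_zero p)
  have hm : ∀ φ, IsCharacter R φ → (mult R.subtype χ φ : ℂ) = c * mult (Subgroup.inclusion hRS) η φ := fun φ hφ => by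
    rw [mult_eq _ hχ.isCharacter hφ, mult_eq _ h1.isCharacter hφ, ← H05.classInner_smul_left]
    exact congrArg (classInner · φ) (funext fun r => congrFun h3 ⟨r, hRS r.2⟩)
  set N := Subgroup.normalizer (R : Set G)
  have a1 : ∀ n ∈ N, ∃ m ∈ stab ψ, ∃ s ∈ S, n = m * s := fun n hn => by
    have h6 := h4.comp_mulEquiv (cjA hn)
    obtain ⟨s, hs, e⟩ := exists_cjA_of_under hRS hSR h1 h4 h6 h5 (by
      have := hm _ h6.isCharacter
      rw [mult_congr (ι := R.subtype) (ι' := R.subtype) (χ := χ) (χ' := χ) (ψ := ψ) (ψ' := fun x => ψ (cjA hn x))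
        (cjA hn).toEquiv (fun r => (hχ.isClassFunction r n).symm) (fun _ => rfl), hm _ h4.isCharacter] at this
      rwa [← Nat.cast_inj.1 (mul_left_cancel₀ hc0 this)])
    refine ⟨n * s⁻¹, (mem_stab (N.mul_mem hn (N.inv_mem (hSR hs)))).2 fun r => ?_, s, hs, by group⟩
    refine Eq.trans ?_ ((congrFun e (cjA (N.inv_mem (hSR hs)) r)).trans ?_) <;> congr 1 <;> ext <;> simp [mul_assoc]
  have hRM : R ≤ stab ψ := le_stab_self h4.isClassFunction
  have a2 : N ⊓ K ≤ stab ψ := by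
    obtain ⟨j, hj⟩ := hpk (stab ψ) (hZR.trans hRM)
    have b1 : (stab ψ).relIndex (N ⊓ K) ∣ (stab ψ).relIndex N := by
      have := H27.relIndex_dvd_index_of_normal_right ((stab ψ).subgroupOf N) (K.subgroupOf N)
      rwa [← Subgroup.inf_subgroupOf_left K, Subgroup.relIndex_subgroupOf inf_le_left] at this
    have b2 : (stab ψ).relIndex N = (stab ψ).relIndex S := by
      refine (Nat.card_eq_of_bijective (Subgroup.quotientSubgroupOfEmbeddingOfLE (stab ψ) hSR) ⟨?_, ?_⟩).symm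
      · exact (Subgroup.quotientSubgroupOfEmbeddingOfLE _ hSR).injective
      · intro x
        obtain ⟨n, rfl⟩ := QuotientGroup.mk_surjective x
        obtain ⟨m, hm, s, hs, e⟩ := a1 _ (N.inv_mem n.2)
        refine ⟨(⟨s⁻¹, S.inv_mem hs⟩ : S), QuotientGroup.eq.2 ?_⟩
        show s⁻¹⁻¹ * (n : G) ∈ stab ψ
        rw [inv_inv, ← inv_mem_iff, mul_inv_rev, e, mul_inv_cancel_right]
        exact hm
    have b3 : ¬ p ∣ R.relIndex (N ⊓ K) := fun h => ((H26.isSyl_top S0).inf_of_le (N := K) le_top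
      (le_normalizer_of_normal _ _) |>.mono (le_inf ((inf_le_inf_right K le_sup_left).trans
        Subgroup.le_normalizer) inf_le_right) inf_le_right).not_dvd
        (h.trans (Subgroup.relIndex_dvd_of_le_left _ (inf_le_inf_right K le_sup_left)))
    exact Subgroup.relIndex_eq_one.1 (Nat.eq_one_of_dvd_coprimes
      (((Nat.Prime.coprime_iff_not_dvd hp.out).2 b3).pow_left j) (hj ▸ b2 ▸ b1)
      (Subgroup.relIndex_dvd_of_le_left _ hRM))
  have a3 : S ⊓ stab ψ ≤ K := by
    let f : K.subgroupOf S ≃* R := (MulEquiv.subgroupCongr (Subgroup.inf_subgroupOf_left K S).symm).trans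
      (Subgroup.subgroupOfEquivOfLe hRS)
    have b1 := h4.comp_mulEquiv f
    have b2 : classInner (fun n : K.subgroupOf S => η n) (fun n => ψ (f n)) = mult (Subgroup.inclusion hRS) η ψ := by
      rw [mult_eq _ h1.isCharacter h4.isCharacter]
      exact H05.classInner_comp_mulEquiv (fun r : R => η (Subgroup.inclusion hRS r)) ψ f
    have b3 := sq_eq_relIndex_inertia (K.subgroupOf S) h1 (fun g hg => by
      have := congrFun h3 g
      rw [h0 g fun h => hg (hZK h)] at this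
      simpa [hc0] using this) b1 h5 b2
    obtain ⟨j, hj⟩ := hpk K hZK
    obtain ⟨i, -, hi⟩ := (Nat.dvd_prime_pow hp.out).1
      (hj ▸ (b3 ▸ Subgroup.relIndex_dvd_index_of_normal _ _ :
        mult (Subgroup.inclusion hRS) η ψ ^ 2 ∣ K.relIndex S))
    rcases i with _ | i
    · have b4 := Subgroup.relIndex_eq_one.1 (b3.symm.trans hi)
      exact fun x hx => b4 (show (⟨x, hx.1⟩ : S) ∈ inertia _ _ from
        (mem_inertia' _).2 fun n => stab_apply hx.2 rfl)
    · exact (H S η c _ _ hmap h1 h2 h3 b1 h5 b2 (hp.out.dvd_of_dvd_pow (hi ▸ dvd_pow_self p i.succ_ne_zero))).elim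
  have a4 : ∀ g : G, ∃ m ∈ stab ψ, ∃ s ∈ S, (g : G ⧸ K) = (m : G ⧸ K) * s := fun g => by
    obtain ⟨y, hy, x, hx, rfl⟩ := ((H26.isSyl_top S0).inf_of_le (N := K) le_top
      (le_normalizer_of_normal _ _)).frattini' (H := ⊤) (le_normalizer_of_normal _ _) (Subgroup.mem_top g)
    have : Subgroup.normalizer ((S0 ⊓ K : Subgroup G) : Set G) ≤ N := by
      have e : R = ((S0 : Subgroup G) ⊓ K) ⊔ Z := by
        rw [hR, hS, inf_comm, sup_comm, dedekind_of_le_normalizer hZK (le_normalizer_of_normal _ _), sup_comm,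
          inf_comm]
      simp only [N, e]
      exact le_normalizer_sup le_rfl (le_normalizer_of_normal _ _)
    obtain ⟨m, hm, s, hs, rfl⟩ := a1 y (this hy)
    exact ⟨m, hm, s, hs, by simp [(QuotientGroup.eq_one_iff x).2 hx]⟩
  refine ⟨(stab ψ).map (QuotientGroup.mk' K), Subgroup.isComplement'_of_disjoint_and_mul_eq_univ ?_ ?_⟩
  · rw [Sylow.coe_mapSurjective, ← hmap, Subgroup.disjoint_def]
    rintro _ ⟨m, hm, rfl⟩ ⟨s, hs, e⟩
    have b1 : s⁻¹ * m ∈ K := QuotientGroup.eq.1 e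
    have b2 := a2 (Subgroup.mem_inf.2 ⟨N.mul_mem (N.inv_mem (hSR hs)) (stab_le_normalizer ψ hm), b1⟩)
    exact e.symm.trans ((QuotientGroup.eq_one_iff s).2 (a3 (Subgroup.mem_inf.2
      ⟨hs, inv_mem_iff.1 ((Subgroup.mul_mem_cancel_right _ hm).1 b2)⟩)))
  · rw [Sylow.coe_mapSurjective, ← hmap, Set.eq_univ_iff_forall]
    intro x
    obtain ⟨g, rfl⟩ := QuotientGroup.mk_surjective x
    obtain ⟨m, hm, s, hs, e⟩ := a4 g
    exact ⟨_, ⟨m, hm, rfl⟩, _, ⟨s, hs, rfl⟩, e.symm⟩

theorem fr_compl_of_cyclic [Finite G] {p e : ℕ} [hp : Fact p.Prime] {Z K : Subgroup G} [Z.Normal] [K.Normal]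
    (hZK : Z ≤ K) (hχ : IsIrrCharacter G χ) {θ : Z → ℂ} (hθ : IsIrrCharacter Z θ) (he : e ^ 2 = Z.index)
    (h : ∀ z : Z, χ z = e * θ z) (P : Sylow p (G ⧸ K)) (hc : IsCyclic P) :
    ∃ M : Subgroup (G ⧸ K), M.IsComplement' (P : Subgroup (G ⧸ K)) := by
  refine fr_compl hZK hχ hθ he h P fun S _ _ η c a ψ h1 h2 _ _ h3 h4 h5 h6 => ?_
  have : IsCyclic (S ⧸ K.subgroupOf S) := by
    let f := QuotientGroup.map (K.subgroupOf S) K S.subtype le_rfl
    refine isCyclic_of_injective (f.codRestrict (P : Subgroup (G ⧸ K)) fun x => ?_)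
      ((injective_iff_map_eq_one _).2 fun x hx => ?_) <;> obtain ⟨x, rfl⟩ := QuotientGroup.mk_surjective x
    · exact h1 ▸ ⟨x, x.2, rfl⟩
    · exact (QuotientGroup.eq_one_iff _).2 ((QuotientGroup.eq_one_iff (x : G)).1 (congrArg Subtype.val hx))
  rw [inner_eq_one_of_cyclic _ this h2 h3 (by rw [h5]; exact_mod_cast h4)] at h5
  obtain rfl : a = 1 := by exact_mod_cast h5.symm
  exact hp.out.not_dvd_one h6

theorem fr_solvable [Fintype G] {e : ℕ} {Z K : Subgroup G} [Z.Normal] [hK : K.Normal]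
    (hZK : Z ≤ K) (hχ : IsIrrCharacter G χ) {θ : Z → ℂ} (hθ : IsIrrCharacter Z θ) (he : e ^ 2 = Z.index)
    (h : ∀ z : Z, χ z = e * θ z) {φ : K → ℂ} (hφ : IsCharacter K φ) (hind : indFun K φ = χ) :
    Group.IsSolvable (G ⧸ K) := by
  classical
  refine H16.hall_converse' fun p hp => ?_
  haveI := Fact.mk hp
  obtain ⟨P⟩ : Nonempty (Sylow p (G ⧸ K)) := inferInstance
  suffices ∃ M : Subgroup (G ⧸ K), M.IsComplement' (P : Subgroup (G ⧸ K)) from
    this.imp fun M hM => hM.symm.index_eq_card.trans P.card_eq_multiplicity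
  refine fr_compl hZK hχ hθ he h P fun S _ _ η c a ψ _ h2 h3 h4 h5 h6 h7 h8 => h3 (h8.trans ?_)
  letI := @Fintype.ofFinite (DoubleCoset.Quotient (S : Set G) K) (Quotient.finite _)
  refine dvd_of_indFun_eq _ h2 h5 h6 h7 (β := ∑ q : DoubleCoset.Quotient (S : Set G) K,
    fun n => conjFun K q.out⁻¹ φ ⟨n, n.2⟩) (H05.Cfsg.IsCharacter.sum _ fun q _ => (isCharacter_conjFun K hφ _).comp
      (S.subtype.subgroupComap K)) ?_
  have : indFun (K.subgroupOf S) (∑ q : DoubleCoset.Quotient (S : Set G) K, fun n => conjFun K q.out⁻¹ φ ⟨n, n.2⟩) =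
      fun s : S => χ s := by
    ext s
    rw [← hind, mackey K S φ hφ.isClassFunction, indFun_sum, Finset.sum_apply]
    refine Finset.sum_congr rfl fun q _ => congrFun (indFun_congr (Subgroup.ext fun x => ?_) _ _ fun x hx => ?_) s
    · exact (mem_mackeySub K S).trans hK.mem_comm_iff |>.trans (by simp [Subgroup.mem_subgroupOf]) |>.symm
    · simp [H06.conjFun, mackeyFun]
  rw [this, h4, H05.classInner_smul_left, h2.classInner_self, mul_one]

theorem sum_coset_mul_conj [Fintype G] (N : Subgroup G) [N.Normal] [Fintype N] {α β : G → ℂ} (hα : IsCharacter G α)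
    (hβ : IsCharacter G β) (h : classInner (fun n : N => α n) (fun n : N => β n) = 0) (g : G) :
    ∑ n : N, α (n * g) * conj (β (n * g)) = 0 := by
  obtain ⟨η, h1, h2, -⟩ := exists_cosetAvg N (hα.mul hβ.conj)
  have h3 := h2 1
  have h4 := H05.card_mul_classInner (fun n : N => α n) (fun n : N => β n)
  simp only [mul_one, Pi.mul_apply] at h3
  rw [h, mul_zero, h3] at h4
  have h5 : η = 0 := h1.eq_zero_of_apply_one (mul_left_cancel₀ card_ne_zero_complex (h4.symm.trans (mul_zero _).symm))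
  simpa [h5] using h2 g

theorem fr_not_self_cent [Finite G] {e : ℕ} {Z : Subgroup G} [Z.Normal] (hχ : IsIrrCharacter G χ) {θ : Z → ℂ}
    (hθ : IsIrrCharacter Z θ) (he : e ^ 2 = Z.index) (h : ∀ z : Z, χ z = e * θ z) (hZ : Z ≠ ⊤)
    (C : Subgroup (G ⧸ Z)) (hC : IsCyclic C) : Subgroup.centralizer (C : Set (G ⧸ Z)) ≠ C := by
  classical
  letI := Fintype.ofFinite G
  intro hc
  have h0 := (fullyRamified_iff_vanish Z hχ hθ (funext h)).1 he
  have h1 := (fullyRamified_iff_unique Z hχ hθ (funext h)).1 he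
  obtain ⟨x, rfl⟩ := (Subgroup.isCyclic_iff_exists_zpowers_eq_top C).1 hC
  obtain ⟨x, rfl⟩ := QuotientGroup.mk_surjective x
  rw [Subgroup.zpowers_eq_closure, Subgroup.centralizer_closure, ← Subgroup.zpowers_eq_closure] at hc
  set U := (Subgroup.zpowers (x : G ⧸ Z)).comap (QuotientGroup.mk' Z)
  have hZU : Z ≤ U := fun z hz => by simp [U, (QuotientGroup.eq_one_iff z).2 hz]
  have hx : x ∉ Z := fun hx => hZ (eq_top_iff.2 fun g _ => by
    have : (g : G ⧸ Z) ∈ Subgroup.zpowers (x : G ⧸ Z) := hc ▸ Subgroup.mem_centralizer_singleton_iff.2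
      (by simp [(QuotientGroup.eq_one_iff x).2 hx])
    simpa [(QuotientGroup.eq_one_iff x).2 hx] using this)
  have hcyc : IsCyclic (U ⧸ Z.subgroupOf U) := by
    let f := QuotientGroup.map (Z.subgroupOf U) Z U.subtype le_rfl
    refine isCyclic_of_injective (f.codRestrict (Subgroup.zpowers (x : G ⧸ Z)) fun y => ?_)
      ((injective_iff_map_eq_one _).2 fun y hy => ?_) <;> obtain ⟨y, rfl⟩ := QuotientGroup.mk_surjective y
    · exact y.2
    · exact (QuotientGroup.eq_one_iff _).2 ((QuotientGroup.eq_one_iff (y : G)).1 (congrArg Subtype.val hy))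
  have h2 := (isIrr_subgroupOf_iff Z U hZU θ).2 hθ
  obtain ⟨η, h3, h4⟩ := exists_ext_of_cyclic _ hcyc h2 fun g =>
    conjFun_subgroupOf Z U hZU g (conjFun_eq_of_res_eq_smul Z hχ (funext h) g)
  have h5 : (fun n : Z.subgroupOf U => η n) = _ := funext h4
  let y : U := ⟨x, Subgroup.mem_zpowers _⟩
  let f : U → ℂ := fun u => if ((u : G) : G ⧸ Z) = x then η u else 0
  have hs : ∀ F : U → ℂ, ∑ u, f u * F u = ∑ n : Z.subgroupOf U, η (n * y) * F (n * y) := fun F => by
    rw [← Equiv.sum_comp (Equiv.mulRight y), sum_eq_sum_subgroup (Z.subgroupOf U) fun u hu => ?_]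
    · exact Finset.sum_congr rfl fun n _ => by
        simp [f, y, (QuotientGroup.eq_one_iff (n : G)).2 n.2]
    · have : ¬ ((u : G) : G ⧸ Z) = 1 := fun e => hu ((QuotientGroup.eq_one_iff (u : G)).1 e)
      simp [f, y, this]
  have hcomm : ∀ u : U, ((u : G) : G ⧸ Z) * x = x * u := fun u =>
    Subgroup.mem_centralizer_singleton_iff.1 (hc.ge u.2)
  have hf : IsClassFunction U f := fun u v => by
    have : ((v * u * v⁻¹ : U) : G ⧸ Z) = x ↔ ((u : G) : G ⧸ Z) = x := by
      simp only [Subgroup.coe_mul, Subgroup.coe_inv, QuotientGroup.mk_mul, QuotientGroup.mk_inv, mul_inv_eq_iff_eq_mul,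
        ← hcomm, mul_right_inj]
    simp only [f, this, h3.isClassFunction u v]
  have h6 : indFun U f = 0 := (indFun_isClassFunction U f).eq_zero_of_classInner fun ψ hψ => by
    rw [frobenius_reciprocity U f ψ hψ.isClassFunction, H05.classInner_def, hs]
    by_cases h7 : classInner (fun n : Z => ψ n) θ = 0
    · rw [sum_coset_mul_conj _ h3.isCharacter (hψ.isCharacter.restrict U), mul_zero]
      rw [h5, H05.classInner_eq_zero_comm]
      exact (classInner_subgroupOf Z U hZU (fun u : U => ψ u) θ).trans h7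
    · rw [h1 ψ hψ h7, Finset.sum_eq_zero fun n _ => ?_, mul_zero]
      rw [h0 (n * y : U) fun hn => hx ((Z.mul_mem_cancel_left n.2).1 hn), map_zero, mul_zero]
  have h7 : ∀ u, f u = 0 := fun u => by
    by_cases hu : ((u : G) : G ⧸ Z) = x
    · rw [← indFun_apply_eq_of_ti U {g | (g : G ⧸ Z) = x} f hf (fun v hv => if_neg hv) u fun g hg => hc.le
        (Subgroup.mem_centralizer_singleton_iff.2 (by simpa [hu, mul_inv_eq_iff_eq_mul] using hg)), h6, Pi.zero_apply]
    · exact if_neg hu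
  have h8 := coset_ip_self (Z.subgroupOf U) h3.isCharacter (h5 ▸ h2) y
  rw [← hs fun u => conj (η u)] at h8
  simp [h7] at h8

end H07
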