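import Cfsg.Agent.H07.Cnt
import Cfsg.Agent.H07.CharBasic
import Cfsg.Agent.H06.Degree

/-! The Feit–Thompson–Brauer bound for the degree of a character in the presence of an abelian
subgroup with the trivial intersection property (Isaacs 14.9). -/

namespace H07
open Cfsg H05 H06
open scoped ComplexConjugate commutatorElement Pointwise

variable {G : Type*} [Group G] {χ : G → ℂ}

theorem one_le_norm_of_ne_zero [Fintype G] (h : IsGeneralizedCharacter G χ) (h0 : χ ≠ 0) :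
    (Nat.card G : ℝ) ≤ ∑ g, ‖χ g‖ ^ 2 := by
  obtain ⟨n, hn⟩ := h.exists_classInner_self_eq_nat
  have h1 : n ≠ 0 := by
    rintro rfl
    exact h0 ((H05.classInner_self_eq_zero χ).1 (by simpa using hn))
  have h2 := H05.classInner_self_re χ
  rw [hn, Complex.natCast_re] at h2
  have h3 : (0 : ℝ) < Nat.card G := by exact_mod_cast Nat.card_pos
  have h4 : (1 : ℝ) ≤ n := by exact_mod_cast Nat.one_le_iff_ne_zero.2 h1
  rw [h2, le_inv_mul_iff₀ h3, mul_one] at h4
  exact h4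

theorem apply_mul_eq_of_fpf [Finite G] (H : Subgroup G) [hH : H.Normal] (hχ : IsClassFunction G χ) {x : G}
    (hx : ∀ h ∈ H, x * h = h * x → h = 1) {n : G} (hn : n ∈ H) : χ (n * x) = χ x := by
  let f : H → H := fun h => ⟨h * x * (h : G)⁻¹ * x⁻¹, by
    have := H.mul_mem h.2 (hH.conj_mem _ (H.inv_mem h.2) x)
    simpa [mul_assoc] using this⟩
  have hf : Function.Injective f := fun a b e => by
    have e1 : (a : G) * x * (a : G)⁻¹ * x⁻¹ = b * x * (b : G)⁻¹ * x⁻¹ := congrArg Subtype.val e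
    have e2 := hx ((b : G)⁻¹ * a) (H.mul_mem (H.inv_mem b.2) a.2) (by
      calc x * ((b : G)⁻¹ * a) = (b : G)⁻¹ * (b * x * (b : G)⁻¹ * x⁻¹) * x * a := by group
        _ = (b : G)⁻¹ * (a * x * (a : G)⁻¹ * x⁻¹) * x * a := by rw [e1]
        _ = _ := by group)
    exact Subtype.ext (inv_mul_eq_one.1 e2).symm
  obtain ⟨a, ha⟩ := Finite.injective_iff_surjective.1 hf ⟨n, hn⟩
  have e1 : (a : G) * x * (a : G)⁻¹ * x⁻¹ = n := congrArg Subtype.val ha
  rw [← e1, inv_mul_cancel_right, hχ]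

theorem ftb_core [Fintype G] (H : Subgroup G) [hH : H.Normal] [Fintype H] (hχ : IsCharacter G χ)
    (hker : ∃ h ∈ H, χ h ≠ χ 1) (Y : Finset G) (hY : ∀ x ∉ Y, ∀ h ∈ H, x * h = h * x → h = 1) :
    ∃ α : G → ℂ, (∀ g, ∑ n : H, χ (n * g) = Nat.card H * α g) ∧
      Nat.card G + ∑ x ∈ Y, ‖α x‖ ^ 2 ≤ ∑ x ∈ Y, ‖χ x‖ ^ 2 := by
  classical
  obtain ⟨η, h1, h2, h3⟩ := exists_cosetAvg H hχ
  set α : G → ℂ := fun g => η g with hα
  have hH0 : (Nat.card H : ℂ) ≠ 0 := card_ne_zero_complex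
  have hn : ∀ (n : H) g, α (n * g) = α g := fun n g => by
    simp only [hα, QuotientGroup.mk_mul, (QuotientGroup.eq_one_iff _).2 n.2, one_mul]
  have hoff : ∀ x ∉ Y, χ x = α x := fun x hx => by
    have := h2 x
    rw [Finset.sum_congr rfl fun n _ => apply_mul_eq_of_fpf H hχ.isClassFunction (hY x hx) n.2,
      Finset.sum_const, Finset.card_univ, nsmul_eq_mul, ← Nat.card_eq_fintype_card] at this
    exact mul_left_cancel₀ hH0 this
  have hne : χ - α ≠ 0 := fun e => by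
    obtain ⟨h, hh, hh'⟩ := hker
    have e1 := sub_eq_zero.1 e
    exact hh' (by rw [e1, ← hn ⟨h, hh⟩ 1, mul_one])
  have h4 := one_le_norm_of_ne_zero h3.isGeneralizedCharacter hne
  have h5 : ∑ x, χ x * conj (α x) = ∑ x, α x * conj (α x) := by
    refine mul_left_cancel₀ hH0 ?_
    calc (Nat.card H : ℂ) * ∑ x, χ x * conj (α x) = ∑ n : H, ∑ x, χ (n * x) * conj (α (n * x)) := by
          rw [Nat.card_eq_fintype_card, ← Finset.card_univ, ← nsmul_eq_mul, ← Finset.sum_const]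
          exact Finset.sum_congr rfl fun (n : H) _ =>
            (Equiv.sum_comp (Equiv.mulLeft (n : G)) (fun x => χ x * conj (α x))).symm
      _ = _ := by
          rw [Finset.sum_comm, Finset.mul_sum]
          refine Finset.sum_congr rfl fun x _ => ?_
          simp only [hn, ← Finset.sum_mul, h2, mul_assoc]
          rfl
  have h6 : ∑ x, ‖χ x‖ ^ 2 = ∑ x, ‖α x‖ ^ 2 + ∑ x, ‖(χ - α) x‖ ^ 2 := by
    have e : ∀ x, ‖(χ - α) x‖ ^ 2 = ‖χ x‖ ^ 2 + ‖α x‖ ^ 2 - 2 * (χ x * conj (α x)).re := fun x => by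
      simp only [Pi.sub_apply, ← Complex.normSq_eq_norm_sq, Complex.normSq_sub]
    have e2 : ∑ x, (χ x * conj (α x)).re = ∑ x, ‖α x‖ ^ 2 := by
      rw [← Complex.re_sum, h5, Complex.re_sum]
      exact Finset.sum_congr rfl fun x _ => by rw [Complex.mul_conj, Complex.ofReal_re, Complex.normSq_eq_norm_sq]
    simp only [e, Finset.sum_sub_distrib, Finset.sum_add_distrib, ← Finset.mul_sum, e2]
    ring
  refine ⟨α, h2, ?_⟩
  have h7 := Finset.sum_add_sum_compl Y fun x => ‖χ x‖ ^ 2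
  have h8 := Finset.sum_add_sum_compl Y fun x => ‖α x‖ ^ 2
  have h9 : ∑ x ∈ Yᶜ, ‖χ x‖ ^ 2 = ∑ x ∈ Yᶜ, ‖α x‖ ^ 2 :=
    Finset.sum_congr rfl fun x hx => by rw [hoff x (Finset.mem_compl.1 hx)]
  linarith

theorem sum_ti_lt [Fintype G] (hχ : IsIrrCharacter G χ) (N : Subgroup G) (X : Finset G) (h1 : 1 ∉ X)
    (hX : ∀ x ∈ X, ∀ g : G, g * x * g⁻¹ ∈ X → g ∈ N) : ∑ x ∈ X, ‖χ x‖ ^ 2 < Nat.card N := by
  classical
  have hG : (0 : ℝ) < Nat.card G := by exact_mod_cast Nat.card_pos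
  have hN : (0 : ℝ) < Nat.card N := by exact_mod_cast Nat.card_pos
  have e1 : (Nat.card G : ℝ) * ∑ x ∈ X, ‖χ x‖ ^ 2 =
      ∑ y, ((Finset.univ.filter fun g : G => g⁻¹ * y * g ∈ X).card : ℝ) * ‖χ y‖ ^ 2 := by
    simp only [Finset.card_filter, Nat.cast_sum, Finset.sum_mul]
    rw [Finset.sum_comm, Nat.card_eq_fintype_card, ← Finset.card_univ, ← nsmul_eq_mul, ← Finset.sum_const]
    refine Finset.sum_congr rfl fun g _ => ?_
    rw [← Equiv.sum_comp (MulAut.conj g).toEquiv, ← Finset.sum_subset (Finset.subset_univ X)]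
    · refine Finset.sum_congr rfl fun x hx => ?_
      simp [mul_assoc, hx, ← hχ.isClassFunction x g]
    · intro x _ hx
      simp [mul_assoc, hx]
  have e2 : ∀ y, ((Finset.univ.filter fun g : G => g⁻¹ * y * g ∈ X).card : ℝ) ≤ Nat.card N := fun y => by
    rcases (Finset.univ.filter fun g : G => g⁻¹ * y * g ∈ X).eq_empty_or_nonempty with h | ⟨a, ha⟩
    · rw [h]; simp
    · rw [Nat.cast_le, ← Nat.card_eq_finsetCard]
      refine Nat.card_le_card_of_injective (fun g => (⟨g.1⁻¹ * a, hX _ (Finset.mem_filter.1 ha).2 _ (by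
        simpa [mul_assoc] using (Finset.mem_filter.1 g.2).2)⟩ : N)) fun g g' e => ?_
      have := congrArg Subtype.val e
      exact Subtype.ext (by simpa using this)
  have e3 : ∑ y, ((Finset.univ.filter fun g : G => g⁻¹ * y * g ∈ X).card : ℝ) * ‖χ y‖ ^ 2 <
      ∑ y, (Nat.card N : ℝ) * ‖χ y‖ ^ 2 := by
    refine Finset.sum_lt_sum (fun y _ => mul_le_mul_of_nonneg_right (e2 y) (by positivity))
      ⟨1, Finset.mem_univ _, ?_⟩
    have : 0 < ‖χ 1‖ ^ 2 := by have := hχ.apply_one_ne_zero; positivity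
    simp only [mul_one, inv_mul_cancel, h1, Finset.filter_false, Finset.card_empty, Nat.cast_zero, zero_mul]
    positivity
  rw [← e1, ← Finset.mul_sum, hχ.sum_norm_sq, mul_comm] at e3
  exact lt_of_mul_lt_mul_right e3 hG.le

theorem ftb_core' [Fintype G] (H N : Subgroup G) [Fintype H] (hHN : H ≤ N) (hN : N ≤ Subgroup.normalizer H)
    (hχ : IsCharacter G χ) (hker : ∃ h ∈ H, χ h ≠ χ 1) (Y : Finset G) (hYN : ∀ y ∈ Y, y ∈ N)
    (hY : ∀ x ∈ N, x ∉ Y → ∀ h ∈ H, x * h = h * x → h = 1) :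
    Nat.card N + ∑ x ∈ Y, ‖(Nat.card H : ℂ)⁻¹ * ∑ n : H, χ (n * x)‖ ^ 2 ≤ ∑ x ∈ Y, ‖χ x‖ ^ 2 := by
  classical
  haveI : (H.subgroupOf N).Normal := (Subgroup.normal_subgroupOf_iff_le_normalizer hHN).2 hN
  obtain ⟨α, h1, h2⟩ := ftb_core (H.subgroupOf N) (hχ.restrict N)
    (by obtain ⟨h, hh, e⟩ := hker; exact ⟨⟨h, hHN hh⟩, hh, e⟩) (Y.subtype (· ∈ N))
    fun x hx h hh e => Subtype.ext (hY x x.2 (by simpa using hx) h hh (congrArg Subtype.val e))
  rw [← Finset.sum_subtype_of_mem (p := (· ∈ N)) _ hYN, ← Finset.sum_subtype_of_mem (p := (· ∈ N)) _ hYN]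
  convert h2 using 3 with x
  have e := h1 x
  rw [Nat.card_congr (Subgroup.subgroupOfEquivOfLe hHN).toEquiv] at e
  rw [← Equiv.sum_comp (Subgroup.subgroupOfEquivOfLe hHN).toEquiv]
  erw [e]
  rw [inv_mul_cancel_left₀ card_ne_zero_complex]

theorem ftb_a [Fintype G] (H : Subgroup G) [Fintype H] (hab : ∀ a ∈ H, ∀ b ∈ H, a * b = b * a)
    (hZ : H ⊓ Subgroup.center G = ⊥) (hone : ∀ g : G, g ∉ Subgroup.center G → ∀ a b : G,
      Subgroup.centralizer ({g} : Set G) ⊓ H.map (MulAut.conj a).toMonoidHom ≠ ⊥ →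
      Subgroup.centralizer ({g} : Set G) ⊓ H.map (MulAut.conj b).toMonoidHom ≠ ⊥ →
      H.map (MulAut.conj a).toMonoidHom = H.map (MulAut.conj b).toMonoidHom)
    (hχ : IsIrrCharacter G χ) (hker : ∃ h ∈ H, χ h ≠ χ 1) :
    (Nat.card H : ℝ) * (classInner (fun h : H => χ h) (fun _ => 1)).re ^ 2 < (χ 1).re ^ 2 := by
  classical
  set Z := Subgroup.center G
  set X : Finset G := Finset.univ.filter fun x => x ∉ Z ∧ ∃ h ∈ H, x * h = h * x ∧ h ≠ 1
  have hX : ∀ {x}, x ∈ X ↔ x ∉ Z ∧ ∃ h ∈ H, x * h = h * x ∧ h ≠ 1 := by simp [X]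
  have hTI : ∀ x ∈ X, ∀ g : G, g * x * g⁻¹ ∈ X → g ∈ Subgroup.normalizer (H : Set G) := fun x hx g hg => by
    obtain ⟨h1, h, hh, h2, h3⟩ := hX.1 hx
    obtain ⟨-, k, hk, h4, h5⟩ := hX.1 hg
    have := hone x h1 1 g⁻¹ ((Subgroup.ne_bot_iff_exists_ne_one).2 ⟨⟨h, Subgroup.mem_inf.2
      ⟨Subgroup.mem_centralizer_singleton_iff.2 h2.symm, h, hh, by simp⟩⟩, fun e => h3 (congrArg Subtype.val e)⟩)
      ((Subgroup.ne_bot_iff_exists_ne_one).2 ⟨⟨g⁻¹ * k * g, Subgroup.mem_inf.2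
      ⟨Subgroup.mem_centralizer_singleton_iff.2 (by
        calc g⁻¹ * k * g * x = g⁻¹ * (k * (g * x * g⁻¹)) * g := by group
          _ = _ := by rw [← h4]; group), k, hk, by simp⟩⟩, fun e => h5 (by
        have e' : g⁻¹ * k * g = 1 := congrArg Subtype.val e
        calc k = g * (g⁻¹ * k * g) * g⁻¹ := by group
          _ = 1 := by rw [e']; group)⟩)
    refine Subgroup.mem_normalizer_iff.2 fun y => ?_
    have e := SetLike.ext_iff.1 this y
    simp only [Subgroup.mem_map, MulEquiv.coe_toMonoidHom, MulAut.conj_apply, one_mul, inv_one, mul_one,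
      exists_eq_right, inv_inv] at e
    exact e.trans ⟨fun ⟨w, hw, e'⟩ => by rw [← e']; simpa [mul_assoc] using hw,
      fun hw => ⟨_, hw, by group⟩⟩
  set ZF : Finset G := Finset.univ.filter (· ∈ Z)
  have hdis : Disjoint ZF X := Finset.disjoint_left.2 fun x h1 h2 => (hX.1 h2).1 (Finset.mem_filter.1 h1).2
  have h1 := ftb_core' H _ Subgroup.le_normalizer le_rfl hχ.isCharacter hker (ZF ∪ X)
    (fun y hy => (Finset.mem_union.1 hy).elim (fun h => Subgroup.center_le_normalizer _ (Finset.mem_filter.1 h).2)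
      fun h => hTI y h y (by simpa using h))
    fun x _ hx h hh e => by
      by_contra h0
      exact hx (Finset.mem_union.2 ((em (x ∈ Z)).imp (fun h => by simpa [ZF] using h)
        fun h' => hX.2 ⟨h', h, hh, e, h0⟩))
  have h2 := sum_ti_lt hχ _ X (fun h => (hX.1 h).1 Z.one_mem) hTI
  have hcZ : ZF.card = Nat.card Z := by rw [Nat.subtype_card ZF (by simp [ZF])]
  have h3 : ∑ x ∈ ZF, ‖χ x‖ ^ 2 ≤ Nat.card Z * (χ 1).re ^ 2 := by
    rw [← hcZ, ← nsmul_eq_mul, hχ.isCharacter.re_apply_one]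
    exact Finset.sum_le_card_nsmul _ _ _ fun x _ => pow_le_pow_left₀ (norm_nonneg _) (hχ.isCharacter.norm_le x) 2
  obtain ⟨c, hc⟩ := (hχ.isCharacter.restrict H).exists_classInner_eq_nat isCharacter_one
  have hc' : classInner (fun h : H => χ h) (fun _ => 1) = c := hc
  obtain ⟨h0, hh0, hh0'⟩ := hker
  have h4 : Nat.card H * Nat.card Z * (c : ℝ) ^ 2 ≤
      ∑ x ∈ ZF ∪ X, ‖(Nat.card H : ℂ)⁻¹ * ∑ n : H, χ (n * x)‖ ^ 2 := by
    let f : H × Z → G := fun a => a.1 * a.2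
    have hf : Function.Injective f := fun a b e => by
      have e1 : (a.1 : G) * a.2 = b.1 * b.2 := e
      have e2 : (b.1 : G)⁻¹ * a.1 = b.2 * (a.2 : G)⁻¹ := by
        rw [inv_mul_eq_iff_eq_mul, ← mul_assoc, ← e1, mul_inv_cancel_right]
      have e3 : (b.1 : G)⁻¹ * a.1 = 1 := Subgroup.mem_bot.1 (hZ ▸ Subgroup.mem_inf.2
        ⟨H.mul_mem (H.inv_mem b.1.2) a.1.2, e2 ▸ Z.mul_mem b.2.2 (Z.inv_mem a.2.2)⟩)
      exact Prod.ext (Subtype.ext (inv_mul_eq_one.1 e3).symm) (Subtype.ext (mul_inv_eq_one.1 (e2 ▸ e3)).symm)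
    refine le_trans (le_of_eq ?_) (Finset.sum_le_sum_of_subset_of_nonneg (s := Finset.univ.image f)
      (fun x hx => ?_) fun _ _ _ => by positivity)
    · rw [Finset.sum_image fun a _ b _ e => hf e, ← Nat.cast_mul, ← Nat.card_prod, Nat.card_eq_fintype_card,
        ← Finset.card_univ, ← nsmul_eq_mul, ← Finset.sum_const]
      refine Finset.sum_congr rfl fun a _ => ?_
      obtain ⟨ω, hω, e⟩ : ∃ ω : ℂ, ‖ω‖ = 1 ∧ ∀ g, χ (a.2 * g) = ω * χ g :=
        ⟨_, by rw [norm_div, hχ.norm_eq_of_mem_center a.2.2, hχ.isCharacter.norm_apply_one,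
          div_self (by exact_mod_cast hχ.charDegree_pos.ne')], hχ.apply_mul_of_mem_center a.2.2⟩
      have e1 : ∑ n : H, χ (n * f a) = ω * ∑ n : H, χ n := by
        rw [Finset.mul_sum, ← Equiv.sum_comp (Equiv.mulRight a.1)  fun n : H => ω * χ n]
        refine Finset.sum_congr rfl fun n _ => ?_
        rw [← e]
        congr 1
        simp only [f, Equiv.coe_mulRight, Subgroup.coe_mul, ← mul_assoc]
        exact (Subgroup.mem_center_iff.1 a.2.2 _).trans (mul_assoc _ _ _).symm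
      rw [e1, mul_left_comm, ← H05.classInner_one_right, hc, norm_mul, hω]
      simp
    · obtain ⟨a, -, rfl⟩ := Finset.mem_image.1 hx
      refine Finset.mem_union.2 ((em (f a ∈ Z)).imp (fun h => by simpa [ZF] using h)
        fun h' => hX.2 ⟨h', h0, hh0, ?_, fun e => hh0' (by rw [e])⟩)
      simp only [f]
      rw [mul_assoc, ← Subgroup.mem_center_iff.1 a.2.2, ← mul_assoc, hab _ a.1.2 _ hh0, mul_assoc]
  rw [Finset.sum_union hdis (f := fun x => ‖χ x‖ ^ 2)] at h1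
  have hZ0 : (0 : ℝ) < Nat.card Z := by exact_mod_cast Nat.card_pos
  rw [hc', Complex.natCast_re]
  refine lt_of_mul_lt_mul_left ?_ hZ0.le
  linarith

theorem degree_le_norm_of_comm [Fintype G] (hab : ∀ a b : G, a * b = b * a) (hχ : IsCharacter G χ) :
    (χ 1).re ≤ (classInner χ χ).re := by
  obtain ⟨m, h1, h2⟩ := hχ.exists_nat_coeff
  rw [hχ.isClassFunction.classInner_self_re_eq_sum, congrFun h2 1, Finset.sum_apply, Complex.re_sum]
  refine Finset.sum_le_sum fun ψ _ => ?_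
  haveI : IsMulCommutative G := ⟨⟨hab⟩⟩
  rw [h1, Pi.smul_apply, ψ.2.apply_one_of_comm]
  simp only [smul_eq_mul, mul_one, Complex.natCast_re, Complex.norm_natCast]
  exact_mod_cast Nat.le_self_pow two_ne_zero _

theorem ftb_b [Fintype G] (H : Subgroup G) [Fintype H] (hab : ∀ a ∈ H, ∀ b ∈ H, a * b = b * a)
    (hZ : H ⊓ Subgroup.center G = ⊥) (hone : ∀ g : G, g ∉ Subgroup.center G → ∀ a b : G,
      Subgroup.centralizer ({g} : Set G) ⊓ H.map (MulAut.conj a).toMonoidHom ≠ ⊥ →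
      Subgroup.centralizer ({g} : Set G) ⊓ H.map (MulAut.conj b).toMonoidHom ≠ ⊥ →
      H.map (MulAut.conj a).toMonoidHom = H.map (MulAut.conj b).toMonoidHom)
    (hχ : IsIrrCharacter G χ) (h1 : χ 1 ≠ 1) (hM : ∀ M : Subgroup G, M.Normal → H ≤ M → M = ⊤) :
    (Nat.card H : ℝ) < (1 + (χ 1).re) ^ 2 := by
  classical
  set s := √(Nat.card H : ℝ)
  have hs : s ^ 2 = Nat.card H := Real.sq_sqrt (by positivity)
  have hs0 : 0 < s := Real.sqrt_pos.2 (by exact_mod_cast Nat.card_pos)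
  let c : (G → ℂ) → ℝ := fun ψ => (classInner (fun h : H => ψ h) (fun _ => 1)).re
  have ha : ∀ ψ, IsIrrCharacter G ψ → ψ ≠ 1 → s * c ψ < (ψ 1).re := fun ψ hψ hne => by
    have := ftb_a H hab hZ hone hψ (by
      by_contra hh
      push Not at hh
      have e := hM _ inferInstance fun x hx => hψ.isCharacter.mem_charKer.2 (hh x hx)
      have e2 : ∀ x, ψ x = ψ 1 := fun x => hψ.isCharacter.mem_charKer.1 (e ▸ Subgroup.mem_top x)
      have e3 := hψ.sum_eq_zero hne
      rw [Finset.sum_congr rfl fun x _ => e2 x, Finset.sum_const, nsmul_eq_mul] at e3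
      exact mul_ne_zero (by simp) hψ.apply_one_ne_zero e3)
    rw [← hs, ← mul_pow] at this
    exact lt_of_pow_lt_pow_left₀ 2 (by rw [hψ.isCharacter.re_apply_one]; positivity) this
  have hΦ : IsCharacter G (χ * fun g => conj (χ g)) := hχ.isCharacter.mul hχ.isCharacter.conj
  have hΦ1 : classInner (χ * fun g => conj (χ g)) 1 = 1 :=
    (H05.classInner_eq_classInner_mul_one χ χ).symm.trans hχ.classInner_self
  have hΨ := hΦ.sub_constituent isIrrCharacter_one (by rw [hΦ1]; exact one_ne_zero)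
  set Ψ := (χ * fun g => conj (χ g)) - 1 with hΨd
  obtain ⟨m, h2, h3⟩ := hΨ.exists_nat_coeff
  have hm : m ⟨1, isIrrCharacter_one⟩ = 0 := by
    have := h2 ⟨1, isIrrCharacter_one⟩
    rw [hΨd, H05.classInner_sub_left, hΦ1, isIrrCharacter_one.classInner_self, sub_self] at this
    exact_mod_cast this.symm
  set d := (χ 1).re with hd
  have hd' : χ 1 = d := by rw [hd, hχ.isCharacter.re_apply_one, Complex.ofReal_natCast, hχ.charDegree_eq]
  have hd1 : 1 < d := by
    rw [hd, hχ.isCharacter.re_apply_one]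
    have := hχ.charDegree_pos
    have h' : charDegree χ ≠ 1 := fun e => h1 (by rw [← hχ.charDegree_eq, e, Nat.cast_one])
    exact_mod_cast (by omega : 1 < charDegree χ)
  have e1 : (Ψ 1).re = d ^ 2 - 1 := by simp [hΨd, hd', sq]
  have e2 : (Ψ 1).re = ∑ ψ : IrrCharacter G, m ψ * (ψ.1 1).re := by
    rw [congrFun h3 1, Finset.sum_apply, Complex.re_sum]; simp
  have e3 : c Ψ = ∑ ψ : IrrCharacter G, m ψ * c ψ := by
    have : (fun h : H => Ψ h) = ∑ ψ : IrrCharacter G, (m ψ : ℂ) • fun h : H => ψ.1 h := by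
      ext h; rw [congrFun h3 h]; simp
    simp only [c, this, H05.classInner_sum_left, H05.classInner_smul_left, Complex.re_sum]
    simp
  have e4 : c Ψ = (classInner (fun h : H => χ h) fun h : H => χ h).re - 1 := by
    have : (fun h : H => Ψ h) = (fun h : H => χ h * conj (χ h)) - fun _ => 1 := rfl
    simp only [c, this, H05.classInner_sub_left, classInner_one_one, Complex.sub_re, Complex.one_re]
    rw [H05.classInner_eq_classInner_mul_one (fun h : H => χ h)]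
    rfl
  have e5 := degree_le_norm_of_comm (fun a b : H => Subtype.ext (hab _ a.2 _ b.2)) (hχ.isCharacter.restrict H)
  have e6 : s * c Ψ < (Ψ 1).re := by
    rw [e3, e2, Finset.mul_sum]
    have hle : ∀ ψ : IrrCharacter G, m ψ ≠ 0 → s * (m ψ * c ψ) < m ψ * (ψ.1 1).re := fun ψ h => by
      rw [mul_left_comm]
      exact mul_lt_mul_of_pos_left (ha _ ψ.2 fun e => h (by rw [← hm]; congr 1; exact Subtype.ext e))
        (by exact_mod_cast Nat.pos_of_ne_zero h)
    refine Finset.sum_lt_sum (fun ψ _ => ?_) ?_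
    · by_cases h : m ψ = 0
      · simp [h]
      · exact (hle ψ h).le
    · by_contra hh
      have : ∀ ψ, m ψ = 0 := fun ψ => by_contra fun h => hh ⟨ψ, Finset.mem_univ _, hle ψ h⟩
      simp only [this, Nat.cast_zero, zero_mul, Finset.sum_const_zero] at e2
      nlinarith
  simp only [OneMemClass.coe_one, ← hd] at e5
  have e7 : s * (d - 1) < (1 + d) * (d - 1) := by nlinarith
  rw [← hs]
  exact pow_lt_pow_left₀ (lt_of_mul_lt_mul_right e7 (by linarith)) hs0.le two_ne_zero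

end H07
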