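import Mathlib
import Cfsg.Agent.H07.Deg
import Cfsg.Agent.H02.MinNormal

/-!
Gagola characters: irreducible characters vanishing on all but two classes.
-/

set_option autoImplicit false

namespace H07
open Cfsg H05 H06
open scoped ComplexConjugate commutatorElement

variable {G : Type*} [Group G] [Finite G]

theorem card_dvd_deg_of_vanish {χ : G → ℂ} (h : IsCharacter G χ) (h0 : ∀ g, g ≠ 1 → χ g = 0) :
    Nat.card G ∣ charDegree χ := by
  have := Fintype.ofFinite G
  obtain ⟨n, hn⟩ := h.exists_classInner_eq_nat isCharacter_one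
  have h1 := card_mul_classInner χ 1
  rw [hn, Finset.sum_eq_single 1 (fun g _ hg => by simp [h0 g hg]) (by simp), ← h.charDegree_eq] at h1
  exact ⟨n, by simpa [← Nat.cast_mul] using h1.symm⟩

theorem card_centralizer_quot (N : Subgroup G) [N.Normal] {x : G}
    (h : ∀ χ : IrrCharacter G, (¬ ∀ n ∈ N, χ.1 n = χ.1 1) → χ.1 x = 0) :
    Nat.card (Subgroup.centralizer ({x} : Set G)) =
      Nat.card (Subgroup.centralizer ({(x : G ⧸ N)} : Set (G ⧸ N))) := by
  classical
  rw [← Nat.cast_inj (R := ℝ), ← sum_irr_norm_sq, ← sum_irr_norm_sq]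
  refine Eq.trans (Finset.sum_congr rfl fun χ _ => ?_) (sum_irr_ker N fun χ => ‖χ.1 x‖ ^ 2)
  split_ifs with h1
  · rfl
  · simp [h χ h1]

structure Gag (χ : IrrCharacter G) (N : Subgroup G) : Prop where
  ne_bot : N ≠ ⊥
  mem : ∀ g, χ.1 g ≠ 0 ↔ g ∈ N
  isConj : ∀ x ∈ N, ∀ y ∈ N, x ≠ 1 → y ≠ 1 → IsConj x y
  ker : ∀ ψ : IrrCharacter G, ψ ≠ χ → ∀ n ∈ N, ψ.1 n = ψ.1 1

theorem exists_gag (hG : 2 < Nat.card G) (χ : IrrCharacter G)
    (hχ : Nat.card {C : ConjClasses G // ∃ g ∈ C.carrier, χ.1 g ≠ 0} = 2) :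
    ∃ N : Subgroup G, N.Normal ∧ Gag χ N := by
  classical
  have := Fintype.ofFinite G
  obtain ⟨⟨C, z, hz, h1⟩, h2, h3⟩ := (Nat.card_eq_two_iff' ⟨ConjClasses.mk 1, 1,
    ConjClasses.mem_carrier_mk, χ.2.apply_one_ne_zero⟩).1 hχ
  obtain rfl := ConjClasses.mem_carrier_iff_mk_eq.1 hz
  have hz1 : z ≠ 1 := by rintro rfl; exact h2 rfl
  have h4 : ∀ g, χ.1 g ≠ 0 ↔ g = 1 ∨ IsConj z g := fun g => ⟨fun h => by
    by_cases hg : g = 1
    · exact .inl hg
    · exact .inr (ConjClasses.mk_eq_mk_iff_isConj.1 (congrArg Subtype.val (h3 ⟨_, g, ConjClasses.mem_carrier_mk, h⟩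
        fun e => hg (isConj_one_left.1 (ConjClasses.mk_eq_mk_iff_isConj.1 (congrArg Subtype.val e))))).symm),
    fun h => by
      rcases h with rfl | h
      · exact χ.2.apply_one_ne_zero
      · rwa [← χ.2.isClassFunction.isConj h]⟩
  have h5 : ∀ ψ : IrrCharacter G, ψ ≠ χ →
      χ.1 1 * ψ.1 1 + (Subgroup.centralizer ({z} : Set G)).index * (χ.1 z * conj (ψ.1 z)) = 0 := fun ψ hψ => by
    have h5 := card_mul_classInner χ.1 ψ.1
    rw [χ.2.classInner_of_ne ψ.2 fun e => hψ (Subtype.ext e.symm), mul_zero] at h5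
    rw [h5, ← show _ = _ * (χ.1 z * conj (ψ.1 z)) from
      (χ.2.isClassFunction.mul ψ.2.conj.isClassFunction).sum_ite_isConj z, ← ψ.2.conj_apply_one,
      ← Finset.sum_ite_eq_of_mem' Finset.univ (1 : G) (fun g => χ.1 g * conj (ψ.1 g)) (Finset.mem_univ _),
      ← Finset.sum_add_distrib]
    refine Finset.sum_congr rfl fun g _ => ?_
    by_cases h6 : g = 1
    · subst h6; simp [hz1]
    · by_cases h7 : IsConj z g
      · simp [h6, h7, -isConj_iff]
      · simp [h6, h7, not_not.1 (mt (h4 g).1 (by tauto))]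
  have h6 : (⟨1, isIrrCharacter_one⟩ : IrrCharacter G) ≠ χ := by
    rintro rfl
    have h6 : Nat.card G = 1 + (Subgroup.centralizer ({z} : Set G)).index := by
      rw [← card_filter_isConj, Nat.card_eq_fintype_card, add_comm, ← Finset.card_insert_of_notMem (a := 1)
        (by simpa using hz1)]
      exact congrArg Finset.card (Finset.ext fun g => by simpa using (h4 g).1 (by simp))
    have h7 := (Subgroup.centralizer ({z} : Set G)).index_dvd_card
    rw [h6, Nat.dvd_add_self_right, Nat.dvd_one] at h7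
    omega
  have h7 : ∀ ψ : IrrCharacter G, ψ ≠ χ → ψ.1 z = ψ.1 1 := fun ψ hψ => by
    have h7 := h5 _ h6
    have h8 := h5 ψ hψ
    simp only [Pi.one_apply, map_one, mul_one] at h7
    have h9 : χ.1 1 * (ψ.1 1 - conj (ψ.1 z)) = 0 := by linear_combination h8 - conj (ψ.1 z) * h7
    rw [← ψ.2.conj_apply_one, sub_eq_zero.1 ((mul_eq_zero.1 h9).resolve_left χ.2.apply_one_ne_zero),
      Complex.conj_conj]
  have h8 : ∀ g, χ.1 g ≠ 0 ↔ g ∈ ⨅ ψ : {ψ : IrrCharacter G // ψ ≠ χ}, charKer ψ.1.1 := fun g => by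
    simp only [Subgroup.mem_iInf, fun ψ : IrrCharacter G => ψ.2.isCharacter.mem_charKer (x := g)]
    refine ⟨fun h ψ => ?_, fun h h8 => ?_⟩
    · rcases (h4 g).1 h with rfl | h
      · rfl
      · rw [← ψ.1.2.isClassFunction.isConj h, h7 _ ψ.2]
    have h9 := congrArg Complex.re (sum_degree_mul_apply_of_ne (g := g) (by
      rintro rfl; exact χ.2.apply_one_ne_zero h8))
    rw [Complex.re_sum] at h9
    refine (Finset.sum_pos' (fun ψ _ => ?_) ⟨⟨1, isIrrCharacter_one⟩, Finset.mem_univ _, by simp⟩).ne' h9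
    by_cases h10 : ψ = χ
    · simp [h10, h8]
    · rw [h ⟨ψ, h10⟩, ← ψ.2.charDegree_eq]; simp; positivity
  refine ⟨_, Subgroup.normal_iInf_normal fun _ => inferInstance, fun e => hz1 ?_, h8, fun x hx y hy h9 h10 =>
    (((h4 x).1 ((h8 x).2 hx)).resolve_left h9).symm.trans (((h4 y).1 ((h8 y).2 hy)).resolve_left h10),
    fun ψ hψ n hn => ψ.2.isCharacter.mem_charKer.1 (Subgroup.mem_iInf.1 hn ⟨ψ, hψ⟩)⟩
  exact e.le ((h8 z).1 h1)

namespace Gag
variable {χ : IrrCharacter G} {N : Subgroup G} [N.Normal] (h : Gag χ N)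
include h

omit [N.Normal] in
theorem faithful {g : G} (hg : χ.1 g = χ.1 1) : g = 1 :=
  eq_one_of_forall_irr fun ψ => by
    by_cases h1 : ψ = χ
    · rw [h1, hg]
    · exact h.ker ψ h1 g ((h.mem g).1 (hg ▸ χ.2.apply_one_ne_zero))

omit [N.Normal] in
theorem le (K : Subgroup G) [K.Normal] (hK : K ≠ ⊥) : N ≤ K := fun n hn =>
  mem_of_forall_irr K fun ψ h1 => h.ker ψ (by
    rintro rfl; exact hK (eq_bot_iff.2 fun k hk => h.faithful (h1 k hk))) n hn

omit [N.Normal] in
theorem eq_of_faithful {ψ : IrrCharacter G} (hψ : ∀ g, ψ.1 g = ψ.1 1 → g = 1) : ψ = χ := by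
  by_contra h1
  exact h.ne_bot (eq_bot_iff.2 fun n hn => hψ n (h.ker ψ h1 n hn))

theorem elem : ∃ p : ℕ, p.Prime ∧ IsElementaryAbelian p N := by
  obtain ⟨p, hp, h1⟩ := Nat.exists_prime_and_dvd (mt Subgroup.card_eq_one.1 h.ne_bot)
  have := Fact.mk hp
  obtain ⟨x, hx⟩ := exists_prime_orderOf_dvd_card' p h1
  have h2 : ∀ y ∈ N, y ^ p = 1 := fun y hy => by
    by_cases h2 : y = 1
    · simp [h2]
    · refine isConj_one_left.1 ?_
      have := (h.isConj y hy x x.2 h2 (by
        rintro e; exact hp.ne_one (by rw [← hx, orderOf_eq_one_iff]; exact Subtype.ext e))).pow p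
      rwa [← Subgroup.coe_pow, show x ^ p = 1 from hx ▸ pow_orderOf_eq_one x] at this
  have := (H02.isPGroup_of_pow_eq_one h2).isNilpotent
  exact ⟨p, hp, (H02.minimal_normal_elementary_of_isSolvable h.ne_bot fun M hM h3 => by
    by_cases h4 : M = ⊥
    · exact .inl h4
    · exact .inr (le_antisymm h3 (h.le M h4))).1, h2⟩

theorem index_cent {x : G} (hx : x ∈ N) (h1 : x ≠ 1) :
    (Subgroup.centralizer ({x} : Set G)).index + 1 = Nat.card N := by
  classical
  have := Fintype.ofFinite G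
  rw [← card_filter_isConj, ← Finset.card_insert_of_notMem (a := 1) (by simpa using h1)]
  refine (Nat.subtype_card _ fun g => ?_).symm
  simp only [Finset.mem_insert, Finset.mem_filter, Finset.mem_univ, true_and]
  refine ⟨?_, fun hg => or_iff_not_imp_left.2 (h.isConj x hx g hg h1)⟩
  rintro (rfl | hg)
  · exact N.one_mem
  · obtain ⟨c, rfl⟩ := isConj_iff.1 hg
    exact ‹N.Normal›.conj_mem x hx c

theorem deg_sq : charDegree χ.1 ^ 2 + N.index = Nat.card G := by
  classical
  have h1 := sum_irr_ker N fun ψ => charDegree ψ.1 ^ 2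
  rw [← sum_charDegree_sq, ← Finset.add_sum_erase _ _ (Finset.mem_univ χ), Subgroup.index_eq_card,
    ← sum_charDegree_sq]
  refine congrArg _ (h1.symm.trans ?_)
  rw [← Finset.add_sum_erase _ _ (Finset.mem_univ χ), if_neg fun h2 =>
    h.ne_bot (eq_bot_iff.2 fun n hn => h.faithful (h2 n hn)), zero_add]
  exact Finset.sum_congr rfl fun ψ hψ => if_pos (h.ker ψ (Finset.ne_of_mem_erase hψ))

theorem exists_sylow {p : ℕ} [hp : Fact p.Prime] (hN : IsPGroup p N) {H : Subgroup G}
    (hH : H.index + 1 = Nat.card N) : ∃ P : Sylow p G, H = P := by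
  have h1 : IsPGroup p H := by
    refine IsPGroup.iff_card.2 ⟨_, Nat.eq_prime_pow_of_unique_prime_dvd Nat.card_pos.ne' fun {q} hq h1 => ?_⟩
    by_contra h2
    have := Fact.mk hq
    obtain ⟨Q⟩ : Nonempty (Sylow q G) := inferInstance
    have h3 := card_dvd_deg_of_vanish (χ.2.isCharacter.restrict Q) fun g hg => not_not.1 fun h3 =>
      hg (Subtype.ext (Subgroup.disjoint_def.1 (IsPGroup.disjoint_of_ne q p h2 _ _ Q.2 hN) g.2
        ((h.mem g).1 h3)))
    have h4 : charDegree χ.1 ^ 2 = N.index * H.index := by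
      have := h.deg_sq
      rw [← N.card_mul_index, ← hH] at this
      linarith
    obtain ⟨k, hk⟩ := Q.2.exists_card_eq
    have h5 : Nat.card Q * Nat.card Q ∣ Nat.card Q * ((Q : Subgroup G).index * H.index) := by
      rw [← mul_assoc, Subgroup.card_mul_index]
      exact (mul_dvd_mul h3 h3).trans ((sq _).symm.trans h4 ▸ mul_dvd_mul_right N.index_dvd_card _)
    have h6 := (hk ▸ (hq.coprime_iff_not_dvd.2 Q.not_dvd_index).pow_left k).dvd_of_dvd_mul_left
      (Nat.dvd_of_mul_dvd_mul_left Nat.card_pos h5)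
    refine Q.not_dvd_index (Nat.dvd_of_mul_dvd_mul_left (Nat.card_pos (α := Q)) ?_)
    rw [Subgroup.card_mul_index, ← H.index_mul_card]
    exact mul_dvd_mul h6 h1
  refine ⟨h1.toSylow fun h2 => hp.out.not_dvd_one ((Nat.dvd_add_right h2).1 (hH ▸ ?_)), rfl⟩
  exact (hN.card_eq_or_dvd).resolve_left (mt Subgroup.card_eq_one.1 h.ne_bot)

theorem index_inertia {μ : N → ℂ} (hμ : IsIrrCharacter N μ) (h1 : μ ≠ 1) :
    (inertia N μ).index + 1 = Nat.card N := by
  classical
  have := Fintype.ofFinite G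
  obtain ⟨p, -, h2, -⟩ := h.elem
  obtain ⟨z, hz⟩ := Subgroup.ne_bot_iff_exists_ne_one.1 h.ne_bot
  have h3 : (fun n : N => χ.1 n) = χ.1 z • 1 + ((χ.1 1 - χ.1 z) / Nat.card N) • regChar N := by
    funext n
    by_cases hn : n = 1
    · have := natCard_ne_zero N
      simp only [hn, regChar_one, Pi.add_apply, Pi.smul_apply, smul_eq_mul, Subgroup.coe_one, Pi.one_apply]
      field_simp; ring
    · simp [regChar_of_ne hn, χ.2.isClassFunction.isConj
        (h.isConj n n.2 z z.2 (by simpa using hn) (by simpa using hz))]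
  have h4 : ∀ ν, IsIrrCharacter N ν → classInner (fun n : N => χ.1 n) ν =
      χ.1 z * classInner 1 ν + (χ.1 1 - χ.1 z) / Nat.card N := fun ν hν => by
    rw [h3, H05.classInner_add_left, H05.classInner_smul_left, H05.classInner_smul_left,
      classInner_regChar_left, hν.apply_one_of_comm, map_one, mul_one]
  have h5 := h4 1 isIrrCharacter_one
  rw [isIrrCharacter_one.classInner_self, show classInner _ 1 = 0 from not_not.1 (mt (res_inner_one_ne_zero_iff N χ.2).1 fun h5 =>
    hz (Subtype.ext (h.faithful (h5 z z.2))))] at h5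
  have h6 := h4 μ hμ
  rw [isIrrCharacter_one.classInner_of_ne hμ h1.symm, mul_zero, zero_add] at h6
  have h7 : χ.1 z ≠ 0 := (h.mem z).2 z.2
  have h8 : classInner (fun n : N => χ.1 n) μ = -χ.1 z := by linear_combination h6 - h5
  have h9 := clifford_degree N χ.2 hμ (h8 ▸ neg_ne_zero.2 h7)
  rw [h8, hμ.apply_one_of_comm] at h9
  have := natCard_ne_zero N
  field_simp at h5
  rw [← Nat.cast_inj (R := ℂ)]
  exact mul_left_cancel₀ h7 (by push_cast; linear_combination h9 + h5)

theorem card_cent {x : G} (hx : x ∉ N) : Nat.card (Subgroup.centralizer ({x} : Set G)) =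
      Nat.card (Subgroup.centralizer ({(x : G ⧸ N)} : Set (G ⧸ N))) :=
  card_centralizer_quot N fun ψ h1 => by
    obtain rfl := not_not.1 (mt (h.ker ψ) h1)
    exact not_not.1 (mt (h.mem x).1 hx)

theorem card_le {p : ℕ} [Fact p.Prime] (hN : IsPGroup p N) (P : Sylow p G) {y : P} (hy : (y : G) ∉ N)
    (W : Subgroup P) (hW : ∀ x, ⁅y, x⁆ ∈ W) : Nat.card N ≤ Nat.card W := by
  have h1 : Nat.card N * Nat.card (Subgroup.centralizer ({y} : Set P)) ∣ Nat.card G := by
    rw [← N.card_mul_index, Subgroup.index_eq_card]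
    refine mul_dvd_mul_left _ (Dvd.dvd.trans ?_ ((h.card_cent hy).dvd.trans (Subgroup.card_subgroup_dvd_card _)))
    rw [← Subgroup.card_map_of_injective (P : Subgroup G).subtype_injective]
    refine Subgroup.card_dvd_of_le ?_
    rintro _ ⟨x, hx, rfl⟩ _ rfl
    exact congrArg Subtype.val (hx y rfl)
  obtain ⟨a, ha⟩ := hN.exists_card_eq
  obtain ⟨b, hb⟩ := (P.2.to_subgroup (Subgroup.centralizer ({y} : Set P))).exists_card_eq
  rw [← (P : Subgroup G).card_mul_index] at h1
  have h2 := (ha ▸ hb ▸ pow_add p a b ▸ ((Fact.out : p.Prime).coprime_iff_not_dvd.2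
    P.not_dvd_index).pow_left (a + b)).dvd_of_dvd_mul_right h1
  rw [← (Subgroup.centralizer ({y} : Set P)).index_mul_card] at h2
  refine (Nat.le_of_dvd (Nat.pos_of_ne_zero Subgroup.index_ne_zero_of_finite)
    (Nat.dvd_of_mul_dvd_mul_right Nat.card_pos h2)).trans ?_
  rw [← card_isConj]
  refine Nat.card_le_card_of_injective (fun x => ⟨y * x.1⁻¹, ?_⟩) fun x x' e => ?_
  · obtain ⟨c, hc⟩ := isConj_iff.1 x.2
    simpa [← hc, commutatorElement_def, mul_assoc] using hW c
  · exact Subtype.ext (by simpa using e)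

end Gag
end H07
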