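import Mathlib
import Cfsg.Agent.H07.Deg
import Cfsg.Agent.H02.Fitting

/-!
The `n`-part of an element as a power `x ^ e`, and the projection of a nilpotent group.
-/

set_option autoImplicit false

namespace H07
open Cfsg H05 H06

variable {G : Type*} [Group G] {m n e : ℕ}

/-- `x ^ e` is the `n`-part of `x` when `x ^ (m * n) = 1` -/
structure PExp (m n e : ℕ) : Prop where
  cop : m.Coprime n
  zero : m ∣ e
  one : e ≡ 1 [MOD n]

theorem exists_pExp (h : m.Coprime n) : ∃ e, PExp m n e :=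
  ⟨_, h, Nat.modEq_zero_iff_dvd.1 (Nat.chineseRemainder h 0 1).2.1, (Nat.chineseRemainder h 0 1).2.2⟩

namespace PExp
variable (h : PExp m n e)
include h

theorem pow_eq_one {u : G} (hu : orderOf u ∣ m) : u ^ e = 1 := orderOf_dvd_iff_pow_eq_one.1 (hu.trans h.zero)

theorem pow_eq_self {v : G} (hv : orderOf v ∣ n) : v ^ e = v := by
  rw [pow_eq_pow_iff_modEq.2 (h.one.of_dvd hv), pow_one]

theorem pow_mul_eq {u v : G} (hc : Commute u v) (hu : orderOf u ∣ m) (hv : orderOf v ∣ n) :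
    (u * v) ^ e = v := by
  rw [hc.mul_pow, h.pow_eq_one hu, h.pow_eq_self hv, one_mul]

theorem orderOf_pow_dvd {x : G} (hx : orderOf x ∣ m * n) : orderOf (x ^ e) ∣ n := by
  rw [orderOf_dvd_iff_pow_eq_one, ← pow_mul]
  exact orderOf_dvd_iff_pow_eq_one.1 (hx.trans (mul_dvd_mul_right h.zero n))

theorem orderOf_mul_inv_dvd {x : G} (hx : orderOf x ∣ m * n) : orderOf (x * (x ^ e)⁻¹) ∣ m := by
  rw [orderOf_dvd_iff_pow_eq_one, ((Commute.refl x).pow_right e).inv_right.mul_pow, inv_pow, ← pow_mul,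
    mul_inv_eq_one, pow_eq_pow_iff_modEq]
  simpa [mul_comm] using ((h.one.mul_left' (c := m)).symm.of_dvd hx)

theorem mul_pow [Finite G] [Group.IsNilpotent G] (hG : Nat.card G ∣ m * n) (x y : G) :
    (x * y) ^ e = x ^ e * y ^ e := by
  have h1 : ∀ x : G, orderOf x ∣ m * n := fun x => (orderOf_dvd_natCard x).trans hG
  have h2 : ∀ {m n : ℕ}, m.Coprime n → ∀ a b : G, orderOf a ∣ m → orderOf b ∣ m →
      (orderOf (a * b)).Coprime n := fun hc a b ha hb => H02.orderOf_coprime_of_mem_pPrimeCore (mul_mem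
    (H02.le_pPrimeCore_of_isNilpotent (by rw [Nat.card_zpowers]; exact hc.coprime_dvd_left ha) (Subgroup.mem_zpowers a))
    (H02.le_pPrimeCore_of_isNilpotent (by rw [Nat.card_zpowers]; exact hc.coprime_dvd_left hb) (Subgroup.mem_zpowers b)))
  have h3 : ∀ a b : G, orderOf a ∣ m → orderOf b ∣ n → Commute a b := fun a b ha hb =>
    H02.commute_of_coprime_of_isNilpotent ((h.cop.coprime_dvd_left ha).coprime_dvd_right hb)
  have h4 := (h2 h.cop _ _ (h.orderOf_mul_inv_dvd (h1 x)) (h.orderOf_mul_inv_dvd (h1 y))).dvd_of_dvd_mul_right (h1 _)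
  have h5 := (h2 h.cop.symm _ _ (h.orderOf_pow_dvd (h1 x)) (h.orderOf_pow_dvd (h1 y))).dvd_of_dvd_mul_left (h1 _)
  rw [← h.pow_mul_eq (h3 _ _ h4 h5) h4 h5, mul_assoc (x * _), ← mul_assoc (y * _),
    (h3 _ _ (h.orderOf_mul_inv_dvd (h1 y)) (h.orderOf_pow_dvd (h1 x))).eq]
  congr 1; group

/-- the projection onto the `n`-part of a nilpotent group -/
def proj [Finite G] [Group.IsNilpotent G] (hG : Nat.card G ∣ m * n) : G →* G :=
  MonoidHom.mk' (· ^ e) (h.mul_pow hG)

theorem card_range_proj [Finite G] [Group.IsNilpotent G] (hG : Nat.card G ∣ m * n) :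
    Nat.card (h.proj hG).range ∣ n := by
  refine Nat.Coprime.dvd_of_dvd_mul_left (Nat.coprime_of_dvd fun p hp h1 h2 => ?_)
    ((Subgroup.card_subgroup_dvd_card _).trans hG)
  have := Fact.mk hp
  obtain ⟨⟨_, x, rfl⟩, h3⟩ := exists_prime_orderOf_dvd_card' p h1
  rw [← Subgroup.orderOf_coe] at h3
  exact hp.not_dvd_one (h.cop ▸ Nat.dvd_gcd h2 (h3 ▸ h.orderOf_pow_dvd ((orderOf_dvd_natCard x).trans hG)))

end PExp

theorem isElementary_of_isCyclic [Finite G] [IsCyclic G] : ∃ p : ℕ, p.Prime ∧ IsElementary p G := by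
  obtain ⟨p, h1, hp⟩ := Nat.exists_infinite_primes (Nat.card G + 1)
  obtain ⟨x, hx⟩ := IsCyclic.exists_generator (α := G)
  refine ⟨p, hp, x, Subgroup.mem_center_iff.2 fun g => (mul_comm' _ _), ?_, 0, ?_⟩
  · exact (hp.coprime_iff_not_dvd.2 fun h => by
      have := Nat.le_of_dvd Nat.card_pos (h.trans (orderOf_dvd_natCard x)); omega).symm
  · rw [pow_zero, Subgroup.index_eq_one, Subgroup.eq_top_iff']; exact hx

end H07
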