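import Mathlib
import Cfsg.Agent.H07.Glb4
import Cfsg.Agent.H07.Part
import Cfsg.Agent.H07.Deg2

/-!
H07.Glb5: transfer of characters over a fixed character (character triple isomorphisms).
* `H07.Bij R I J`: a relation inducing a bijection; `Corr.of_bij`.
* `H07.cm`, `bij_comap`: pull back along a homomorphism; `H07.Gal`: Gallagher correspondence in `mult` form.
* `H07.Span`: `Γ ← Γ' → Γ''` with `θ ∘ π = (lam ∘ ρ) α`; `Span.bij`, `Span.mult_eq`, `Span.corr`, `Span.nonempty`.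
* `H07.exists_span`: reduction to a central `Z` and linear `lam`; `exists_span_quot`: reduction to `W / N` if `θ` extends.
-/

set_option autoImplicit false

namespace H07

open Cfsg H05 H06
open scoped ComplexConjugate commutatorElement

universe u

section Bij

variable {A B C : Type*}

/-- `R` induces a bijection between `I` and `J` -/
structure Bij (R : A → B → Prop) (I : Set A) (J : Set B) : Prop where
  ex : ∀ a ∈ I, ∃ b ∈ J, R a b
  ex' : ∀ b ∈ J, ∃ a ∈ I, R a b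
  inj : ∀ a ∈ I, ∀ a' ∈ I, ∀ b ∈ J, R a b → R a' b → a = a'
  inj' : ∀ a ∈ I, ∀ b ∈ J, ∀ b' ∈ J, R a b → R a b' → b = b'

variable {R : A → B → Prop} {I : Set A} {J : Set B}

theorem Bij.symm (h : Bij R I J) : Bij (fun b a => R a b) J I :=
  ⟨h.ex', h.ex, fun b hb b' hb' a ha => h.inj' a ha b hb b' hb', fun b hb a ha a' ha' => h.inj a ha a' ha' b hb⟩

theorem Bij.trans {Q : B → C → Prop} {K : Set C} (h : Bij R I J) (h' : Bij Q J K) :
    Bij (fun a c => ∃ b ∈ J, R a b ∧ Q b c) I K := by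
  refine ⟨fun a ha => ?_, fun c hc => ?_, ?_, ?_⟩
  · obtain ⟨b, hb, h1⟩ := h.ex a ha
    obtain ⟨c, hc, h2⟩ := h'.ex b hb
    exact ⟨c, hc, b, hb, h1, h2⟩
  · obtain ⟨b, hb, h1⟩ := h'.ex' c hc
    obtain ⟨a, ha, h2⟩ := h.ex' b hb
    exact ⟨a, ha, b, hb, h2, h1⟩
  · rintro a ha a' ha' c hc ⟨b, hb, h1, h2⟩ ⟨b', hb', h3, h4⟩
    obtain rfl := h'.inj b hb b' hb' c hc h2 h4
    exact h.inj a ha a' ha' b hb h1 h3
  · rintro a ha c hc c' hc' ⟨b, hb, h1, h2⟩ ⟨b', hb', h3, h4⟩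
    obtain rfl := h.inj' a ha b hb b' hb' h1 h3
    exact h'.inj' b hb c hc c' hc' h2 h4

theorem Bij.congr {Q : A → B → Prop} (h : Bij R I J) (e : ∀ a ∈ I, ∀ b ∈ J, R a b ↔ Q a b) : Bij Q I J :=
  ⟨fun a ha => (h.ex a ha).imp fun b hb => ⟨hb.1, (e a ha b hb.1).1 hb.2⟩,
    fun b hb => (h.ex' b hb).imp fun a ha => ⟨ha.1, (e a ha.1 b hb).1 ha.2⟩,
    fun a ha a' ha' b hb h5 h6 => h.inj a ha a' ha' b hb ((e a ha b hb).2 h5) ((e a' ha' b hb).2 h6),
    fun a ha b hb b' hb' h5 h6 => h.inj' a ha b hb b' hb' ((e a ha b hb).2 h5) ((e a ha b' hb').2 h6)⟩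

theorem Bij.restrict (h : Bij R I J) (P : A → Prop) (Q : B → Prop) (hPQ : ∀ a ∈ I, ∀ b ∈ J, R a b → (P a ↔ Q b)) :
    Bij R {a | a ∈ I ∧ P a} {b | b ∈ J ∧ Q b} :=
  ⟨fun a ha => (h.ex a ha.1).imp fun b hb => ⟨⟨hb.1, (hPQ a ha.1 b hb.1 hb.2).1 ha.2⟩, hb.2⟩,
    fun b hb => (h.ex' b hb.1).imp fun a ha => ⟨⟨ha.1, (hPQ a ha.1 b hb.1 ha.2).2 hb.2⟩, ha.2⟩,
    fun a ha a' ha' b hb => h.inj a ha.1 a' ha'.1 b hb.1, fun a ha b hb b' hb' => h.inj' a ha.1 b hb.1 b' hb'.1⟩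

theorem Bij.card_eq (h : Bij R I J) : Nat.card I = Nat.card J := by
  choose f hf hR using h.ex
  refine Nat.card_eq_of_bijective (fun a => ⟨f a a.2, hf a a.2⟩) ⟨fun a a' e => Subtype.ext
    (h.inj _ a.2 _ a'.2 _ (hf a a.2) (hR a a.2) (by
      rw [show f a a.2 = f a' a'.2 from congrArg Subtype.val e]; exact hR a' a'.2)), fun b => ?_⟩
  obtain ⟨a, ha, h1⟩ := h.ex' b b.2
  exact ⟨⟨a, ha⟩, Subtype.ext (h.inj' a ha _ (hf a ha) _ b.2 (hR a ha) h1)⟩

theorem Corr.of_bij {A' B' : Type*} {p : ℕ} {m : A → B → ℕ} {m' : A' → B' → ℕ} {I' : Set A'} {J' : Set B'}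
    (h : Corr p m' I' J') {R : A → A' → Prop} {Q : B → B' → Prop} (hR : Bij R I I') (hQ : Bij Q J J')
    (hm : ∀ χ ∈ I, ∀ χ' ∈ I', ∀ ψ ∈ J, ∀ ψ' ∈ J', R χ χ' → Q ψ ψ' → m χ ψ = m' χ' ψ') : Corr p m I J :=
  h.transfer R Q hR.ex hR.ex' hR.inj hQ.ex hQ.ex' hQ.inj hm

end Bij

section Comap

variable {Γ Γ' : Type*} [Group Γ] [Group Γ'] (f : Γ' →* Γ) {X Y S : Subgroup Γ} {X' Y' S' : Subgroup Γ'}

/-- restriction of `f` -/
def cm (h : X' = X.comap f) : X' →* X := (f.comp X'.subtype).codRestrict X fun x => h.le x.2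

@[simp] theorem coe_cm (h : X' = X.comap f) (x : X') : (cm f h x : Γ) = f x := rfl

theorem cm_surj (h : X' = X.comap f) (hX : X ≤ f.range) : Function.Surjective (cm f h) := fun x =>
  (hX x.2).elim fun y hy => ⟨⟨y, h.ge (show f y ∈ X from hy ▸ x.2)⟩, Subtype.ext hy⟩

theorem mult_comp_surj {X C C' : Type*} [Group X] [Group C] [Group C'] [Finite C] [Finite C'] {X' : Type*} [Group X']
    {ι : C →* X} {ι' : C' →* X'} (g : C' →* C) (hg : Function.Surjective g) {χ : X → ℂ} {χ' : X' → ℂ} {ψ : C → ℂ}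
    (h : ∀ c, χ' (ι' c) = χ (ι (g c))) : mult ι' χ' (fun c => ψ (g c)) = mult ι χ ψ := by
  unfold mult
  rw [funext h, @classInner_comp_of_surjective C _ (Fintype.ofFinite C) (fun c => χ (ι c)) ψ C' _
    (Fintype.ofFinite C') g hg]

theorem mem_stab_cm (h : X' = X.comap f) (hX : X ≤ f.range) {ψ : X → ℂ} {s : Γ'} :
    s ∈ stab (fun x => ψ (cm f h x)) ↔ f s ∈ stab ψ := by
  subst h
  refine ⟨fun ⟨h1, h2⟩ => ?_, fun ⟨h1, h2⟩ => ⟨Subgroup.le_normalizer_comap f h1, fun x => ?_⟩⟩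
  · have h3 : f s ∈ Subgroup.normalizer (X : Set Γ) := by
      have := Subgroup.le_normalizer_map f ⟨s, h1, rfl⟩
      rwa [Subgroup.map_comap_eq_self hX] at this
    refine ⟨h3, fun x => ?_⟩
    obtain ⟨x, rfl⟩ := cm_surj f rfl hX x
    exact (congrArg ψ (Subtype.ext (by simp))).trans (h2 x)
  · exact (congrArg ψ (Subtype.ext (by simp))).trans (h2 (cm f rfl x))

variable [Finite Γ] [Finite Γ']

theorem bij_comap (hX' : X' = X.comap f) (hY' : Y' = Y.comap f) (hS : S'.map f = S) (hX : X ≤ f.range) (h : Y ≤ X)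
    (h' : Y' ≤ X') {φ : Y → ℂ} (hφ : IsIrrCharacter Y φ) :
    Bij (fun ψ ψ' => ψ' = fun x => ψ (cm f hX' x)) (IrrOver S h φ) (IrrOver S' h' fun y => φ (cm f hY' y)) := by
  have hs := cm_surj f hX' hX
  have hm : ∀ ψ : X → ℂ, mult (Subgroup.inclusion h') (fun x => ψ (cm f hX' x)) (fun y => φ (cm f hY' y)) =
      mult (Subgroup.inclusion h) ψ φ := fun ψ => mult_comp_surj _ (cm_surj f hY' (h.trans hX)) fun _ => rfl
  have hi : ∀ ψ : X → ℂ, S' ≤ stab (fun x => ψ (cm f hX' x)) ↔ S ≤ stab ψ := fun ψ => by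
    rw [← hS, Subgroup.map_le_iff_le_comap]
    exact forall₂_congr fun _ _ => mem_stab_cm f hX' hX
  refine ⟨fun ψ hψ => ⟨_, ⟨⟨hψ.1.1.comp_of_surjective _ hs, (hi ψ).2 hψ.1.2⟩, hm ψ ▸ hψ.2⟩, rfl⟩, fun ψ' hψ' => ?_,
    fun a _ a' _ b _ h1 h2 => funext fun x => ?_, fun _ _ _ _ _ _ h1 h2 => h1.trans h2.symm⟩
  · have := Fintype.ofFinite X'
    have := Fintype.ofFinite (cm f hX').ker
    let j : (cm f hX').ker →* Y' := (X'.subtype.comp (cm f hX').ker.subtype).codRestrict Y' fun x => hY'.ge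
      (show f x ∈ Y from (show f x = 1 from congrArg Subtype.val x.2) ▸ one_mem _)
    obtain ⟨ψ, h1, rfl⟩ := hψ'.1.1.exists_of_surjective _ hs ((res_inner_one_ne_zero_iff _ hψ'.1.1).1
      ((mult_sub_ne_zero _ hψ'.1.1.isCharacter isCharacter_one').1 (mult_trans (ι₂ := j) hψ'.1.1.isCharacter
        (hφ.comp_of_surjective _ (cm_surj f hY' (h.trans hX))) isCharacter_one' hψ'.2 (by
          rw [mult_ne_zero_iff _ (hφ.isCharacter.comp _) isCharacter_one', show (fun c => φ (cm f hY' (j c))) =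
            φ 1 • fun _ => (1 : ℂ) from funext fun c => by
              rw [show cm f hY' (j c) = 1 from Subtype.ext (congrArg Subtype.val c.2 :)]; simp,
            H05.classInner_smul_left, classInner_one_one, mul_one]
          exact hφ.apply_one_ne_zero))))
    exact ⟨ψ, ⟨⟨h1, (hi ψ).1 hψ'.1.2⟩, hm ψ ▸ hψ'.2⟩, rfl⟩
  · obtain ⟨x, rfl⟩ := hs x
    exact congrFun (h1.symm.trans h2) x

end Comap

section Gal

variable {Γ : Type*} [Group Γ] {N T U S : Subgroup Γ}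

/-- hypotheses of Gallagher's theorem -/
structure Gal (h : N ≤ T) (φ θ : N → ℂ) (α : T → ℂ) : Prop where
  irr : IsIrrCharacter N φ
  inv : T ≤ stab φ
  char : IsCharacter T α
  prod : IsIrrCharacter N θ
  eq : ∀ n, θ n = φ n * α (Subgroup.inclusion h n)

namespace Gal

variable {h : N ≤ T} {φ θ : N → ℂ} {α : T → ℂ} (hG : Gal h φ θ α)
include hG

theorem mono (hNU : N ≤ U) (hUT : U ≤ T) : Gal hNU φ θ fun u => α (Subgroup.inclusion hUT u) :=
  ⟨hG.irr, hUT.trans hG.inv, hG.char.comp _, hG.prod, hG.eq⟩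

theorem normal : (N.subgroupOf T).Normal := normal_subgroupOf (hG.inv.trans (stab_le_normalizer φ))

theorem aux : (∀ g, haveI := hG.normal
    conjFun (N.subgroupOf T) g (fun n => φ (Subgroup.subgroupOfEquivOfLe h n)) =
      fun n => φ (Subgroup.subgroupOfEquivOfLe h n)) ∧
    ((fun n => φ (Subgroup.subgroupOfEquivOfLe h n)) * fun n : N.subgroupOf T => α n) =
      fun n => θ (Subgroup.subgroupOfEquivOfLe h n) :=
  ⟨fun g => funext fun _ => stab_apply (hG.inv g.2) rfl, funext fun _ => (hG.eq _).symm⟩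

variable [Finite Γ]

omit hG in
theorem ne_iff [Fintype (N.subgroupOf T)] {β : T → ℂ} (hβ : IsCharacter T β) (hφ : IsCharacter N φ) :
    mult (Subgroup.inclusion h) β φ ≠ 0 ↔ classInner (fun n : N.subgroupOf T => β n)
      (fun n => φ (Subgroup.subgroupOfEquivOfLe h n)) ≠ 0 := by
  rw [← mult_subgroupOf h]
  exact mult_sub_ne_zero _ hβ (hφ.comp (Subgroup.subgroupOfEquivOfLe h).toMonoidHom)

theorem mul {β : T → ℂ} (hβ : IsIrrCharacter T β) (h1 : mult (Subgroup.inclusion h) β φ ≠ 0) :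
    IsIrrCharacter T (β * α) ∧ mult (Subgroup.inclusion h) (β * α) θ ≠ 0 := by
  have := hG.normal
  have := Fintype.ofFinite T
  have := Fintype.ofFinite (N.subgroupOf T)
  have h2 := (ne_iff hβ.isCharacter hG.irr.isCharacter).1 h1
  have h3 := hG.aux.2 ▸ hG.prod.comp_mulEquiv (Subgroup.subgroupOfEquivOfLe h)
  refine ⟨gallagher_irr _ (hG.irr.comp_mulEquiv _) hG.aux.1 h3 hG.char (fun _ => rfl) hβ h2, ?_⟩
  rwa [ne_iff (hβ.isCharacter.mul hG.char) hG.prod.isCharacter, ← hG.aux.2,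
    gallagher_res _ (hG.irr.comp_mulEquiv _) hG.aux.1 h3 (fun _ => rfl) hβ h2]

theorem inj {β γ : T → ℂ} (hβ : IsIrrCharacter T β) (h1 : mult (Subgroup.inclusion h) β φ ≠ 0)
    (hγ : IsIrrCharacter T γ) (h2 : mult (Subgroup.inclusion h) γ φ ≠ 0) (e : β * α = γ * α) : β = γ := by
  have := hG.normal
  have := Fintype.ofFinite T
  have := Fintype.ofFinite (N.subgroupOf T)
  exact gallagher_inj _ (hG.irr.comp_mulEquiv _) hG.aux.1
    (hG.aux.2 ▸ hG.prod.comp_mulEquiv (Subgroup.subgroupOfEquivOfLe h)) hG.char (fun _ => rfl) hβ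
    ((ne_iff hβ.isCharacter hG.irr.isCharacter).1 h1) hγ ((ne_iff hγ.isCharacter hG.irr.isCharacter).1 h2) e

theorem surj {ψ : T → ℂ} (hψ : IsIrrCharacter T ψ) (h1 : mult (Subgroup.inclusion h) ψ θ ≠ 0) :
    ∃ β, IsIrrCharacter T β ∧ mult (Subgroup.inclusion h) β φ ≠ 0 ∧ ψ = β * α := by
  have := hG.normal
  have := Fintype.ofFinite T
  have := Fintype.ofFinite (N.subgroupOf T)
  obtain ⟨β, h2, h3, h4⟩ := gallagher_surj _ (hG.irr.comp_mulEquiv _) hG.aux.1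
    (hG.aux.2 ▸ hG.prod.comp_mulEquiv (Subgroup.subgroupOfEquivOfLe h)) hG.char (fun _ => rfl) hψ
    (hG.aux.2 ▸ (ne_iff hψ.isCharacter hG.prod.isCharacter).1 h1)
  exact ⟨β, h2, (ne_iff h2.isCharacter hG.irr.isCharacter).2 h3, h4⟩

theorem mem_stab_iff {s : Γ} (h1 : s ∈ stab α) (h2 : s ∈ stab φ) {β : T → ℂ} (hβ : IsIrrCharacter T β)
    (h3 : mult (Subgroup.inclusion h) β φ ≠ 0) : s ∈ stab (β * α) ↔ s ∈ stab β := by
  have h4 := stab_le_normalizer α h1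
  rw [mem_stab h4, mem_stab h4]
  rw [mem_stab h4] at h1
  refine ⟨fun h5 => congrFun (hG.inj (hβ.comp_mulEquiv (cjA h4)) (by rwa [mult_cjA_left h h4 h2]) hβ h3
    (funext fun g => ?_)), fun h5 g => by simp [h1, h5]⟩
  rw [← h5 g, Pi.mul_apply, Pi.mul_apply, h1]

theorem bij (h1 : S ≤ stab α) (h2 : S ≤ stab φ) :
    Bij (fun ψ β => ψ = β * α) (IrrOver S h θ) (IrrOver S h φ) := by
  refine ⟨fun ψ hψ => ?_, fun β hβ => ?_, fun _ _ _ _ _ _ h1 h2 => h1.trans h2.symm,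
    fun _ _ β hβ γ hγ h1 h2 => hG.inj hβ.1.1 hβ.2 hγ.1.1 hγ.2 (h1.symm.trans h2)⟩
  · obtain ⟨β, h3, h4, rfl⟩ := hG.surj hψ.1.1 hψ.2
    exact ⟨β, ⟨⟨h3, fun s hs => (hG.mem_stab_iff (h1 hs) (h2 hs) h3 h4).1 (hψ.1.2 hs)⟩, h4⟩, rfl⟩
  · exact ⟨_, ⟨⟨(hG.mul hβ.1.1 hβ.2).1, fun s hs => (hG.mem_stab_iff (h1 hs) (h2 hs) hβ.1.1 hβ.2).2 (hβ.1.2 hs)⟩,
      (hG.mul hβ.1.1 hβ.2).2⟩, rfl⟩

theorem over_of_res (hNU : N ≤ U) (hUT : U ≤ T) {β : T → ℂ} (hβ : IsIrrCharacter T β)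
    (h1 : mult (Subgroup.inclusion h) β φ ≠ 0) {γ : U → ℂ} (hγ : IsIrrCharacter U γ)
    (h2 : mult (Subgroup.inclusion hUT) β γ ≠ 0) : mult (Subgroup.inclusion hNU) γ φ ≠ 0 := by
  obtain ⟨η, hη, h3⟩ := exists_mult_under (Subgroup.inclusion hNU) hγ
  obtain ⟨g, hg, rfl⟩ := exists_cjA_of_under h (hG.inv.trans (stab_le_normalizer φ)) hβ hG.irr hη h1
    (mult_trans hβ.isCharacter hγ hη.isCharacter h2 h3)
  rwa [funext ((mem_stab _).1 (hG.inv hg))] at h3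

theorem mult_eq (hNU : N ≤ U) (hUT : U ≤ T) {β : T → ℂ} (hβ : IsIrrCharacter T β)
    (h1 : mult (Subgroup.inclusion h) β φ ≠ 0) {γ : U → ℂ} (hγ : IsIrrCharacter U γ)
    (h2 : mult (Subgroup.inclusion hNU) γ φ ≠ 0) :
    mult (Subgroup.inclusion hUT) (β * α) (γ * fun u => α (Subgroup.inclusion hUT u)) =
      mult (Subgroup.inclusion hUT) β γ := by
  have := Fintype.ofFinite U
  have hU := hG.mono hNU hUT
  refine mult_of_eq ?_
  rw [show (fun c => (β * α) (Subgroup.inclusion hUT c)) = (fun c => β (Subgroup.inclusion hUT c)) *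
    fun u => α (Subgroup.inclusion hUT u) from rfl, comp_eq_sum_mult _ hβ.isCharacter, Finset.sum_mul,
    H05.classInner_sum_left, Finset.sum_eq_single ⟨γ, hγ⟩ (fun η _ hη => ?_) (by simp), smul_mul_assoc,
    H05.classInner_smul_left, (hU.mul hγ h2).1.classInner_self, mul_one]
  by_cases h3 : mult (Subgroup.inclusion hUT) β η.1 = 0
  · simp [h3]
  have h4 := hG.over_of_res hNU hUT hβ h1 η.2 h3
  rw [smul_mul_assoc, H05.classInner_smul_left, (hU.mul η.2 h4).1.classInner_of_ne (hU.mul hγ h2).1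
    fun e => hη (Subtype.ext (hU.inj η.2 h4 hγ h2 e)), mul_zero]

end Gal

end Gal

section Span

variable {Γ Γ' Γ'' : Type*} [Group Γ] [Group Γ'] [Group Γ'']

/-- a character triple isomorphism between `(W, N, θ)` and `(Γ'', Z, lam)`, for subgroups of `G` -/
structure Span (π : Γ' →* Γ) (ρ : Γ' →* Γ'') {N G : Subgroup Γ} (W : Subgroup Γ) (h : N ≤ G) (Z : Subgroup Γ'')
    (θ : N → ℂ) (lam : Z → ℂ) (α : G.comap π → ℂ) : Prop where
  range : π.range = W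
  surj : Function.Surjective ρ
  comap : N.comap π = Z.comap ρ
  le : G ≤ W
  hθ : IsIrrCharacter N θ
  hlam : lam ∈ IrrInv ⊤ Z
  char : IsCharacter _ α
  inv : ⊤ ≤ stab α
  eq : ∀ x : N.comap π, θ (cm π rfl x) = lam (cm ρ comap x) * α (Subgroup.inclusion (Subgroup.comap_mono h) x)

/-- the subgroup corresponding to `X` -/
def sp (π : Γ' →* Γ) (ρ : Γ' →* Γ'') (X : Subgroup Γ) : Subgroup Γ'' := (X.comap π).map ρ

theorem sp_mono (π : Γ' →* Γ) (ρ : Γ' →* Γ'') {X Y : Subgroup Γ} (h : X ≤ Y) : sp π ρ X ≤ sp π ρ Y :=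
  Subgroup.map_mono (Subgroup.comap_mono h)

theorem sp_norm (π : Γ' →* Γ) (ρ : Γ' →* Γ'') {X Y : Subgroup Γ} (h : X ≤ Subgroup.normalizer (Y : Set Γ)) :
    sp π ρ X ≤ Subgroup.normalizer (sp π ρ Y : Set Γ'') :=
  (Subgroup.map_mono ((Subgroup.comap_mono h).trans (Subgroup.le_normalizer_comap π))).trans
    (Subgroup.le_normalizer_map ρ)

namespace Span

variable {π : Γ' →* Γ} {ρ : Γ' →* Γ''} {N G W S T U X Y : Subgroup Γ} {h : N ≤ G} {Z : Subgroup Γ''}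
  {θ : N → ℂ} {lam : Z → ℂ} {α : G.comap π → ℂ} (hS : Span π ρ W h Z θ lam α)
include hS

theorem sp_self : sp π ρ N = Z := by rw [sp, hS.comap, Subgroup.map_comap_eq_self_of_surjective hS.surj]

theorem le_sp (hX : N ≤ X) : Z ≤ sp π ρ X := hS.sp_self.ge.trans (sp_mono π ρ hX)

theorem comap_sp (hX : N ≤ X) : X.comap π = (sp π ρ X).comap ρ :=
  (Subgroup.comap_map_eq_self (((Subgroup.ker_le_comap ρ Z).trans hS.comap.ge).trans (Subgroup.comap_mono hX))).symm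

theorem mem_sp (hX : N ≤ X) {x : Γ'} : ρ x ∈ sp π ρ X ↔ π x ∈ X := by
  rw [← Subgroup.mem_comap, ← hS.comap_sp hX, Subgroup.mem_comap]

theorem mem_Z {x : Γ'} : ρ x ∈ Z ↔ π x ∈ N := by rw [← hS.sp_self, hS.mem_sp le_rfl]

theorem relIndex_sp (hX : N ≤ X) (hY : Y ≤ W) : (sp π ρ X).relIndex (sp π ρ Y) = X.relIndex Y := by
  rw [sp, sp, ← Subgroup.relIndex_comap, ← sp, ← hS.comap_sp hX, Subgroup.relIndex_comap,
    Subgroup.map_comap_eq_self (hY.trans hS.range.ge)]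

theorem relIndex_Z (hY : Y ≤ W) : Z.relIndex (sp π ρ Y) = N.relIndex Y := by
  rw [← hS.relIndex_sp le_rfl hY, hS.sp_self]

theorem sp_sup (hX : X ≤ W) (hY : Y ≤ W) : sp π ρ (X ⊔ Y) = sp π ρ X ⊔ sp π ρ Y := by
  rw [sp, ← Subgroup.comap_sup_eq_of_le_range _ (hX.trans hS.range.ge) (hY.trans hS.range.ge), Subgroup.map_sup]
  rfl

theorem sp_top : sp π ρ W = ⊤ := by
  rw [sp, ← hS.range, π.comap_range_self, Subgroup.map_top_of_surjective _ hS.surj]

/-- the correspondence of characters -/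
def Rel (hT : N ≤ T) (hTG : T ≤ G) (ψ : T → ℂ) (ψ' : sp π ρ T → ℂ) : Prop :=
  ∀ x : T.comap π, ψ (cm π rfl x) =
    ψ' (cm ρ (hS.comap_sp hT) x) * α (Subgroup.inclusion (Subgroup.comap_mono hTG) x)

variable [Finite Γ] [Finite Γ'] [Finite Γ'']

theorem gal : Gal (Subgroup.comap_mono h) (fun x => lam (cm ρ hS.comap x)) (fun x => θ (cm π rfl x)) α :=
  ⟨hS.hlam.1.comp_of_surjective _ (cm_surj ρ _ (MonoidHom.range_eq_top.2 hS.surj ▸ le_top)),
    fun _ _ => (mem_stab_cm ρ _ (MonoidHom.range_eq_top.2 hS.surj ▸ le_top)).2 (hS.hlam.2 trivial), hS.char,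
    hS.hθ.comp_of_surjective _ (cm_surj π _ ((h.trans hS.le).trans hS.range.ge)), hS.eq⟩

theorem bij (hT : N ≤ T) (hTG : T ≤ G) (hSW : S ≤ W) (hST : S ≤ Subgroup.normalizer (T : Set Γ)) :
    Bij (hS.Rel hT hTG) (IrrOver S hT θ) (IrrOver (sp π ρ S) (hS.le_sp hT) lam) := by
  have h0 : ∀ X : Subgroup Γ'', X ≤ ρ.range := fun X => MonoidHom.range_eq_top.2 hS.surj ▸ le_top
  have h1 := bij_comap π rfl rfl (Subgroup.map_comap_eq_self (hSW.trans hS.range.ge))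
    ((hTG.trans hS.le).trans hS.range.ge) hT (Subgroup.comap_mono hT) hS.hθ
  have h2 := (hS.gal.mono (Subgroup.comap_mono hT) (Subgroup.comap_mono hTG)).bij (S := S.comap π)
    (fun s hs => mem_stab_res _ (hS.inv trivial) (Subgroup.le_normalizer_comap π (hST hs)))
    (fun _ _ => (mem_stab_cm ρ _ (h0 _)).2 (hS.hlam.2 trivial))
  have h3 := bij_comap ρ (hS.comap_sp hT) hS.comap (S' := S.comap π) rfl (h0 _) (hS.le_sp hT)
    (Subgroup.comap_mono hT) hS.hlam.1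
  have h4 := (h1.trans h2).trans h3.symm
  refine h4.congr fun ψ hψ ψ' hψ' => ⟨fun ⟨_, _, ⟨_, _, a, b⟩, c⟩ => congrFun (a.symm.trans (b.trans (by rw [c]; rfl))), fun a => ?_⟩
  obtain ⟨_, a1, rfl⟩ := h1.ex ψ hψ
  obtain ⟨_, a2, rfl⟩ := h3.ex ψ' hψ'
  exact ⟨_, a2, ⟨_, a1, rfl, funext a⟩, rfl⟩

theorem mult_eq (hU : N ≤ U) (hUT : U ≤ T) (hTG : T ≤ G) {χ : T → ℂ} {χ' : sp π ρ T → ℂ} {ψ : U → ℂ}
    {ψ' : sp π ρ U → ℂ} (h1 : IsIrrCharacter _ χ') (h2 : mult (Subgroup.inclusion (hS.le_sp (hU.trans hUT))) χ' lam ≠ 0)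
    (h3 : IsIrrCharacter _ ψ') (h4 : mult (Subgroup.inclusion (hS.le_sp hU)) ψ' lam ≠ 0)
    (h5 : hS.Rel (hU.trans hUT) hTG χ χ') (h6 : hS.Rel hU (hUT.trans hTG) ψ ψ') :
    mult (Subgroup.inclusion hUT) χ ψ = mult (Subgroup.inclusion (sp_mono π ρ hUT)) χ' ψ' := by
  have h0 : ∀ X : Subgroup Γ'', X ≤ ρ.range := fun X => MonoidHom.range_eq_top.2 hS.surj ▸ le_top
  have a1 := cm_surj ρ (hS.comap_sp hU) (h0 _)
  have a2 := cm_surj ρ hS.comap (h0 _)
  rw [← mult_comp_surj (ι' := Subgroup.inclusion (Subgroup.comap_mono hUT)) (χ' := fun x => χ (cm π rfl x)) _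
    (cm_surj π rfl (((hUT.trans hTG).trans hS.le).trans hS.range.ge)) fun _ => rfl,
    ← mult_comp_surj (ι' := Subgroup.inclusion (Subgroup.comap_mono hUT))
    (χ' := fun x => χ' (cm ρ (hS.comap_sp (hU.trans hUT)) x)) _ a1 fun _ => rfl, funext h5, funext h6]
  exact (hS.gal.mono (Subgroup.comap_mono (hU.trans hUT)) (Subgroup.comap_mono hTG)).mult_eq (Subgroup.comap_mono hU)
    (Subgroup.comap_mono hUT) (h1.comp_of_surjective _ (cm_surj ρ _ (h0 _)))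
    (fun e => h2 ((mult_comp_surj _ a2 fun _ => rfl).symm.trans e)) (h3.comp_of_surjective _ a1)
    fun e => h4 ((mult_comp_surj _ a2 fun _ => rfl).symm.trans e)

theorem corr {p : ℕ} (hU : N ≤ U) (hUT : U ≤ T) (hTG : T ≤ G) (hSW : S ≤ W)
    (hST : S ≤ Subgroup.normalizer (T : Set Γ)) (hSU : S ≤ Subgroup.normalizer (U : Set Γ))
    (hc : Corr p (mult (Subgroup.inclusion (sp_mono π ρ hUT))) (IrrOver (sp π ρ S) (hS.le_sp (hU.trans hUT)) lam)
      (IrrOver (sp π ρ S) (hS.le_sp hU) lam)) :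
    Corr p (mult (Subgroup.inclusion hUT)) (IrrOver S (hU.trans hUT) θ) (IrrOver S hU θ) :=
  hc.of_bij (hS.bij (hU.trans hUT) hTG hSW hST) (hS.bij hU (hUT.trans hTG) hSW hSU)
    fun _ _ _ h1 _ _ _ h2 h3 h4 => hS.mult_eq hU hUT hTG h1.1.1 h1.2 h2.1.1 h2.2 h3 h4

omit [Finite Γ] [Finite Γ'] [Finite Γ''] in
theorem Rel.apply_one {hT : N ≤ T} {hTG : T ≤ G} {ψ : T → ℂ} {ψ' : sp π ρ T → ℂ} (h1 : hS.Rel hT hTG ψ ψ') :
    ψ 1 * lam 1 = ψ' 1 * θ 1 := by
  have h2 := h1 1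
  have h3 := hS.eq 1
  simp only [map_one] at h2 h3
  rw [h2, h3]; ring

end Span

theorem exists_span_quot {N G W : Subgroup Γ} (h : N ≤ G) (hGW : G ≤ W) [(N.subgroupOf W).Normal] {θ : N → ℂ}
    (hθ : IsIrrCharacter N θ) {α : G → ℂ} (hα : IsCharacter G α) (hW : W ≤ stab α)
    (e : ∀ n, α (Subgroup.inclusion h n) = θ n) :
    Span W.subtype (QuotientGroup.mk' (N.subgroupOf W)) W h ⊥ θ 1 fun x => α (cm W.subtype rfl x) :=
  ⟨W.range_subtype, QuotientGroup.mk'_surjective _, by rw [MonoidHom.comap_bot, QuotientGroup.ker_mk']; rfl, hGW, hθ,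
    ⟨isIrrCharacter_one, fun _ _ => ⟨Subgroup.le_normalizer_of_normal (K := ⊤) trivial, fun _ => rfl⟩⟩, hα.comp _,
    fun x _ => (mem_stab_cm _ _ (W.range_subtype.symm ▸ hGW)).2 (hW x.2), fun x => by simp [← e]; rfl⟩

theorem exists_coprime_mul (n : ℕ) {k : ℕ} (hk : k ≠ 0) : ∃ a b j, k = a * b ∧ a.Coprime n ∧ b ∣ n ^ j := by
  induction k using Nat.strong_induction_on with
  | _ k ih =>
  by_cases h : k.Coprime n
  · exact ⟨k, 1, 0, (mul_one k).symm, h, dvd_rfl⟩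
  obtain ⟨p, hp, ⟨k, rfl⟩, h2⟩ := Nat.Prime.not_coprime_iff_dvd.1 h
  obtain ⟨a, b, j, rfl, h3, h4⟩ := ih k (lt_mul_of_one_lt_left (right_ne_zero_of_mul hk).bot_lt hp.one_lt)
    (right_ne_zero_of_mul hk)
  exact ⟨a, p * b, j + 1, by ring, h3, by rw [pow_succ']; exact mul_dvd_mul h2 h4⟩

theorem exists_span {Γ : Type u} [Group Γ] [Finite Γ] {N G W : Subgroup Γ} (h : N ≤ G) (hGW : G ≤ W)
    (hW : W ≤ Subgroup.normalizer (G : Set Γ)) {θ : N → ℂ} (hθ : θ ∈ IrrInv W N) :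
    ∃ (Γ' Γ'' : Type u) (_ : Group Γ') (_ : Group Γ'') (_ : Finite Γ') (_ : Finite Γ'') (π : Γ' →* Γ) (ρ : Γ' →* Γ'')
      (Z : Subgroup Γ'') (lam : Z →* ℂˣ) (α : G.comap π → ℂ), Span π ρ W h Z θ (fun z => lam z) α ∧
      Z ≤ Subgroup.center Γ'' ∧ Function.Injective lam ∧ ∃ j, Nat.card Z ∣ N.relIndex G ^ j := by
  have := normal_subgroupOf (hθ.2.trans (stab_le_normalizer θ))
  obtain ⟨Γ', _, _, π, θh, L, hL⟩ := exists_isLift (N.subgroupOf W) ((isIrr_subgroupOf_iff N W (h.trans hGW) θ).2 hθ.1)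
    fun g => funext fun _ => stab_apply (hθ.2 g.2) rfl
  have hf : Finite ((N.subgroupOf W).comap π →* ℂˣ) := finite_hom_units
  obtain ⟨a, b, j, h1, h2, h3⟩ := exists_coprime_mul (N.relIndex G) (orderOf_pos L).ne'
  obtain ⟨e, he⟩ := exists_pExp ((h2.pow_right j).coprime_dvd_right h3)
  have hG : (G.comap (W.subtype.comp π)).Normal := (normal_subgroupOf hW).comap π
  have hNG : (N.subgroupOf W).comap π ≤ G.comap (W.subtype.comp π) := fun x hx => h hx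
  have hi : ((N.subgroupOf W).comap π).relIndex (G.comap (W.subtype.comp π)) = N.relIndex G := by
    rw [show (N.subgroupOf W).comap π = N.comap (W.subtype.comp π) from rfl, Subgroup.relIndex_comap,
      Subgroup.map_comap_eq_self]
    rwa [MonoidHom.range_comp, MonoidHom.range_eq_top.2 hL.surj, ← MonoidHom.range_eq_map, W.range_subtype]
  have hk : (L * (L ^ e)⁻¹) ^ a = 1 := orderOf_dvd_iff_pow_eq_one.1 (he.orderOf_mul_inv_dvd h1.dvd)
  obtain ⟨μ, h4, h5⟩ := exists_ext_hom_of_coprime (N := ((N.subgroupOf W).comap π).subgroupOf _)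
    ((L * (L ^ e)⁻¹).comp (Subgroup.subgroupOfEquivOfLe hNG).toMonoidHom) (fun g n => by
      have := hL.inv g (Subgroup.subgroupOfEquivOfLe hNG n)
      simp only [MonoidHom.comp_apply, MonoidHom.mul_apply, MonoidHom.inv_apply, MonoidHom.pow_apply]
      exact congrArg (fun x => x * (x ^ e)⁻¹) this)
    (k := a) (MonoidHom.ext fun n => DFunLike.congr_fun hk _) (h2.symm.coprime_dvd_left hi.dvd)
  replace h5 := h5 a (MonoidHom.ext fun n => DFunLike.congr_fun hk _)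
  have h6 : ∀ (g : Γ') x, μ (MulAut.conjNormal g x) = μ x := fun g => DFunLike.congr_fun
    (hom_ext_unique_of_coprime (N := ((N.subgroupOf W).comap π).subgroupOf _)
      (μ.comp (MulAut.conjNormal (H := G.comap (W.subtype.comp π)) g).toMonoidHom) μ (fun n => by
        have := hL.inv g (Subgroup.subgroupOfEquivOfLe hNG n)
        rw [h4]
        refine (h4 ⟨_, (inferInstance : ((N.subgroupOf W).comap π).Normal).conj_mem _ n.2 g⟩).trans ?_
        exact congrArg (fun x => x * (x ^ e)⁻¹) this)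
      (MonoidHom.ext fun n => DFunLike.congr_fun h5 _) h5 (h2.symm.coprime_dvd_left hi.dvd))
  let K := (L ^ e).ker.map ((N.subgroupOf W).comap π).subtype
  have hK : K.Normal := ⟨by
    rintro _ ⟨x, hx, rfl⟩ g
    exact ⟨_, (congrArg (· ^ e) (hL.inv g x)).trans hx, rfl⟩⟩
  have hc : (N.subgroupOf W).comap π = (((N.subgroupOf W).comap π).map (QuotientGroup.mk' K)).comap _ :=
    (Subgroup.comap_map_eq_self ((QuotientGroup.ker_mk' K).trans_le (Subgroup.map_subtype_le _))).symm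
  have hs := cm_surj _ hc (Subgroup.map_le_range _ _)
  have hker : ∀ x, cm _ hc x = 1 ↔ (L ^ e) x = 1 := fun x => by
    rw [Subtype.ext_iff, coe_cm, OneMemClass.coe_one, QuotientGroup.mk'_apply, QuotientGroup.eq_one_iff]
    exact ⟨fun ⟨y, hy, h⟩ => Subtype.ext h ▸ hy, fun h => ⟨x, h, rfl⟩⟩
  let lam := (cm _ hc).liftOfSurjective hs ⟨(L ^ e)⁻¹, fun x hx => inv_eq_one.2 ((hker x).1 hx)⟩
  have hl : ∀ x, lam (cm _ hc x) = (L x ^ e)⁻¹ := fun x => MonoidHom.liftOfRightInverse_comp_apply _ _ _ _ x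
  have hinj : Function.Injective lam := (injective_iff_map_eq_one lam).2 fun z hz => by
    obtain ⟨x, rfl⟩ := hs z
    exact (hker x).2 (inv_eq_one.1 ((hl x).symm.trans hz))
  have hZ : ((N.subgroupOf W).comap π).map (QuotientGroup.mk' K) ≤ Subgroup.center _ := by
    rintro _ ⟨x, hx, rfl⟩
    refine Subgroup.mem_center_iff.2 fun g => ?_
    obtain ⟨g, rfl⟩ := QuotientGroup.mk'_surjective K g
    have := hinj ((hl ⟨_, Subgroup.Normal.conj_mem inferInstance _ hx g⟩).trans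
      ((congrArg (fun x => (x ^ e)⁻¹) (hL.inv g ⟨x, hx⟩)).trans (hl _).symm))
    simpa [mul_inv_eq_iff_eq_mul] using congrArg Subtype.val this
  refine ⟨Γ', Γ' ⧸ K, _, _, ‹_›, inferInstance, W.subtype.comp π, QuotientGroup.mk' K, _, lam,
    fun x => θh x * (μ⁻¹ x : ℂˣ), ⟨?_, QuotientGroup.mk'_surjective K, hc, hGW, hθ.1, ⟨isIrrCharacter_monoidHom lam,
      fun g _ => centralizer_le_stab _ fun z hz => (Subgroup.mem_center_iff.1 (hZ hz) g).symm⟩,
      (hL.irr.isCharacter.restrict _).mul (isCharacter_monoidHom μ⁻¹), fun g _ =>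
        ⟨Subgroup.le_normalizer_of_normal (K := ⊤) trivial, fun x => ?_⟩, fun x => ?_⟩, hZ, hinj, j, ?_⟩
  · rw [MonoidHom.range_comp, MonoidHom.range_eq_top.2 hL.surj, ← MonoidHom.range_eq_map, W.range_subtype]
  · exact congrArg₂ (· * ·) (hL.irr.isClassFunction x g) (congrArg (fun u : ℂˣ => ((u⁻¹ : ℂˣ) : ℂ)) (h6 g x))
  · have h7 := hL.res x
    have h8 : μ (Subgroup.inclusion hNG x) = L x * (L x ^ e)⁻¹ := h4 ⟨Subgroup.inclusion hNG x, x.2⟩
    erw [hl x, MonoidHom.inv_apply, h8, h7]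
    simp only [Units.val_inv_eq_inv_val, Units.val_mul, Units.val_pow_eq_pow_val]
    have := (L x).ne_zero
    field_simp
    rfl
  · have : IsCyclic (((N.subgroupOf W).comap π).map (QuotientGroup.mk' K)) := isCyclic_of_injective_ringHom
      ((Units.coeHom ℂ).comp lam) (Units.val_injective.comp hinj)
    rw [← IsCyclic.exponent_eq_card]
    refine (Monoid.exponent_dvd_of_forall_pow_eq_one fun z => hinj ?_).trans h3
    obtain ⟨x, rfl⟩ := hs z
    rw [map_pow, hl, map_one, inv_pow, inv_eq_one]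
    exact DFunLike.congr_fun (orderOf_dvd_iff_pow_eq_one.1 (he.orderOf_pow_dvd h1.dvd)) x

end Span

end H07
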