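import Mathlib
import Cfsg.Agent.H01.Coprime2
import Cfsg.Agent.H07.Glb5

/-!
H07.Glb6: applications of `H07.Span`.
* `H07.exists_inv_over_top` (Isaacs 13.31), `H07.corr_rel` (relative Glauberman correspondence above a normal Sylow
  subgroup), `H07.Corr.degree` (degree congruence), `H07.corr_odd` (the Isaacs correspondence step for odd order).
-/

set_option autoImplicit false

namespace H07

open Cfsg H05 H06
open scoped ComplexConjugate commutatorElement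

universe u

variable {Γ : Type u} [Group Γ]

theorem SolMod.sp {Γ' Γ'' : Type*} [Group Γ'] [Group Γ''] (π : Γ' →* Γ) (ρ : Γ' →* Γ'') {X Y : Subgroup Γ}
    (h : SolMod X Y) : SolMod (sp π ρ X) (sp π ρ Y) := h.imp fun n hn => by
  rw [show derivedSeries (H07.sp π ρ Y) n = _ from (map_derivedSeries_eq (ρ.subgroupMap_surjective (Y.comap π)) n).symm]
  rintro _ ⟨x, hx, rfl⟩
  exact ⟨x, hn (map_derivedSeries_le_derivedSeries (cm π rfl) n ⟨x, hx, rfl⟩), rfl⟩

theorem SolMod.solvable {X Y S : Subgroup Γ} (h : SolMod X Y) (hS : S ≤ Y) (hd : Disjoint X S) : Group.IsSolvable S := by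
  obtain ⟨n, hn⟩ := h.mono le_rfl hS
  exact ⟨n, le_bot_iff.1 (hn.trans_eq (Subgroup.subgroupOf_eq_bot.2 hd))⟩

variable [Finite Γ]

theorem exists_inv_over_top {N G : Subgroup Γ} [G.Normal] (h : N ≤ G) (hcop : G.index.Coprime (N.relIndex G))
    (hs : SolMod G ⊤ ∨ SolMod N G) {θ : N → ℂ} (hθ : θ ∈ IrrInv ⊤ N) : (IrrOver ⊤ h θ).Nonempty := by
  obtain ⟨Γ', Γ'', _, _, _, _, π, ρ, Z, lam, α, hS, hZ, -, j, hj⟩ :=
    exists_span h le_top Subgroup.le_normalizer_of_normal hθ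
  have hn : ∀ X, X ≤ Subgroup.normalizer (sp π ρ G : Set Γ'') := fun _ =>
    le_top.trans (hS.sp_top.ge.trans (sp_norm π ρ Subgroup.le_normalizer_of_normal))
  have := Subgroup.normalizer_eq_top_iff.1 (top_le_iff.1 (hn _))
  have hi : (sp π ρ G).index = G.index := by
    rw [← Subgroup.relIndex_top_right, ← hS.sp_top, hS.relIndex_sp h le_rfl, Subgroup.relIndex_top_right]
  have hc : (Nat.card (sp π ρ G)).Coprime (sp π ρ G).index := by
    rw [hi, ← H01.card_mul_relIndex (hS.le_sp h), hS.relIndex_Z le_top]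
    exact (((hcop.pow_right j).coprime_dvd_right hj).mul_right hcop).symm
  obtain ⟨S, h1⟩ := Subgroup.exists_right_complement'_of_coprime hc
  rw [h1.symm.index_eq_card] at hc
  obtain ⟨χ, h2, h3⟩ : (IrrOver S (hS.le_sp h) fun z => lam z).Nonempty := by
    rcases hs with hs | hs
    · have := (hs.sp π ρ).solvable (le_top.trans hS.sp_top.ge) h1.disjoint
      exact exists_inv_over_solv (hn _) hc (le_top.trans (hS.hlam.2.trans (stab_le_normalizer _))) (hS.le_sp h)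
        (le_top.trans (hS.hlam.2.trans (stab_le_normalizer _))) ⟨hS.hlam.1, le_top.trans hS.hlam.2⟩
    · exact exists_inv_over (hS.le_sp h) (le_top.trans (hS.hlam.2.trans (stab_le_normalizer _))) (hn _)
        ((hc.symm.coprime_dvd_left (Subgroup.relIndex_dvd_card _ _)).coprime_dvd_right (Subgroup.relIndex_dvd_card _ _))
        (hS.sp_self ▸ hs.sp π ρ) ⟨hS.hlam.1, le_top.trans hS.hlam.2⟩
  obtain ⟨ψ, h4, -⟩ := (hS.bij h le_rfl le_rfl Subgroup.le_normalizer_of_normal).ex' χ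
    ⟨⟨h2.1, le_top.trans (h1.sup_eq_top.ge.trans (sup_le (le_stab_self h2.1.isClassFunction) h2.2))⟩, h3⟩
  exact ⟨ψ, h4⟩

theorem Corr.degree {p : ℕ} [Fact p.Prime] {P K C : Subgroup Γ} (hP : IsPGroup p P) {h : C ≤ K}
    (hPC : P ≤ Subgroup.normalizer (C : Set Γ)) (hc : Corr p (mult (Subgroup.inclusion h)) (IrrInv P K) (IrrInv P C))
    {χ : K → ℂ} (hχ : χ ∈ IrrInv P K) {ξ : C → ℂ} (hξ : ξ ∈ IrrInv P C) (h1 : ¬ p ∣ mult (Subgroup.inclusion h) χ ξ) :
    (charDegree χ : ZMod p) = mult (Subgroup.inclusion h) χ ξ * charDegree ξ := by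
  classical
  have h2 := dvd_sum_irr hP hPC (fun η => if η = ξ then 0 else mult (Subgroup.inclusion h) χ η * charDegree η)
    (fun t ht η _ => by
      rw [mult_cjA_right h (hχ.2 ht), show charDegree (fun g => η (cjA (hPC ht) g)) = charDegree η from
        charDegree_comp η (cjA (hPC ht)).toMonoidHom]
      refine if_congr ⟨fun e => funext fun g => ?_, fun e => e.symm ▸ funext ((mem_stab _).1 (hξ.2 ht))⟩ rfl rfl
      obtain ⟨g, rfl⟩ := (cjA (hPC ht)).surjective g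
      exact (congrFun e g).trans ((mem_stab _).1 (hξ.2 ht) g).symm)
    fun η hη => by
      split_ifs with e
      · exact dvd_zero p
      · exact (by_contra fun h3 => e (hc.uniq hχ hη hξ h3 h1) : p ∣ _).mul_right _
  rw [degree_eq_sum_mult (Subgroup.inclusion h) hχ.1.isCharacter, ← Finset.add_sum_erase _ _
    (Finset.mem_univ (⟨ξ, hξ.1⟩ : IrrCharacter C)), Nat.cast_add, Nat.cast_mul, add_eq_left, ZMod.natCast_eq_zero_iff]
  rw [← Finset.add_sum_erase _ _ (Finset.mem_univ (⟨ξ, hξ.1⟩ : IrrCharacter C)), if_pos rfl, zero_add] at h2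
  rwa [Finset.sum_congr rfl fun η hη => (if_neg fun e => Finset.ne_of_mem_erase hη (Subtype.ext e)).symm]

theorem irrOver_bot {S X : Subgroup Γ} : IrrOver S (bot_le : ⊥ ≤ X) 1 = IrrInv S X :=
  Set.ext fun χ => and_iff_left_of_imp fun hχ => by
    obtain ⟨η, h1, h2⟩ := exists_mult_under (Subgroup.inclusion (bot_le : ⊥ ≤ X)) hχ.1
    obtain ⟨φ, rfl⟩ := h1.exists_monoidHom_of_comm
    rwa [show (fun g => (φ g : ℂ)) = 1 from funext fun g => by rw [Subsingleton.elim g 1]; simp] at h2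

theorem exists_canon_ext {N T S : Subgroup Γ} (h : N ≤ T) (hS : S ≤ Subgroup.normalizer (T : Set Γ))
    (hc : (N.relIndex T).Coprime (Nat.card N)) {φ : N → ℂ} (hφ : φ ∈ IrrInv S N) (hT : T ≤ stab φ) :
    ∃ α ∈ IrrInv S T, ∀ n, α (Subgroup.inclusion h n) = φ n := by
  have := normal_subgroupOf (hT.trans (stab_le_normalizer φ))
  have h1 := (isIrr_subgroupOf_iff N T h φ).2 hφ.1
  have h2 : (N.subgroupOf T).index.Coprime (Nat.card (N.subgroupOf T)) := by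
    rwa [Nat.card_congr (Subgroup.subgroupOfEquivOfLe h).toEquiv]
  obtain ⟨α, h3, h4⟩ := exists_canon h2 h1 (top_le_iff.1 fun g _ => ⟨Subgroup.le_normalizer_of_normal (K := ⊤) trivial,
    fun _ => stab_apply (hT g.2) rfl⟩)
  refine ⟨α, ⟨h3.irr.of_restrict h3.ch _, fun s hs => ⟨hS hs, congrFun (ext_unique_of_coprime _ h1
    (h2.coprime_dvd_right h1.charDegree_dvd_card) (h3.ch.comp (cjA (hS hs)).toMonoidHom) (fun n => ?_) ?_ h3.ch h4
    h3.det)⟩⟩, fun n => h4 ⟨_, n.2⟩⟩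
  · exact (h4 ⟨_, (Subgroup.mem_normalizer_iff.1 (hφ.2 hs).1 _).1 n.2⟩).trans (stab_apply (hφ.2 hs) rfl)
  · refine h3.det.coprime_dvd_right ?_
    erw [detOrder_eq, detOrder_eq, detHom_comp h3.ch (cjA (hS hs)).toMonoidHom, orderOf_dvd_iff_pow_eq_one]
    exact MonoidHom.ext fun g => DFunLike.congr_fun (pow_orderOf_eq_one (detHom α)) _

omit [Finite Γ] in
theorem Span.comm_mem {Γ' Γ'' : Type*} [Group Γ'] [Group Γ''] {π : Γ' →* Γ} {ρ : Γ' →* Γ''} {N G W S : Subgroup Γ}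
    {h : N ≤ G} {Z : Subgroup Γ''} {θ : N → ℂ} {lam : Z → ℂ} {α : G.comap π → ℂ} (hS : Span π ρ W h Z θ lam α)
    (hSW : S ≤ W) (x : Γ') : (∀ s ∈ H07.sp π ρ S, s * ρ x * s⁻¹ * (ρ x)⁻¹ ∈ Z) ↔
      ∀ s ∈ S, s * π x * s⁻¹ * (π x)⁻¹ ∈ N := by
  refine ⟨fun h1 s hs => ?_, ?_⟩
  · obtain ⟨s, rfl⟩ := hS.range.ge (hSW hs)
    simpa only [← map_inv, ← map_mul, hS.mem_Z] using h1 _ ⟨s, hs, rfl⟩
  · rintro h1 _ ⟨s, hs, rfl⟩
    simpa only [← map_inv, ← map_mul, hS.mem_Z] using h1 _ hs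

omit [Finite Γ] in
theorem le_normalizer_stab {S L : Subgroup Γ} {φ : L → ℂ} (h : S ≤ stab φ) :
    S ≤ Subgroup.normalizer (stab φ : Set Γ) := h.trans Subgroup.le_normalizer

omit [Finite Γ] in
theorem le_normalizer_of_comm {S G L H : Subgroup Γ} (hG : S ≤ Subgroup.normalizer (G : Set Γ))
    (hL : S ≤ Subgroup.normalizer (L : Set Γ)) (h : ∀ c, c ∈ H ↔ c ∈ G ∧ ∀ s ∈ S, s * c * s⁻¹ * c⁻¹ ∈ L) :
    S ≤ Subgroup.normalizer (H : Set Γ) := H01.le_normalizer_of_conj_mem fun x hx c hc => (h _).2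
  ⟨H01.conj_mem_of_le_normalizer hG hx ((h c).1 hc).1, fun s hs => by
    convert H01.conj_mem_of_le_normalizer hL hx (((h c).1 hc).2 _ (mul_mem (mul_mem (inv_mem hx) hs) hx)) using 1
    group⟩

theorem corr_rel {p : ℕ} [hp : Fact p.Prime] {P K Q C : Subgroup Γ} (hP : IsPGroup p P)
    (hPK : P ≤ Subgroup.normalizer (K : Set Γ)) (hPQ : P ≤ Subgroup.normalizer (Q : Set Γ)) (hQK : Q ≤ K)
    (hKQ : K ≤ Subgroup.normalizer (Q : Set Γ)) (hQ : IsPGroup p Q) (hi : ¬ p ∣ Q.relIndex K) (hCK : C ≤ K)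
    (hC : ∀ c, c ∈ C ↔ c ∈ K ∧ ∀ s ∈ P, s * c * s⁻¹ * c⁻¹ ∈ Q) :
    Corr p (mult (Subgroup.inclusion hCK)) (IrrInv P K) (IrrInv P C) := by
  have hQC : Q ≤ C := fun q hq => (hC q).2 ⟨hQK hq, fun s hs =>
    mul_mem (H01.conj_mem_of_le_normalizer hPQ hs hq) (inv_mem hq)⟩
  have hPC := le_normalizer_of_comm hPK hPQ hC
  obtain ⟨a, ha⟩ := hP.exists_card_eq
  obtain ⟨b, hb⟩ := hQ.exists_card_eq
  have := hP.isNilpotent
  refine Corr.of_local hQC hCK hKQ hPQ hPK ((((Nat.Prime.coprime_iff_not_dvd hp.out).2 hi).pow_left a).coprime_dvd_left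
    (ha ▸ Subgroup.relIndex_dvd_card _ _)) (.inl (solMod_of_solvable _ _)) (fun c h1 h2 => (hC c).2 ⟨h1, h2⟩)
    fun φ hφ => Corr.of_inertia hQC hCK hKQ hPK hPC hφ rfl rfl (le_inf hQC (le_stab_self hφ.1.isClassFunction))
      (inf_le_inf_right _ hCK) ?_
  have hT : Q ≤ K ⊓ stab φ := le_inf hQK (le_stab_self hφ.1.isClassFunction)
  have hPT := H01.le_normalizer_inf hPK (le_normalizer_stab hφ.2)
  have hi' : ¬ p ∣ Q.relIndex (K ⊓ stab φ) := fun h =>
    hi (h.trans (Dvd.intro _ (Subgroup.relIndex_mul_relIndex _ _ _ hT inf_le_left)))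
  obtain ⟨α, h1, h2⟩ := exists_canon_ext (S := K ⊓ stab φ ⊔ P) hT (sup_le Subgroup.le_normalizer hPT)
    (hb ▸ (((Nat.Prime.coprime_iff_not_dvd hp.out).2 hi').pow_left b).symm) ⟨hφ.1, sup_le inf_le_right hφ.2⟩ inf_le_right
  have := normal_subgroupOf (sup_le (inf_le_left.trans hKQ) hPQ : K ⊓ stab φ ⊔ P ≤ _)
  have hS := exists_span_quot hT le_sup_left hφ.1 h1.1.isCharacter h1.2 h2
  refine hS.corr _ _ le_rfl le_sup_right hPT (H01.le_normalizer_inf hPC (le_normalizer_stab hφ.2)) ?_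
  have hU : sp (K ⊓ stab φ ⊔ P).subtype (QuotientGroup.mk' (Q.subgroupOf _)) (C ⊓ stab φ) =
      sp (K ⊓ stab φ ⊔ P).subtype (QuotientGroup.mk' _) (K ⊓ stab φ) ⊓ Subgroup.centralizer (SetLike.coe (sp (K ⊓ stab φ ⊔ P).subtype (QuotientGroup.mk' _) P)) := by
    ext x
    obtain ⟨x, rfl⟩ := hS.surj x
    rw [Subgroup.mem_inf, hS.mem_sp (le_inf hQC (le_stab_self hφ.1.isClassFunction)), hS.mem_sp hT, Subgroup.mem_inf, hC,
      ← hS.comm_mem le_sup_right, and_right_comm]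
    exact and_congr_right fun _ => forall₂_congr fun s _ => by
      rw [Subgroup.mem_bot, mul_inv_eq_one, mul_inv_eq_iff_eq_mul]
  rw [irrOver_bot, irrOver_bot, irrInv_of_le_centralizer (Subgroup.le_centralizer_iff.1 (hU.le.trans inf_le_right))]
  exact corr_pgroup ((hP.comap_of_injective _ (Subgroup.subtype_injective _)).map _) (sp_norm _ _ hPT)
    (by rwa [← Subgroup.relIndex_bot_left, hS.relIndex_Z le_sup_left]) hU _

theorem over_unique {Z K S : Subgroup Γ} (h : Z ≤ K) (hab : ⁅K, K⁆ ≤ Z) (hS : S ≤ Subgroup.normalizer (K : Set Γ))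
    (hSZ : S ≤ Subgroup.normalizer (Z : Set Γ)) (hK : K ≤ Z ⊔ ⁅K, S⁆) (hc : (Nat.card S).Coprime (Z.relIndex K)) 
    {lam : Z → ℂ} (hl : IsIrrCharacter Z lam) {θ θ' : K → ℂ} (hθ : θ ∈ IrrOver S h lam) (hθ' : θ' ∈ IrrOver S h lam) : θ' = θ := by
  have hab' : commutator K ≤ Z.subgroupOf K := Subgroup.map_le_iff_le_comap.1 (K.map_subtype_commutator.trans_le hab)
  have := Subgroup.Normal.of_commutator_le K hab'
  have := Fintype.ofFinite S
  obtain ⟨ν, h1, rfl⟩ := exists_hom_mul_of_over _ hab' hθ.1.1 hθ'.1.1 ((isIrr_subgroupOf_iff Z K h lam).2 hl)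
    (mult_subgroupOf h θ lam ▸ hθ.2) (mult_subgroupOf h θ' lam ▸ hθ'.2)
  let B : Subgroup (K →* ℂˣ) := (MulAction.stabilizer _ (⟨θ, hθ.1.1⟩ : IrrCharacter K)).comap (mulP K)
  have hB : ∀ μ, μ ∈ B ↔ (fun g => θ g * μ g) = θ := fun μ => Subtype.ext_iff
  let c : S → K →* ℂˣ := fun s => ν.comp (cjA (hS s.2)).toMonoidHom
  have h2 : ∏ s, c s = 1 := MonoidHom.ext fun k => by
    have h3 : ∀ t (ht : t ∈ S) k, (∏ s, c s) (cjA (hS ht) k) = (∏ s, c s) k := fun t ht k => by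
      simp only [MonoidHom.finsetProd_apply]
      exact Fintype.prod_equiv (Equiv.mulRight (⟨t, ht⟩ : S)) _ _ fun s =>
        congrArg ν (Subtype.ext (by simp [mul_assoc]))
    have h4 : Z ⊔ ⁅K, S⁆ ≤ (∏ s, c s).ker.map K.subtype := by
      refine sup_le (fun z hz => ⟨⟨z, h hz⟩, ?_, rfl⟩) (Subgroup.commutator_le.2 fun x hx s hs =>
        ⟨⟨x, hx⟩ * cjA (hS hs) ⟨x, hx⟩⁻¹, ?_, by simp [commutatorElement_def, mul_assoc]⟩)
      · rw [SetLike.mem_coe, MonoidHom.mem_ker, MonoidHom.finsetProd_apply]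
        exact Finset.prod_eq_one fun s _ => h1 _ (H01.conj_mem_of_le_normalizer hSZ s.2 hz)
      · rw [SetLike.mem_coe, MonoidHom.mem_ker, map_mul, h3 s hs, map_inv, mul_inv_cancel]
    obtain ⟨x, hx, e⟩ := h4 (hK k.2)
    exact (show x = k from Subtype.ext e) ▸ hx
  have h3 : ∏ s, (c s * ν⁻¹) ∈ B := B.prod_mem fun s _ => (hB _).2 (funext fun k => by
    have h4 := (mem_stab (hS s.2)).1 (hθ'.1.2 s.2) k
    rw [(mem_stab (hS s.2)).1 (hθ.1.2 s.2) k] at h4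
    simp only [MonoidHom.mul_apply, Units.val_mul, ← mul_assoc]
    exact (congrArg (· * _) h4).trans (by simp))
  rw [Finset.prod_mul_distrib, h2, Finset.prod_const, Finset.card_univ, ← Nat.card_eq_fintype_card] at h3
  replace h3 : ν ^ Nat.card S ∈ B := inv_mem_iff.1 (by convert h3 using 1; ext; simp)
  obtain ⟨m, hm⟩ := exists_pow_eq_self_of_coprime (x := ν) (hc.coprime_dvd_right
    (orderOf_dvd_of_pow_eq_one (hom_pow_index_eq_one _ ν h1)))
  exact (hB ν).1 (hm ▸ B.pow_mem h3 m)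

omit [Finite Γ] in
theorem comm_mul_center {z w : Γ} (hz : z ∈ Subgroup.center Γ) (hw : w ∈ Subgroup.center Γ) (a b : Γ) :
    ⁅a * z, b * w⁆ = ⁅a, b⁆ :=
  calc ⁅a * z, b * w⁆ = a * (z * (b * w) * z⁻¹) * a⁻¹ * (b * w)⁻¹ := by rw [commutatorElement_def]; group
    _ = a * b * (w * a⁻¹ * w⁻¹) * b⁻¹ := by rw [← Subgroup.mem_center_iff.1 hz, mul_inv_cancel_right]; group
    _ = ⁅a, b⁆ := by rw [← Subgroup.mem_center_iff.1 hw, mul_inv_cancel_right, commutatorElement_def]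

theorem exists_inv_aut {Z K C S G : Subgroup Γ} (hZ : Z ≤ Subgroup.center Γ) (hZK : Z ≤ K) (hab : ⁅K, K⁆ ≤ Z)
    (hS : S ≤ Subgroup.normalizer (K : Set Γ)) (hK : K ≤ Z ⊔ ⁅K, S⁆) (hC : C = G ⊓ Subgroup.centralizer (S : Set Γ))
    (hCK : C ≤ Subgroup.normalizer (K : Set Γ)) (hG : K ⊔ C = G) (hc : (Nat.card S).Coprime (Nat.card K))
    (ho : Odd (Nat.card K)) : ∃ a : MulAut G, a ^ 2 = 1 ∧ (∀ g : G, (g : Γ) ∈ C ↔ a g = g) ∧
      (∀ g : G, (a g : Γ) * (g : Γ)⁻¹ ∈ K) ∧ ∀ s ∈ S, ∀ g g' : G, (g' : Γ) = s * g * s⁻¹ → (a g' : Γ) = s * a g * s⁻¹ := by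
  have hz : ∀ z ∈ Z, ∀ g, g * z * g⁻¹ = z := fun z hz g => by
    rw [Subgroup.mem_center_iff.1 (hZ hz), mul_inv_cancel_right]
  let d : Γ →* Γ × Γ := (MonoidHom.id Γ).prod (MonoidHom.id Γ)
  let D : Subgroup (Γ × Γ) :=
    { carrier := {x | x.1 ∈ K ∧ x.2 ∈ K ∧ x.1 * x.2 ∈ Z}
      one_mem' := ⟨one_mem _, one_mem _, by simp⟩
      mul_mem' := fun {a b} ha hb => ⟨mul_mem ha.1 hb.1, mul_mem ha.2.1 hb.2.1, by
        convert mul_mem (mul_mem ha.2.2 (hab (Subgroup.commutator_mem_commutator (inv_mem ha.2.1) hb.1))) hb.2.2 using 1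
        simp [commutatorElement_def, mul_assoc]⟩
      inv_mem' := fun {a} ha => ⟨inv_mem ha.1, inv_mem ha.2.1, by
        convert inv_mem ha.2.2 using 1
        rw [← hz _ ha.2.2 a.2]; simp [mul_assoc]⟩ }
  have hD : ∀ X, X ≤ Subgroup.normalizer (K : Set Γ) → X.map d ≤ Subgroup.normalizer (D : Set (Γ × Γ)) := fun X hX =>
    H01.le_normalizer_of_conj_mem (by
      rintro _ ⟨x, hx, rfl⟩ a ha
      refine ⟨H01.conj_mem_of_le_normalizer hX hx ha.1, H01.conj_mem_of_le_normalizer hX hx ha.2.1, ?_⟩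
      convert ha.2.2 using 1
      rw [← hz _ ha.2.2 x]; simp [d, mul_assoc])
  have hΔ : (Z.map d).Normal := ⟨by rintro _ ⟨z, h, rfl⟩ g; exact ⟨z, h, Prod.ext (hz z h _).symm (hz z h _).symm⟩⟩
  have hZC : Z ≤ C := hC.ge.trans' (le_inf (hZK.trans (hG ▸ le_sup_left)) (hZ.trans (Subgroup.center_le_centralizer _)))
  let E := Z.map d ⊔ ⁅D, S.map d⁆
  have hE : E ≤ D := sup_le (by rintro _ ⟨z, h, rfl⟩; exact ⟨hZK h, hZK h, mul_mem h h⟩)
    (H01.commutator_le_left_of_le_normalizer (hD S hS))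
  have key : ∀ e ∈ E, e.1 ∈ C → e ∈ Z.map d := fun e he h1 => by
    let q := QuotientGroup.mk' (Z.map d)
    have : IsMulCommutative (D.map q) := ⟨⟨by
      rintro ⟨_, a, ha, rfl⟩ ⟨_, b, hb, rfl⟩
      refine Subtype.ext (commutatorElement_eq_one_iff_mul_comm.1 ((map_commutatorElement q a b).symm.trans
        ((QuotientGroup.eq_one_iff _).2 ⟨⁅a.1, b.1⁆, hab (Subgroup.commutator_mem_commutator ha.1 hb.1), Prod.ext rfl ?_⟩)))
      calc ⁅a.1, b.1⁆ = (b.1 * a.1)⁻¹ * ⁅a.1, b.1⁆ * (b.1 * a.1)⁻¹⁻¹ :=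
            (hz _ (hab (Subgroup.commutator_mem_commutator ha.1 hb.1)) _).symm
        _ = ⁅a.1⁻¹, b.1⁻¹⁆ := by simp only [commutatorElement_def]; group
        _ = ⁅a.2, b.2⁆ := by
            rw [← comm_mul_center (hZ ha.2.2) (hZ hb.2.2), inv_mul_cancel_left, inv_mul_cancel_left]⟩⟩
    have h2 := H01.centralizer_inf_commutator_eq_bot (V := D.map q) (A := (S.map d).map q)
      ((Subgroup.map_mono (hD S hS)).trans (Subgroup.le_normalizer_map q))
      (((hc.mul_right hc).coprime_dvd_left ((Subgroup.card_map_dvd _ _).trans (Subgroup.card_map_dvd _ _))).coprime_dvd_right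
        ((Subgroup.card_map_dvd _ _).trans (by
          rw [← Nat.card_prod, ← Nat.card_congr (K.prodEquiv K).toEquiv]
          exact Subgroup.card_dvd_of_le fun x hx => ⟨hx.1, hx.2.1⟩)))
    refine (QuotientGroup.eq_one_iff e).1 (h2.le ⟨⟨⟨e, hE he, rfl⟩, ?_⟩, ?_⟩)
    · rintro _ ⟨_, ⟨s, hs, rfl⟩, rfl⟩
      have h3 := (hC.le h1).2 s hs
      have h4 := (hC.le (by simpa using mul_mem (inv_mem h1) (hZC (hE he).2.2) : e.2 ∈ C)).2 s hs
      exact congrArg q (Prod.ext h3 h4 : d s * e = e * d s)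
    · have := Subgroup.mem_map_of_mem q he
      rwa [Subgroup.map_sup, (Subgroup.map_eq_bot_iff _).2 (QuotientGroup.ker_mk' _).ge, bot_sup_eq,
        Subgroup.map_commutator] at this
  have hCE : C.map d ≤ Subgroup.normalizer (E : Set (Γ × Γ)) := H01.le_normalizer_sup
    Subgroup.le_normalizer_of_normal (H01.le_normalizer_commutator (hD C hCK) (le_trans (by
      rintro _ ⟨c, hc, rfl⟩ _ ⟨s, hs, rfl⟩
      rw [← map_mul, ← map_mul, (hC.le hc).2 s hs]) (Subgroup.centralizer_le_normalizer _)))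
  have mem : ∀ x ∈ E ⊔ C.map d, ∃ e ∈ E, ∃ c ∈ C, x = e * d c := fun x hx => by
    rw [← SetLike.mem_coe, Subgroup.coe_mul_of_right_le_normalizer_left _ _ hCE] at hx
    obtain ⟨e, he, _, ⟨c, hc, rfl⟩, rfl⟩ := hx
    exact ⟨e, he, c, hc, rfl⟩
  have uniq : ∀ x ∈ E ⊔ C.map d, ∀ y ∈ E ⊔ C.map d, x.1 = y.1 → x.2 = y.2 := fun x hx y hy h => by
    obtain ⟨e, he, c, hc, h1⟩ := mem _ (mul_mem hx (inv_mem hy))
    have h2 : 1 = e.1 * c := (mul_inv_eq_one.2 h).symm.trans (congrArg Prod.fst h1)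
    obtain ⟨z, -, rfl⟩ := key e he (eq_inv_of_mul_eq_one_left h2.symm ▸ inv_mem hc)
    exact mul_inv_eq_one.1 ((congrArg Prod.snd h1).trans h2.symm)
  have symm : ∀ x ∈ E ⊔ C.map d, x.swap ∈ E ⊔ C.map d := by
    have h1 : ∀ X : Subgroup Γ, (X.map d).map (MulEquiv.prodComm : Γ × Γ ≃* Γ × Γ).toMonoidHom = X.map d :=
      fun X => Subgroup.map_map ..
    have h2 : D.map (MulEquiv.prodComm : Γ × Γ ≃* Γ × Γ).toMonoidHom ≤ D := by
      rintro _ ⟨a, ha, rfl⟩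
      refine ⟨ha.2.1, ha.1, ?_⟩
      convert ha.2.2 using 1
      rw [← hz _ ha.2.2 a.2]; simp [mul_assoc]
    intro x hx
    have := Subgroup.mem_map_of_mem (MulEquiv.prodComm : Γ × Γ ≃* Γ × Γ).toMonoidHom hx
    rw [Subgroup.map_sup, Subgroup.map_sup, Subgroup.map_commutator, h1, h1, h1] at this
    exact sup_le_sup_right (sup_le_sup_left (Subgroup.commutator_mono h2 le_rfl) _) _ this
  have inG : ∀ x ∈ E ⊔ C.map d, x.2 ∈ G ∧ x.2 * x.1⁻¹ ∈ K := fun x hx => by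
    obtain ⟨e, he, c, hc, rfl⟩ := mem x hx
    exact ⟨hG ▸ Subgroup.mul_mem_sup (hE he).2.1 hc, by simpa [d, mul_assoc] using mul_mem (hE he).2.1 (inv_mem (hE he).1)⟩
  have tot : G ≤ (E ⊔ C.map d).map (MonoidHom.fst Γ Γ) := by
    have h1 : ∀ X : Subgroup Γ, (X.map d).map (MonoidHom.fst Γ Γ) = X := fun X => (Subgroup.map_map ..).trans X.map_id
    rw [Subgroup.map_sup, Subgroup.map_sup, Subgroup.map_commutator, h1, h1, h1, ← hG]
    exact sup_le_sup_right (hK.trans (sup_le_sup_left (Subgroup.commutator_mono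
      (fun k hk => Subgroup.mem_map.2 ⟨(k, k⁻¹), show (k, k⁻¹) ∈ D from ⟨hk, inv_mem hk, by simp⟩, rfl⟩) le_rfl) _)) _
  have : ∀ g : G, ∃ g' : G, ((g : Γ), (g' : Γ)) ∈ E ⊔ C.map d := fun g => by
    obtain ⟨x, hx, e⟩ := tot g.2
    exact ⟨⟨x.2, (inG x hx).1⟩, (show x.1 = g from e) ▸ hx⟩
  choose a ha using this
  have hinv : ∀ g, a (a g) = g := fun g => Subtype.ext (uniq _ (ha _) _ (symm _ (ha g)) rfl)
  refine ⟨⟨⟨a, a, hinv, hinv⟩, fun x y => Subtype.ext (uniq _ (ha _) _ (mul_mem (ha x) (ha y)) rfl)⟩,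
    MulEquiv.ext hinv, fun g => ⟨fun h => Subtype.ext (uniq _ (ha g) _ (Subgroup.mem_sup_right ⟨g, h, rfl⟩) rfl),
      fun h => ?_⟩, fun g => (inG _ (ha g)).2, fun s hs g g' h => uniq _ (ha g') _ (H01.conj_mem_of_le_normalizer
        (A := S.map d) (H01.le_normalizer_sup (H01.le_normalizer_sup Subgroup.le_normalizer_of_normal
          (H01.right_le_normalizer_commutator _ _)) (le_trans ?_ (Subgroup.centralizer_le_normalizer _)))
        ⟨s, hs, rfl⟩ (ha g)) h⟩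
  · obtain ⟨e, he, c, hc, h1⟩ := mem _ (ha g)
    have h2 : (g : Γ) = e.1 * c := congrArg Prod.fst h1
    have h3 : e.2 = e.1 := mul_right_cancel ((congrArg Prod.snd h1).symm.trans ((congrArg Subtype.val h).trans h2))
    have h4 := (hE he).2.2
    obtain ⟨m, hm⟩ := exists_pow_eq_self_of_coprime (x := e.1) ((Nat.coprime_two_left.2 ho).coprime_dvd_right
      (Subgroup.orderOf_dvd_natCard K (hE he).1))
    rw [h3, ← sq] at h4
    exact h2 ▸ mul_mem (hZC (hm ▸ pow_mem h4 m)) hc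
  · rintro _ ⟨s, hs, rfl⟩ _ ⟨c, hc, rfl⟩
    rw [← map_mul, ← map_mul, (hC.le hc).2 s hs]

theorem corr_odd_central {Z K C S G : Subgroup Γ} (hZ : Z ≤ Subgroup.center Γ) (hZK : Z ≤ K) (hab : ⁅K, K⁆ ≤ Z)
    (hS : S ≤ Subgroup.normalizer (K : Set Γ)) (hSG : S ≤ Subgroup.normalizer (G : Set Γ)) (hK : K ≤ Z ⊔ ⁅K, S⁆)
    (hC : C = G ⊓ Subgroup.centralizer (S : Set Γ)) (hCK : C ≤ Subgroup.normalizer (K : Set Γ)) (hG : K ⊔ C = G)
    (hc : (Nat.card S).Coprime (Nat.card G)) (ho : Odd (Nat.card G)) (hs : SolMod K G) {lam : Z → ℂ}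
    (hl : IsIrrCharacter Z lam) (hZC : Z ≤ C) (hCG : C ≤ G) :
    Corr 2 (mult (Subgroup.inclusion hCG)) (IrrOver S (hZC.trans hCG) lam) (IrrOver S hZC lam) := by
  have hKG : K ≤ G := hG ▸ le_sup_left
  have hd := Subgroup.card_dvd_of_le hKG
  obtain ⟨a, h1, h2, h3, h4⟩ := exists_inv_aut hZ hZK hab hS hK hC hCK hG (hc.coprime_dvd_right hd) (ho.of_dvd_nat hd)
  have hZn : ∀ X, X ≤ stab lam := fun X x _ =>
    centralizer_le_stab lam fun z hz => (Subgroup.mem_center_iff.1 (hZ hz) x).symm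
  have hGK : G ≤ Subgroup.normalizer (K : Set Γ) := hG ▸ sup_le Subgroup.le_normalizer hCK
  have hSC : S ≤ Subgroup.centralizer (C : Set Γ) := Subgroup.le_centralizer_iff.1 (hC.le.trans inf_le_right)
  have h5 := corr_aut (p := 2) (k := 1) a h1 ho.not_two_dvd_nat (Subgroup.inclusion hCG) (Subgroup.inclusion_injective _)
    fun g => by rw [Subgroup.inclusion_range]; exact h2 g
  have hgal : ∀ {X} (h : Z ≤ X), Gal h lam lam 1 := fun h => ⟨hl, hZn _, isCharacter_one, hl, fun _ => (mul_one _).symm⟩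
  refine h5.restrict (fun χ hχ => ⟨hχ.1.1, ?_⟩) (fun β hβ => hβ.1.1) fun χ hχ β hβ h6 => ⟨fun h7 =>
    ⟨⟨hβ, hSC.trans (centralizer_le_stab β)⟩, (hgal _).over_of_res hZC hCG hχ.1 h7.2 hβ fun h => h6 (h ▸ dvd_zero 2)⟩,
    fun h7 => ⟨⟨hχ.1, fun s hs => ⟨hSG hs, congrFun (h5.inj _ ⟨hχ.1.comp_mulEquiv _, fun g => ?_⟩ _ hχ _ hβ ?_ h6)⟩⟩,
      mult_trans hχ.1.isCharacter hβ hl.isCharacter (fun h => h6 (h ▸ dvd_zero 2)) h7.2⟩⟩
  · obtain ⟨θ, h6, h7⟩ := exists_inv_under hKG hS hGK ((hc.coprime_dvd_left (Subgroup.relIndex_dvd_card _ _)).coprime_dvd_right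
      (Subgroup.relIndex_dvd_card _ _)) (.inr hs) hχ.1
    have h8 := (hgal _).over_of_res hZK hKG hχ.1.1 hχ.2 h6.1 h7
    let b : K →* K := ((G.subtype.comp a.toMonoidHom).comp (Subgroup.inclusion hKG)).codRestrict K fun k => by
      simpa using mul_mem (h3 (Subgroup.inclusion hKG k)) k.2
    have hb : Function.Injective b := fun x y h => Subgroup.inclusion_injective hKG
      (a.injective (Subtype.ext (congrArg Subtype.val h :)))
    have h9 := over_unique hZK hab hS ((hZn S).trans (stab_le_normalizer _)) hK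
      ((hc.coprime_dvd_right hd).coprime_dvd_right (Subgroup.relIndex_dvd_card _ _)) hl ⟨h6, h8⟩ (θ' := fun k => θ (b k))
      ⟨⟨h6.1.comp_of_surjective b (Finite.surjective_of_injective hb), (le_stab_iff hS).2 fun s hs g g' e =>
        stab_apply (h6.2 hs) (h4 s hs (Subgroup.inclusion hKG g) (Subgroup.inclusion hKG g') e)⟩, by
        rwa [mult_congr_left (χ := θ) (χ' := fun k => θ (b k)) fun z => congrArg θ (Subtype.ext (congrArg Subtype.val
          ((h2 (Subgroup.inclusion (hZK.trans hKG) z)).1 (hZC z.2)) :))]⟩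
    have := normal_subgroupOf hGK
    exact comp_aut_eq_of_over (K.subgroupOf G) a h1 ((Nat.coprime_two_left.2 ho).coprime_dvd_right
      (Subgroup.index_dvd_card _)) h3 ((isIrr_subgroupOf_iff K G hKG θ).2 h6.1) (fun k k' e =>
        (congrArg θ (Subtype.ext (congrArg Subtype.val e :))).trans (congrFun h9 (Subgroup.subgroupOfEquivOfLe hKG k)))
      hχ.1.1 (mult_subgroupOf hKG χ θ ▸ h7)
  · exact (congrArg χ (Subtype.ext (h4 s hs g (cjA (hSG hs) g) rfl).symm)).trans (hχ.2 _)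
  · rwa [mult_cjA_left hCG _ (centralizer_le_stab β (hSC hs))]

theorem corr_odd {L K H S G : Subgroup Γ} [Group.IsSolvable G] (hLK : L ≤ K) (hKG : K ≤ G) (hab : ⁅K, K⁆ ≤ L)
    (hSL : S ≤ Subgroup.normalizer (L : Set Γ)) (hSK : S ≤ Subgroup.normalizer (K : Set Γ))
    (hSG : S ≤ Subgroup.normalizer (G : Set Γ)) (hGL : G ≤ Subgroup.normalizer (L : Set Γ))
    (hGK : G ≤ Subgroup.normalizer (K : Set Γ)) (hc : (Nat.card S).Coprime (Nat.card G)) (ho : Odd (Nat.card G))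
    (hGS : ⁅G, S⁆ ≤ K) (hH : ∀ c, c ∈ H ↔ c ∈ G ∧ ∀ s ∈ S, s * c * s⁻¹ * c⁻¹ ∈ L) (hHG : H ≤ G) :
    Corr 2 (mult (Subgroup.inclusion hHG)) (IrrInv S G) (IrrInv S H) := by
  have hLH : L ≤ H := fun q hq => (hH q).2 ⟨hKG (hLK hq), fun s hs =>
    mul_mem (H01.conj_mem_of_le_normalizer hSL hs hq) (inv_mem hq)⟩
  have hSH := le_normalizer_of_comm hSG hSL hH
  refine Corr.of_local hLH hHG hGL hSL hSG ((hc.coprime_dvd_left (Subgroup.relIndex_dvd_card _ _)).coprime_dvd_right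
    (Subgroup.relIndex_dvd_card _ _)) (.inr (solMod_of_solvable _ _)) (fun c h1 h2 => (hH c).2 ⟨h1, h2⟩)
    fun φ hφ => Corr.of_inertia hLH hHG hGL hSG hSH hφ rfl rfl (le_inf hLH (le_stab_self hφ.1.isClassFunction))
      (inf_le_inf_right _ hHG) ?_
  have hφL := le_stab_self hφ.1.isClassFunction
  have hT : L ≤ G ⊓ stab φ := le_inf (hLH.trans hHG) hφL
  have hST := H01.le_normalizer_inf hSG (le_normalizer_stab hφ.2)
  obtain ⟨Γ', Γ'', _, _, _, _, π, ρ, Z, lam, α, hS, hZ, -, j, hj⟩ := exists_span (W := G ⊓ stab φ ⊔ S) hT le_sup_left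
    (sup_le Subgroup.le_normalizer hST) ⟨hφ.1, sup_le inf_le_right hφ.2⟩
  refine hS.corr _ _ le_rfl le_sup_right hST (H01.le_normalizer_inf hSH (le_normalizer_stab hφ.2)) ?_
  have hd : Nat.card (sp π ρ (G ⊓ stab φ)) ∣ Nat.card G ^ (j + 1) := by
    have := (Subgroup.relIndex_dvd_card L _).trans (Subgroup.card_dvd_of_le (inf_le_left : G ⊓ stab φ ≤ G))
    rw [← H01.card_mul_relIndex (hS.le_sp hT), hS.relIndex_Z le_sup_left, pow_succ]
    exact mul_dvd_mul (hj.trans (pow_dvd_pow_of_dvd this j)) this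
  have hZn : Z.Normal := ⟨fun z hz g => by rwa [Subgroup.mem_center_iff.1 (hZ hz), mul_inv_cancel_right]⟩
  have hc' : (Z.relIndex (sp π ρ S)).Coprime (Nat.card (sp π ρ (G ⊓ stab φ))) := by
    rw [hS.relIndex_Z le_sup_right]
    exact ((hc.pow_right _).coprime_dvd_left (Subgroup.relIndex_dvd_card _ _)).coprime_dvd_right hd
  obtain ⟨S₀, h1⟩ := Subgroup.exists_right_complement'_of_coprime (N := Z.subgroupOf (sp π ρ S))
    (hc'.symm.coprime_dvd_left ((Subgroup.card_comap_dvd_of_injective _ _ (Subgroup.subtype_injective _)).trans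
      (Subgroup.card_dvd_of_le (hS.le_sp hT))))
  have h2 : sp π ρ S ≤ S₀.map (sp π ρ S).subtype ⊔ Z := fun x hx => by
    obtain ⟨⟨a, b⟩, e⟩ := h1.symm.2 ⟨x, hx⟩
    exact (show ((a : sp π ρ S) : Γ'') * (b : sp π ρ S) = x from congrArg Subtype.val e) ▸
      Subgroup.mul_mem_sup ⟨a, a.2, rfl⟩ b.2
  have h3 : (Nat.card (S₀.map (sp π ρ S).subtype)).Coprime (Nat.card (sp π ρ (G ⊓ stab φ))) := by
    rwa [Subgroup.card_subtype, ← h1.symm.index_eq_card]
  have h4 := Subgroup.map_subtype_le S₀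
  generalize S₀.map (sp π ρ S).subtype = S₁ at h2 h3 h4
  have h5 : ∀ {X} (h : Z ≤ X), IrrOver (sp π ρ S) h (fun z => lam z) = IrrOver S₁ h fun z => lam z := fun h => by
    rw [IrrOver, irrInv_mod h4 (h2.trans (sup_le_sup_left (hZ.trans (Subgroup.center_le_centralizer _)) _)) le_rfl]; rfl
  have hsol : Group.IsSolvable (sp π ρ (G ⊓ stab φ)) := by
    obtain ⟨n, hn⟩ := hS.sp_self ▸ ((solMod_of_solvable L G).mono le_rfl (inf_le_left : G ⊓ stab φ ≤ G)).sp π ρ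
    refine ⟨n + 1, ?_⟩
    rw [derivedSeries_succ, Subgroup.commutator_eq_bot_iff_le_centralizer]
    exact fun x hx y _ => Subtype.ext (Subgroup.mem_center_iff.1 (hZ (hn hx)) y)
  have hTn := h4.trans (sp_norm π ρ hST)
  have hU : sp π ρ (H ⊓ stab φ) = sp π ρ (G ⊓ stab φ) ⊓ Subgroup.centralizer (S₁ : Set Γ'') := by
    ext x
    obtain ⟨x, rfl⟩ := hS.surj x
    rw [Subgroup.mem_inf, hS.mem_sp (le_inf hLH hφL), hS.mem_sp hT, Subgroup.mem_inf, hH,
      ← hS.comm_mem le_sup_right, and_right_comm]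
    refine and_congr_right fun hx => ⟨fun h6 => ?_, fun h6 s hs => ?_⟩
    · obtain ⟨n, hn, h7⟩ := H01.coset_fixed' (A := S₁) (N := Z) Subgroup.le_normalizer_of_normal
        (h3.coprime_dvd_right (Subgroup.card_dvd_of_le (hS.le_sp hT))) (.inr (H02.isSolvable_of_le (hS.le_sp hT)))
        fun s hs => h6 s (h4 hs)
      simpa using mul_mem (inv_mem (Subgroup.center_le_centralizer _ (hZ hn))) h7
    · have : sp π ρ S ≤ Subgroup.centralizer {ρ x} := h2.trans (sup_le (fun t ht =>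
        Subgroup.mem_centralizer_singleton_iff.2 (h6 t ht)) (hZ.trans (Subgroup.center_le_centralizer _)))
      rw [Subgroup.mem_centralizer_singleton_iff.1 (this hs)]; simp
  have hK' : ⁅sp π ρ (G ⊓ stab φ), S₁⁆ ≤ sp π ρ (K ⊓ stab φ) := by
    refine (Subgroup.commutator_mono le_rfl h4).trans ?_
    rw [sp, sp, ← Subgroup.map_commutator]
    exact Subgroup.map_mono (Subgroup.map_le_iff_le_comap.1 ((Subgroup.map_commutator _ _ _).trans_le
      ((Subgroup.commutator_mono (Subgroup.map_comap_le _ _) (Subgroup.map_comap_le _ _)).trans (le_inf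
        ((Subgroup.commutator_mono inf_le_left le_rfl).trans hGS)
        ((H01.commutator_le_left_of_le_normalizer hST).trans inf_le_right)))))
  have hab' : ⁅sp π ρ (K ⊓ stab φ), sp π ρ (K ⊓ stab φ)⁆ ≤ Z := by
    rw [sp, ← Subgroup.map_commutator, ← hS.sp_self]
    exact Subgroup.map_mono (Subgroup.map_le_iff_le_comap.1 ((Subgroup.map_commutator _ _ _).trans_le
      ((Subgroup.commutator_mono ((Subgroup.map_comap_le _ _).trans inf_le_left)
        ((Subgroup.map_comap_le _ _).trans inf_le_left)).trans hab)))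
  have h6 : Z ⊔ ⁅sp π ρ (G ⊓ stab φ), S₁⁆ ≤ sp π ρ (K ⊓ stab φ) := sup_le (hS.le_sp (le_inf hLK hφL)) hK'
  rw [h5, h5]
  exact corr_odd_central (K := Z ⊔ ⁅sp π ρ (G ⊓ stab φ), S₁⁆) hZ le_sup_left ((Subgroup.commutator_mono h6 h6).trans hab')
    (H01.le_normalizer_sup Subgroup.le_normalizer_of_normal (H01.right_le_normalizer_commutator _ _)) hTn
    (sup_le_sup_left ((H01.commutator_commutator_eq hTn h3 (.inr hsol)).ge.trans
      (Subgroup.commutator_mono le_sup_right le_rfl)) _) hU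
    ((sp_mono π ρ (inf_le_inf_right _ hHG)).trans (H01.le_normalizer_sup Subgroup.le_normalizer_of_normal
      (H01.left_le_normalizer_commutator _ _)))
    (by rw [sup_assoc, hU, H01.commutator_sup_centralizer hTn h3 (.inr hsol), sup_eq_right.2 (hS.le_sp hT)]) h3
    ((ho.pow).of_dvd_nat hd) (solMod_of_solvable _ _) hS.hlam.1 _ _

end H07
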