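import Cfsg.Agent.H05.Values

/-! Frobenius' proof of Jordan's theorem: elements close to scalars commute. -/

namespace H07
open Cfsg H05 Module
open scoped ComplexConjugate InnerProductSpace

theorem exists_weight_decomp {E : Type*} [AddCommGroup E] [Module ℂ E] [FiniteDimensional ℂ E]
    {ι : Type*} (f : ι → Module.End ℂ E) (hc : ∀ i j, Commute (f i) (f j))
    (hf : ∀ i, ∃ m : ℕ, m ≠ 0 ∧ f i ^ m = 1) (v : E) :
    ∃ (s : Finset (ι → ℂ)) (w : (ι → ℂ) → E), (∀ χ i, f i (w χ) = χ i • w χ) ∧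
      v = ∑ χ ∈ s, w χ := by
  have hss : ∀ i, (f i).IsSemisimple := fun i => by
    obtain ⟨m, hm, h⟩ := hf i
    apply Module.End.isSemisimple_of_squarefree_aeval_eq_zero
      (p := Polynomial.X ^ m - Polynomial.C 1)
    · exact (Polynomial.separable_X_pow_sub_C 1 (by exact_mod_cast hm) one_ne_zero).squarefree
    · simp [h]
  have h := Module.End.iSup_iInf_maxGenEigenspace_eq_top_of_iSup_maxGenEigenspace_eq_top_of_commute
    f (fun i j _ => hc i j) (fun i => Module.End.iSup_maxGenEigenspace_eq_top _)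
  have hv : v ∈ ⨆ χ : ι → ℂ, ⨅ i, (f i).maxGenEigenspace (χ i) := by rw [h]; trivial
  obtain ⟨w, hw, hs⟩ := (Submodule.mem_iSup_iff_exists_finsupp _ _).1 hv
  refine ⟨w.support, w, fun χ i => ?_, hs.symm⟩
  have := (Submodule.mem_iInf _).1 (hw χ) i
  rw [(hss i).isFinitelySemisimple.maxGenEigenspace_eq_eigenspace] at this
  exact Module.End.mem_eigenspace_iff.1 this

section Inner
variable {E : Type*} [NormedAddCommGroup E] [InnerProductSpace ℂ E]

theorem norm_eigen_eq_one {T : E →L[ℂ] E} (hT : ∀ v, ‖T v‖ = ‖v‖) {x : E} (hx : x ≠ 0) {l : ℂ}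
    (h : T x = l • x) : ‖l‖ = 1 := by
  have := hT x
  rw [h, norm_smul] at this
  exact mul_right_cancel₀ (norm_ne_zero_iff.2 hx) (this.trans (one_mul _).symm)

theorem inner_eq_zero_of_eigen {T : E →L[ℂ] E} (hT : ∀ v, ‖T v‖ = ‖v‖) {x y : E} {l m : ℂ}
    (hx : T x = l • x) (hy : T y = m • y) (hne : l ≠ m) : ⟪x, y⟫_ℂ = 0 := by
  by_contra h0
  have hx0 : x ≠ 0 := by rintro rfl; simp at h0
  have h1 := norm_eigen_eq_one hT hx0 hx
  have h2 : ⟪T x, T y⟫_ℂ = ⟪x, y⟫_ℂ :=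
    (LinearMap.norm_map_iff_inner_map_map (T : E →ₗ[ℂ] E)).1 hT x y
  rw [hx, hy, inner_smul_left, inner_smul_right, ← mul_assoc] at h2
  have h3 : conj l * m = 1 := mul_right_cancel₀ h0 (h2.trans (one_mul _).symm)
  have h4 : conj l * l = 1 := by
    rw [mul_comm, Complex.mul_conj, Complex.normSq_eq_norm_sq, h1]; simp
  apply hne
  have h5 : conj l ≠ 0 := left_ne_zero_of_mul_eq_one h4
  exact mul_left_cancel₀ h5 (h4.trans h3.symm)

theorem norm_sum_sq_of_orth {ι : Type*} (s : Finset ι) (w : ι → E)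
    (h : ∀ i ∈ s, ∀ j ∈ s, i ≠ j → ⟪w i, w j⟫_ℂ = 0) : ‖∑ i ∈ s, w i‖ ^ 2 = ∑ i ∈ s, ‖w i‖ ^ 2 := by
  classical
  have : ((‖∑ i ∈ s, w i‖ ^ 2 : ℝ) : ℂ) = ((∑ i ∈ s, ‖w i‖ ^ 2 : ℝ) : ℂ) := by
    push_cast
    have e : ∀ x : E, ((‖x‖ : ℝ) : ℂ) ^ 2 = ⟪x, x⟫_ℂ := fun x => (inner_self_eq_norm_sq_to_K (𝕜 := ℂ) x).symm
    simp only [e]
    rw [sum_inner]
    refine Finset.sum_congr rfl fun i hi => ?_
    rw [inner_sum, Finset.sum_eq_single i (fun j hj hne => h i hi j hj hne.symm) (fun h' => (h' hi).elim)]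
  exact_mod_cast this

variable [FiniteDimensional ℂ E] {G : Type*} [Group G] [Finite G] (ρ : G →* (E →L[ℂ] E))

theorem exists_weight_decomp' {ι : Type*} (x : ι → G) (hc : ∀ i j, Commute (x i) (x j)) (v : E) :
    ∃ (s : Finset (ι → ℂ)) (w : (ι → ℂ) → E), (∀ χ i, ρ (x i) (w χ) = χ i • w χ) ∧
      v = ∑ χ ∈ s, w χ := by
  refine exists_weight_decomp (fun i => ((ρ (x i) : E →L[ℂ] E) : E →ₗ[ℂ] E)) (fun i j => ?_)
    (fun i => ⟨orderOf (x i), (orderOf_pos _).ne', ?_⟩) v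
  · have := (hc i j).map ρ
    ext u
    exact congrArg (fun T : E →L[ℂ] E => T u) this
  · have : ρ (x i) ^ orderOf (x i) = 1 := by rw [← map_pow, pow_orderOf_eq_one, map_one]
    have h2 := congrArg (ContinuousLinearMap.toLinearMapRingHom (R₁ := ℂ) (M₁ := E)) this
    rw [map_pow, map_one] at h2
    exact h2

variable (hρ : ∀ g v, ‖ρ g v‖ = ‖v‖)
include hρ

omit [FiniteDimensional ℂ E] [Finite G] in
theorem opNorm_rep_le (g : G) : ‖ρ g‖ ≤ 1 :=
  ContinuousLinearMap.opNorm_le_bound _ zero_le_one fun v => by rw [hρ, one_mul]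

theorem rep_comm_of_commute_conj {a b : G} (h : Commute a (b * a * b⁻¹)) {d : ℂ}
    (hd : ‖ρ b - d • 1‖ < ‖d‖) : ρ a = ρ (b * a * b⁻¹) := by
  ext v
  obtain ⟨s, w, hw, rfl⟩ := exists_weight_decomp' ρ (fun i : Bool => cond i a (b * a * b⁻¹))
    (fun i j => by
      cases i <;> cases j
      · exact Commute.refl _
      · exact h.symm
      · exact h
      · exact Commute.refl _) v
  rw [map_sum, map_sum]
  refine Finset.sum_congr rfl fun χ _ => ?_
  have h1 : ρ a (w χ) = χ true • w χ := hw χ true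
  have h2 : ρ (b * a * b⁻¹) (w χ) = χ false • w χ := hw χ false
  rw [h1, h2]
  by_cases hne : χ false = χ true
  · rw [hne]
  set u := ρ b⁻¹ (w χ) with hu
  have hbu : ρ b u = w χ := by
    rw [hu, ← mul_apply_eq_comp, ← map_mul, mul_inv_cancel, map_one]; rfl
  have h3 : ρ a u = χ false • u := by
    rw [hu, ← map_smul, ← h2, ← mul_apply_eq_comp, ← mul_apply_eq_comp,
      ← map_mul, ← map_mul]
    congr 2; group
  have h4 := inner_eq_zero_of_eigen (hρ a) h3 h1 hne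
  have h5 : ⟪u, (ρ b - d • 1) u⟫_ℂ = -(d * ((‖u‖ : ℝ) : ℂ) ^ 2) := by
    rw [sub_apply, hbu, inner_sub_right, h4, smul_apply,
      inner_smul_right, one_apply_eq_self, inner_self_eq_norm_sq_to_K]
    simp
  have h6 := norm_inner_le_norm (𝕜 := ℂ) u ((ρ b - d • 1) u)
  rw [h5, norm_neg, norm_mul, norm_pow, Complex.norm_real, norm_norm] at h6
  have h7 := (ρ b - d • 1).le_opNorm u
  have h8 : ‖u‖ = 0 := by
    by_contra h0
    have hpos : 0 < ‖u‖ := lt_of_le_of_ne (norm_nonneg _) (Ne.symm h0)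
    have : ‖u‖ * ‖(ρ b - d • 1) u‖ ≤ ‖u‖ * (‖ρ b - d • 1‖ * ‖u‖) :=
      mul_le_mul_of_nonneg_left h7 hpos.le
    have h9 : 0 < ‖u‖ ^ 2 := by positivity
    nlinarith
  rw [← hbu, norm_eq_zero.1 h8, map_zero, smul_zero, smul_zero]

omit [FiniteDimensional ℂ E] [Finite G] in
theorem norm_comm_le (a b : G) (c d : ℂ) :
    ‖ρ (a * b * a⁻¹ * b⁻¹) - (1 : ℂ) • 1‖ ≤ 2 * ‖ρ a - c • 1‖ * ‖ρ b - d • 1‖ := by
  have e : ρ (a * b * a⁻¹ * b⁻¹) - (1 : ℂ) • 1 =
      ((ρ a - c • 1) * (ρ b - d • 1) - (ρ b - d • 1) * (ρ a - c • 1)) * ρ (a⁻¹ * b⁻¹) := by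
    have e1 : (ρ a - c • 1) * (ρ b - d • 1) - (ρ b - d • 1) * (ρ a - c • 1) = ρ a * ρ b - ρ b * ρ a := by
      simp only [mul_sub, sub_mul, smul_mul_assoc, mul_smul_comm, one_mul, mul_one, smul_sub, smul_smul,
        mul_comm c d]
      abel
    rw [e1, sub_mul, ← map_mul, ← map_mul, ← map_mul, ← map_mul, one_smul, ← map_one ρ]
    congr 2 <;> group
  rw [e]
  refine (norm_mul_le _ _).trans ?_
  refine (mul_le_of_le_one_right (norm_nonneg _) (opNorm_rep_le ρ hρ _)).trans ?_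
  refine (norm_sub_le _ _).trans ?_
  have h1 := norm_mul_le (ρ a - c • 1) (ρ b - d • 1)
  have h2 := norm_mul_le (ρ b - d • 1) (ρ a - c • 1)
  linarith

theorem commute_of_commute_comm (hinj : Function.Injective ρ) {a b : G}
    (h : Commute a (a * b * a⁻¹ * b⁻¹)) {d : ℂ} (hd : ‖ρ b - d • 1‖ < ‖d‖) : Commute a b := by
  have h1 : Commute a (b * a * b⁻¹) := by
    have : b * a * b⁻¹ = (a * b * a⁻¹ * b⁻¹)⁻¹ * a := by group
    rw [this]
    exact h.inv_right.mul_right (Commute.refl a)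
  have h2 := hinj (rep_comm_of_commute_conj ρ hρ h1 hd)
  show a * b = b * a
  conv_lhs => rw [h2]
  group

theorem commute_of_near (hinj : Function.Injective ρ) {a b : G} {c d : ℂ}
    (ha : ‖ρ a - c • 1‖ < 1 / 2) (hb : ‖ρ b - d • 1‖ < 1 / 2) : Commute a b := by
  have key : ∀ x : G, ‖ρ x - (1 : ℂ) • 1‖ < 1 → Commute a x := by
    have wf : WellFounded (fun x y : G => ‖ρ x - (1 : ℂ) • 1‖ < ‖ρ y - (1 : ℂ) • 1‖) := by
      haveI : IsTrans G (fun x y : G => ‖ρ x - (1 : ℂ) • 1‖ < ‖ρ y - (1 : ℂ) • 1‖) :=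
        ⟨fun _ _ _ => lt_trans⟩
      haveI : Std.Irrefl (fun x y : G => ‖ρ x - (1 : ℂ) • 1‖ < ‖ρ y - (1 : ℂ) • 1‖) :=
        ⟨fun _ => lt_irrefl _⟩
      exact Finite.wellFounded_of_trans_of_irrefl _
    intro x
    induction x using wf.induction with
    | _ x ih =>
      intro hx
      by_cases h0 : ‖ρ x - (1 : ℂ) • 1‖ = 0
      · have : x = 1 := hinj (by rw [map_one, ← one_smul ℂ (1 : E →L[ℂ] E), ← sub_eq_zero]; exact norm_eq_zero.1 h0)
        rw [this]; exact Commute.one_right a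
      have hpos : 0 < ‖ρ x - (1 : ℂ) • 1‖ := lt_of_le_of_ne (norm_nonneg _) (Ne.symm h0)
      have h1 := norm_comm_le ρ hρ a x c 1
      have h2 : ‖ρ (a * x * a⁻¹ * x⁻¹) - (1 : ℂ) • 1‖ < ‖ρ x - (1 : ℂ) • 1‖ := by nlinarith
      exact commute_of_commute_comm ρ hρ hinj (ih _ h2 (h2.trans hx)) (d := 1) (by simpa using hx)
  rcases subsingleton_or_nontrivial E with hE | hE
  · exact hinj (Subsingleton.elim _ _)
  have h1 := norm_comm_le ρ hρ a b c d
  refine commute_of_commute_comm ρ hρ hinj (key _ ?_) (d := d) ?_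
  · nlinarith [norm_nonneg (ρ a - c • 1), norm_nonneg (ρ b - d • 1)]
  · obtain ⟨v, hv⟩ := exists_ne (0 : E)
    have hpos : 0 < ‖v‖ := norm_pos_iff.2 hv
    have h2 := (ρ b - d • 1).le_opNorm v
    have h3 : ‖v‖ ≤ ‖(ρ b - d • 1) v‖ + ‖d‖ * ‖v‖ := by
      rw [← norm_smul]
      conv_lhs => rw [← hρ b v]
      refine le_trans (le_of_eq ?_) (norm_add_le _ _)
      simp
    have h4 : 1 ≤ ‖ρ b - d • 1‖ + ‖d‖ := by
      by_contra h5
      push Not at h5
      nlinarith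
    linarith

theorem opNorm_le_of_weights {ι : Type*} (x : ι → G) (hc : ∀ i j, Commute (x i) (x j)) (i₀ : ι)
    (c : ℂ) {r : ℝ} (hr : 0 ≤ r)
    (h : ∀ (χ : ι → ℂ) (w : E), w ≠ 0 → (∀ i, ρ (x i) w = χ i • w) → ‖χ i₀ - c‖ ≤ r) :
    ‖ρ (x i₀) - c • 1‖ ≤ r := by
  refine ContinuousLinearMap.opNorm_le_bound _ hr fun v => ?_
  obtain ⟨s, w, hw, rfl⟩ := exists_weight_decomp' ρ x hc v
  have horth : ∀ χ ψ : ι → ℂ, χ ≠ ψ → ⟪w χ, w ψ⟫_ℂ = 0 := fun χ ψ hne => by
    obtain ⟨i, hi⟩ := Function.ne_iff.1 hne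
    exact inner_eq_zero_of_eigen (hρ (x i)) (hw χ i) (hw ψ i) hi
  have e : (ρ (x i₀) - c • 1) (∑ χ ∈ s, w χ) = ∑ χ ∈ s, (χ i₀ - c) • w χ := by
    rw [map_sum]
    refine Finset.sum_congr rfl fun χ _ => ?_
    simp [hw, sub_smul]
  refine le_of_sq_le_sq ?_ (by positivity)
  rw [e, mul_pow, norm_sum_sq_of_orth s w (fun i _ j _ => horth i j), norm_sum_sq_of_orth, Finset.mul_sum]
  · refine Finset.sum_le_sum fun χ _ => ?_
    by_cases h0 : w χ = 0
    · simp [h0]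
    rw [norm_smul, mul_pow]
    exact mul_le_mul_of_nonneg_right (pow_le_pow_left₀ (norm_nonneg _) (h χ _ h0 (hw χ)) 2) (by positivity)
  · intro i _ j _ hne
    rw [inner_smul_left, inner_smul_right, horth i j hne, mul_zero, mul_zero]

end Inner

theorem norm_div_sub_lt {z w : ℂ} (hz : ‖z‖ = 1) (hw : ‖w‖ = 1)
    (h : |z.arg - w.arg| < Real.pi / 6) : ‖z / w - (Real.cos (Real.pi / 6) : ℝ)‖ < 1 / 2 := by
  have e : z / w = Complex.exp (((z.arg - w.arg : ℝ) : ℂ) * Complex.I) := by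
    have h1 := Complex.norm_mul_exp_arg_mul_I z
    have h2 := Complex.norm_mul_exp_arg_mul_I w
    rw [hz] at h1; rw [hw] at h2
    simp only [Complex.ofReal_one, one_mul] at h1 h2
    rw [Complex.ofReal_sub, sub_mul, Complex.exp_sub, h1, h2]
  set t := z.arg - w.arg
  have hc : Real.cos (Real.pi / 6) < Real.cos t := by
    rw [← Real.cos_abs t]
    exact Real.cos_lt_cos_of_nonneg_of_le_pi (abs_nonneg _) (by linarith [Real.pi_pos]) h
  have hc2 : Real.cos (Real.pi / 6) ^ 2 = 3 / 4 := Real.sq_cos_pi_div_six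
  have hc0 : 0 < Real.cos (Real.pi / 6) := by rw [Real.cos_pi_div_six]; positivity
  refine lt_of_pow_lt_pow_left₀ 2 (by norm_num) ?_
  rw [e, Complex.sq_norm, Complex.normSq_apply]
  simp only [Complex.sub_re, Complex.sub_im, Complex.exp_ofReal_mul_I_re, Complex.exp_ofReal_mul_I_im,
    Complex.ofReal_re, Complex.ofReal_im, sub_zero]
  nlinarith [Real.sin_sq_add_cos_sq t]

/-- index of the arc of length `π/6` containing `z` -/
noncomputable def arc (z : ℂ) : Finset.Icc (1 : ℤ) 12 :=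
  ⟨⌈(z.arg + Real.pi) / (Real.pi / 6)⌉, by
    have hp : 0 < Real.pi / 6 := by positivity
    rw [Finset.mem_Icc, Int.one_le_ceil_iff, Int.ceil_le, div_le_iff₀ hp]
    refine ⟨div_pos (by linarith [Complex.neg_pi_lt_arg z]) hp, ?_⟩
    push_cast
    linarith [Complex.arg_le_pi z]⟩

theorem abs_arg_sub_lt {z w : ℂ} (h : arc z = arc w) : |z.arg - w.arg| < Real.pi / 6 := by
  have hp : 0 < Real.pi / 6 := by positivity
  have h1 : ⌈(z.arg + Real.pi) / (Real.pi / 6)⌉ = ⌈(w.arg + Real.pi) / (Real.pi / 6)⌉ :=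
    congrArg Subtype.val h
  have h2 : |(z.arg + Real.pi) / (Real.pi / 6) - (w.arg + Real.pi) / (Real.pi / 6)| < 1 := by
    have a1 := Int.le_ceil ((z.arg + Real.pi) / (Real.pi / 6))
    have a2 := Int.ceil_lt_add_one ((z.arg + Real.pi) / (Real.pi / 6))
    have a3 := Int.le_ceil ((w.arg + Real.pi) / (Real.pi / 6))
    have a4 := Int.ceil_lt_add_one ((w.arg + Real.pi) / (Real.pi / 6))
    rw [h1] at a1 a2
    rw [abs_lt]; constructor <;> linarith
  rw [← sub_div, abs_div, abs_of_pos hp, div_lt_one hp] at h2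
  simpa using h2

theorem jordan_core {E : Type*} [NormedAddCommGroup E] [InnerProductSpace ℂ E] [FiniteDimensional ℂ E]
    {G : Type*} [Group G] [Finite G] (ρ : G →* (E →L[ℂ] E)) (hρ : ∀ g v, ‖ρ g v‖ = ‖v‖)
    (hinj : Function.Injective ρ) :
    ∃ A : Subgroup G, A.Normal ∧ (∀ x ∈ A, ∀ y ∈ A, x * y = y * x) ∧
      ∀ H : Subgroup G, (∀ x ∈ H, ∀ y ∈ H, x * y = y * x) →
        (A.subgroupOf H).index ≤ 12 ^ finrank ℂ E := by
  classical
  let S : Set G := {g | ∃ c : ℂ, ‖ρ g - c • 1‖ < 1 / 2}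
  have hS : ∀ g ∈ S, ∀ x : G, x * g * x⁻¹ ∈ S := by
    rintro g ⟨c, hc⟩ x
    refine ⟨c, lt_of_le_of_lt ?_ hc⟩
    have e : ρ (x * g * x⁻¹) - c • 1 = ρ x * (ρ g - c • 1) * ρ x⁻¹ := by
      rw [mul_sub, sub_mul, mul_smul_comm, smul_mul_assoc, mul_one, ← map_mul, ← map_mul, ← map_mul,
        mul_inv_cancel, map_one]
    rw [e]
    refine (norm_mul_le _ _).trans ((mul_le_of_le_one_right (norm_nonneg _) (opNorm_rep_le ρ hρ _)).trans ?_)
    exact (norm_mul_le _ _).trans (mul_le_of_le_one_left (norm_nonneg _) (opNorm_rep_le ρ hρ _))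
  refine ⟨Subgroup.closure S, ⟨fun g hg x => ?_⟩, ?_, fun H hH => ?_⟩
  · induction hg using Subgroup.closure_induction with
    | mem y hy => exact Subgroup.subset_closure (hS y hy x)
    | one => simp
    | mul y z _ _ hy hz =>
      have : x * (y * z) * x⁻¹ = (x * y * x⁻¹) * (x * z * x⁻¹) := by group
      rw [this]; exact Subgroup.mul_mem _ hy hz
    | inv y _ hy =>
      have : x * y⁻¹ * x⁻¹ = (x * y * x⁻¹)⁻¹ := by group
      rw [this]; exact Subgroup.inv_mem _ hy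
  · have h1 : Subgroup.closure S ≤ Subgroup.centralizer S := by
      rw [Subgroup.closure_le]
      rintro a ⟨c, hc⟩ b ⟨d, hd⟩
      exact commute_of_near ρ hρ hinj hd hc
    have h2 : Subgroup.closure S ≤ Subgroup.centralizer (Subgroup.closure S : Set G) := by
      rw [Subgroup.closure_le]
      intro a ha b hb
      exact (h1 hb a ha).symm
    intro x hx y hy
    exact h2 hy x hx
  · let W := {χ : H → ℂ // ∃ w : E, w ≠ 0 ∧ ∀ h : H, ρ h w = χ h • w}
    choose w hw0 hw using fun χ : W => χ.2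
    have hli : LinearIndependent ℂ w := by
      refine linearIndependent_of_ne_zero_of_inner_eq_zero hw0 fun χ ψ hne => ?_
      obtain ⟨i, hi⟩ := Function.ne_iff.1 (fun h => hne (Subtype.ext h))
      exact inner_eq_zero_of_eigen (hρ i) (hw χ i) (hw ψ i) hi
    haveI : Finite W := hli.finite
    letI := Fintype.ofFinite W
    have hcard : Fintype.card W ≤ finrank ℂ E := hli.fintype_card_le_finrank
    let φ : H → (W → Finset.Icc (1 : ℤ) 12) := fun h χ => arc (χ.1 h)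
    have hφ : ∀ h₁ h₂ : H, φ h₁ = φ h₂ → ((h₁⁻¹ * h₂ : H) : G) ∈ S := by
      intro h₁ h₂ he
      have hb : ∀ χ : W, ‖χ.1 (h₁⁻¹ * h₂) - (Real.cos (Real.pi / 6) : ℝ)‖ < 1 / 2 := by
        intro χ
        have n1 := norm_eigen_eq_one (hρ h₁) (hw0 χ) (hw χ h₁)
        have n2 := norm_eigen_eq_one (hρ h₂) (hw0 χ) (hw χ h₂)
        have e : χ.1 (h₁⁻¹ * h₂) = χ.1 h₂ / χ.1 h₁ := by
          have h0 : χ.1 h₁ ≠ 0 := by intro h0; rw [h0] at n1; simp at n1
          rw [eq_div_iff h0]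
          have e1 : ρ h₁ (ρ ((h₁⁻¹ * h₂ : H) : G) (w χ)) = ρ h₂ (w χ) := by
            rw [← mul_apply_eq_comp, ← map_mul]; simp
          rw [hw χ, map_smul, hw χ, hw χ, smul_smul] at e1
          exact smul_left_injective ℂ (hw0 χ) e1
        rw [e]
        exact norm_div_sub_lt n2 n1 (abs_arg_sub_lt (congrFun he χ).symm)
      obtain ⟨r, hr0, hr, hrb⟩ : ∃ r : ℝ, 0 ≤ r ∧ r < 1 / 2 ∧
          ∀ χ : W, ‖χ.1 (h₁⁻¹ * h₂) - (Real.cos (Real.pi / 6) : ℝ)‖ ≤ r := by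
        rcases isEmpty_or_nonempty W with hW | hW
        · exact ⟨0, le_rfl, by norm_num, fun χ => isEmptyElim χ⟩
        · obtain ⟨χ₀, h₀⟩ := Finite.exists_max
            (fun χ : W => ‖χ.1 (h₁⁻¹ * h₂) - (Real.cos (Real.pi / 6) : ℝ)‖)
          exact ⟨_, norm_nonneg _, hb χ₀, h₀⟩
      refine ⟨(Real.cos (Real.pi / 6) : ℝ), lt_of_le_of_lt ?_ hr⟩
      exact opNorm_le_of_weights ρ hρ (fun h : H => (h : G)) (fun i j => hH _ i.2 _ j.2) (h₁⁻¹ * h₂) _ hr0
        (fun χ v hv h => hrb ⟨χ, v, hv, h⟩)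
    have hinj2 : Function.Injective (fun q : H ⧸ (Subgroup.closure S).subgroupOf H => φ q.out) := by
      intro q₁ q₂ he
      rw [← q₁.out_eq, ← q₂.out_eq]
      exact QuotientGroup.eq.2 (Subgroup.mem_subgroupOf.2 (Subgroup.subset_closure (hφ _ _ he)))
    have := Nat.card_le_card_of_injective _ hinj2
    refine this.trans ?_
    rw [Nat.card_fun, Nat.card_eq_fintype_card, Nat.card_eq_fintype_card, Fintype.card_coe, Int.card_Icc]
    exact Nat.pow_le_pow_right (by norm_num) hcard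

/-- every representation of a finite group is equivalent to a unitary one -/
theorem exists_isometric_rep {G : Type*} [Group G] [Finite G] {n : ℕ} (ρ : Representation ℂ G (Fin n → ℂ)) :
    ∃ (E : Type) (_ : NormedAddCommGroup E) (_ : InnerProductSpace ℂ E) (_ : FiniteDimensional ℂ E)
      (e : (Fin n → ℂ) ≃ₗ[ℂ] E)
      (σ : G →* (E →L[ℂ] E)), (∀ g v, ‖σ g v‖ = ‖v‖) ∧ ∀ g v, σ g (e v) = e (ρ g v) := by
  classical
  let q : G ≃ Fin (Nat.card G) := Finite.equivFin G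
  let J : (Fin n → ℂ) →ₗ[ℂ] EuclideanSpace ℂ (Fin (Nat.card G) × Fin n) :=
    { toFun := fun v => WithLp.toLp 2 (fun p => ρ (q.symm p.1) v p.2)
      map_add' := fun v w => by ext p; simp
      map_smul' := fun c v => by ext p; simp }
  have hJ : Function.Injective J := by
    intro v w h
    ext i
    have := congrArg (fun x : EuclideanSpace ℂ (Fin (Nat.card G) × Fin n) => x (q 1, i)) h
    simpa [J] using this
  let e := LinearEquiv.ofInjective J hJ
  let σ : G →* (J.range →L[ℂ] J.range) :=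
    { toFun := fun g => LinearMap.toContinuousLinearMap (transportRep ρ e g)
      map_one' := by ext v; simp
      map_mul' := fun a b => by ext v; simp }
  have hσ : ∀ g v, σ g (e v) = e (ρ g v) := fun g v => by
    show transportRep ρ e g (e v) = _
    rw [transportRep_apply, LinearEquiv.symm_apply_apply]
  refine ⟨J.range, inferInstance, inferInstance, inferInstance, e, σ, fun g v => ?_, hσ⟩
  obtain ⟨v, rfl⟩ := e.surjective v
  rw [hσ]
  show ‖J (ρ g v)‖ = ‖J v‖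
  rw [EuclideanSpace.norm_eq, EuclideanSpace.norm_eq]
  congr 1
  refine Fintype.sum_equiv (Equiv.prodCongr (q.symm.trans ((Equiv.mulRight g).trans q)) (Equiv.refl _)) _ _ ?_
  rintro ⟨a, i⟩
  simp [J]

theorem jordan {G : Type*} [Group G] [Finite G] {χ : G → ℂ} (hχ : IsCharacter G χ)
    (hfaith : ∀ g : G, χ g = χ 1 → g = 1) :
    ∃ A : Subgroup G, A.Normal ∧ (∀ x ∈ A, ∀ y ∈ A, x * y = y * x) ∧
      ∀ H : Subgroup G, (∀ x ∈ H, ∀ y ∈ H, x * y = y * x) →
        (A.subgroupOf H).index ≤ 12 ^ charDegree χ := by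
  obtain ⟨ρ, hρ⟩ := hχ.exists_rep
  obtain ⟨E, _, _, _, e, σ, h1, h2⟩ := exists_isometric_rep ρ
  have hinj : Function.Injective σ := by
    rw [injective_iff_map_eq_one]
    intro g hg
    apply hfaith
    rw [← hρ, character_eq_one_iff_mem_ker, MonoidHom.mem_ker]
    refine LinearMap.ext fun v => e.injective ?_
    rw [← h2, hg]; rfl
  have := jordan_core σ h1 hinj
  rwa [← e.finrank_eq, Module.finrank_fin_fun] at this

end H07
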