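import Cfsg.Agent.H26.Syl
import Cfsg.Statements.S3198
import Cfsg.Statements.S5626

/-! Sylow 2-subgroups of type `L₃(4)` (namespace `H07.L4`): coordinates `Hs`, subgroups `T E E' Z`, interface statements. -/

set_option autoImplicit false

namespace H07.L4
open Subgroup Cfsg

universe u v

/-- the projective general linear group -/
abbrev PG (F : Type v) [Field F] := GL (Fin 3) F ⧸ center (GL (Fin 3) F)

variable {F : Type v} [Field F] [Fintype F] {G : Type u} [Group G]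

/-- the Sylow subgroup -/
def T (u : F → F → F → G) : Subgroup G := closure {x | ∃ a b c, u a b c = x}
/-- first elementary abelian subgroup of order 16 -/
def E (u : F → F → F → G) : Subgroup G := closure {x | ∃ a c, u a 0 c = x}
/-- second elementary abelian subgroup of order 16 -/
def E' (u : F → F → F → G) : Subgroup G := closure {x | ∃ b c, u 0 b c = x}
/-- the centre -/
def Z (u : F → F → F → G) : Subgroup G := closure {x | ∃ c, u 0 0 c = x}

/-- coordinates of a Sylow 2-subgroup -/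
structure Hs (u : F → F → F → G) : Prop where
  c4 : Fintype.card F = 4
  mul : ∀ a b c a' b' c', u a b c * u a' b' c' = u (a + a') (b + b') (c + c' + a * b')
  inj : ∀ a b c, u a b c = 1 → a = 0 ∧ b = 0 ∧ c = 0
  odd : ¬ 2 ∣ (T u).index

/-- part A: coordinates -/
def AStmt : Prop := ∀ (G : Type u) [Group G] [Finite G] (F : Type v) [Field F] [Fintype F], Fintype.card F = 4 →
  ∀ (S : Sylow 2 G) (P : Sylow 2 (Matrix.ProjectiveSpecialLinearGroup (Fin 3) F)),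
    Nonempty ((S : Subgroup G) ≃* (P : Subgroup (Matrix.ProjectiveSpecialLinearGroup (Fin 3) F))) → ∃ u : F → F → F → G, Hs u

/-- part P: groups acting on the plane of order 4 -/
def PStmt : Prop := ∀ (G : Type u) [Group G] [Finite G] (F : Type v) [Field F] [Fintype F], Fintype.card F = 4 →
  ∀ (α : Type u) [Fintype α] [DecidableEq α], Fintype.card α = 21 → ∀ L : Set (Finset α), IsSteinerSystem 2 5 L →
    ∀ φ : G →* Equiv.Perm α, Function.Injective φ → (∀ g, φ g ∈ setSystemAut L) → (∀ H : Subgroup G, H.index ≠ 2) →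
      ∃ f : G →* PG F, Function.Injective f

/-- part L: the affine case -/
def LStmt : Prop := ∀ (G : Type u) [Group G] [Finite G] (F : Type v) [Field F] [Fintype F] (u : F → F → F → G), Hs u →
  (E u).Normal → centralizer (E u : Set G) ≤ E u → ∃ f : G →* PG F, Function.Injective f

/-- part D: the degenerate case -/
def DStmt : Prop := ∀ (G : Type u) [Group G] [Finite G] (F : Type v) [Field F] [Fintype F] (u : F → F → F → G), Hs u →
  oddCore G = ⊥ → normalizer (E' u : Set G) ≤ normalizer (Z u : Set G) → (E u).Normal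

namespace Hs
variable {u : F → F → F → G} (h : Hs u)
include h

theorem two : (2 : F) = 0 := by
  have := FiniteField.cast_card_eq_zero F
  rw [h.c4, show ((4 : ℕ) : F) = 2 * 2 by norm_num] at this
  exact mul_self_eq_zero.1 this

theorem aa (a : F) : a + a = 0 := by rw [← two_mul, h.two, zero_mul]

theorem cube {a : F} (ha : a ≠ 0) : a ^ 3 = 1 := by simpa [h.c4] using FiniteField.pow_card_sub_one_eq_one a ha

theorem one : u 0 0 0 = 1 := by simpa using (h.mul 0 0 0 0 0 0)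

theorem inv (a b c : F) : (u a b c)⁻¹ = u a b (c + a * b) :=
  inv_eq_of_mul_eq_one_right (by rw [h.mul, h.aa, h.aa, add_assoc, add_assoc, h.aa, add_zero, h.aa, h.one])

theorem eq {a b c a' b' c' : F} : u a b c = u a' b' c' ↔ a = a' ∧ b = b' ∧ c = c' := by
  refine ⟨fun r => ?_, fun ⟨x, y, z⟩ => by rw [x, y, z]⟩
  obtain ⟨x, y, z⟩ := h.inj _ _ _ ((h.mul _ _ _ _ _ _).symm.trans (h.inv a' b' c' ▸ mul_inv_eq_one.2 r))
  have k : ∀ {x y : F}, x + y = 0 → x = y := fun {x y} r => by rw [← add_zero x, ← h.aa y, ← add_assoc, r, zero_add]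
  obtain rfl := k x
  exact ⟨rfl, k y, k (by rwa [add_assoc, add_assoc, h.aa, add_zero] at z)⟩

theorem eq1 {a b c : F} : u a b c = 1 ↔ a = 0 ∧ b = 0 ∧ c = 0 := by rw [← h.one, h.eq]

theorem sq (a b c : F) : u a b c * u a b c = u 0 0 (a * b) := by rw [h.mul, h.aa, h.aa, h.aa, zero_add]

theorem cj (a b c a' b' c' : F) : u a b c * u a' b' c' * (u a b c)⁻¹ = u a' b' (c' + a * b' + a' * b) := by
  rw [h.inv, h.mul, h.mul, h.eq]
  refine ⟨by linear_combination h.aa a, by linear_combination h.aa b, by linear_combination h.aa c + h.aa (a * b)⟩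

theorem comm {a b c a' b' c' : F} : u a b c * u a' b' c' = u a' b' c' * u a b c ↔ a * b' = a' * b := by
  rw [h.mul, h.mul, h.eq]
  exact ⟨fun r => by linear_combination r.2.2, fun r => ⟨add_comm _ _, add_comm _ _, by linear_combination r⟩⟩

omit [Fintype F] h in
theorem memc {s : Set G} (h1 : 1 ∈ s) (h2 : ∀ x ∈ s, ∀ y ∈ s, x * y ∈ s) (h3 : ∀ x ∈ s, x⁻¹ ∈ s) {x : G} : x ∈ closure s ↔ x ∈ s :=
  ⟨fun r => closure_induction (fun _ k => k) h1 (fun x y _ _ a b => h2 x a y b) (fun x _ a => h3 x a) r, fun r => subset_closure r⟩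

theorem memT {x : G} : x ∈ T u ↔ ∃ a b c, u a b c = x :=
  memc (s := {x | ∃ a b c, u a b c = x}) ⟨0, 0, 0, h.one⟩ (by rintro _ ⟨a, b, c, rfl⟩ _ ⟨a', b', c', rfl⟩; exact ⟨_, _, _, (h.mul ..).symm⟩)
    (by rintro _ ⟨a, b, c, rfl⟩; exact ⟨_, _, _, (h.inv ..).symm⟩)

theorem memE {x : G} : x ∈ E u ↔ ∃ a c, u a 0 c = x :=
  memc (s := {x | ∃ a c, u a 0 c = x}) ⟨0, 0, h.one⟩ (by rintro _ ⟨a, c, rfl⟩ _ ⟨a', c', rfl⟩; exact ⟨_, _, by rw [h.mul, add_zero]⟩)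
    (by rintro _ ⟨a, c, rfl⟩; exact ⟨_, _, (h.inv ..).symm⟩)

theorem memE' {x : G} : x ∈ E' u ↔ ∃ b c, u 0 b c = x :=
  memc (s := {x | ∃ b c, u 0 b c = x}) ⟨0, 0, h.one⟩ (by rintro _ ⟨a, c, rfl⟩ _ ⟨a', c', rfl⟩; exact ⟨_, _, by rw [h.mul, add_zero]⟩)
    (by rintro _ ⟨a, c, rfl⟩; exact ⟨_, _, (h.inv ..).symm⟩)

theorem memZ {x : G} : x ∈ Z u ↔ ∃ c, u 0 0 c = x :=
  memc (s := {x | ∃ c, u 0 0 c = x}) ⟨0, h.one⟩ (by rintro _ ⟨c, rfl⟩ _ ⟨c', rfl⟩; exact ⟨_, by rw [h.mul, add_zero]⟩)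
    (by rintro _ ⟨c, rfl⟩; exact ⟨_, (h.inv ..).symm⟩)

theorem mT (a b c : F) : u a b c ∈ T u := h.memT.2 ⟨_, _, _, rfl⟩
theorem mE {a b c : F} : u a b c ∈ E u ↔ b = 0 := by rw [h.memE]; exact ⟨fun ⟨_, _, r⟩ => (h.eq.1 r).2.1.symm, fun r => ⟨a, c, by rw [r]⟩⟩
theorem mE' {a b c : F} : u a b c ∈ E' u ↔ a = 0 := by rw [h.memE']; exact ⟨fun ⟨_, _, r⟩ => (h.eq.1 r).1.symm, fun r => ⟨b, c, by rw [r]⟩⟩
theorem mZ {a b c : F} : u a b c ∈ Z u ↔ a = 0 ∧ b = 0 := by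
  rw [h.memZ]; exact ⟨fun ⟨_, r⟩ => ⟨(h.eq.1 r).1.symm, (h.eq.1 r).2.1.symm⟩, fun r => ⟨c, by rw [r.1, r.2]⟩⟩

theorem ET : E u ≤ T u := fun _ r => by obtain ⟨a, c, rfl⟩ := h.memE.1 r; exact h.mT _ _ _
theorem E'T : E' u ≤ T u := fun _ r => by obtain ⟨a, c, rfl⟩ := h.memE'.1 r; exact h.mT _ _ _
theorem inf : E u ⊓ E' u = Z u := Subgroup.ext fun x =>
  ⟨fun r => by obtain ⟨a, c, rfl⟩ := h.memE.1 r.1; exact h.mZ.2 ⟨h.mE'.1 r.2, rfl⟩,
    fun r => by obtain ⟨c, rfl⟩ := h.memZ.1 r; exact ⟨h.mE.2 rfl, h.mE'.2 rfl⟩⟩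
theorem ZE : Z u ≤ E u := h.inf ▸ inf_le_left
theorem ZE' : Z u ≤ E' u := h.inf ▸ inf_le_right
theorem E2 {x : G} (r : x ∈ E u) : x * x = 1 := by obtain ⟨a, c, rfl⟩ := h.memE.1 r; rw [h.sq, mul_zero, h.one]
theorem Ec {x y : G} (r : x ∈ E u) (s : y ∈ E u) : x * y = y * x := by
  obtain ⟨a, c, rfl⟩ := h.memE.1 r; obtain ⟨a', c', rfl⟩ := h.memE.1 s; rw [h.comm, mul_zero, mul_zero]
theorem Zc {x y : G} (r : x ∈ Z u) (s : y ∈ T u) : y * x = x * y := by
  obtain ⟨c, rfl⟩ := h.memZ.1 r; obtain ⟨a', b', c', rfl⟩ := h.memT.1 s; rw [h.comm, mul_zero, zero_mul]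
theorem invol {x : G} (r : x ∈ T u) (s : x * x = 1) : x ∈ E u ∨ x ∈ E' u := by
  obtain ⟨a, b, c, rfl⟩ := h.memT.1 r
  rw [h.sq, h.eq1] at s
  rw [h.mE, h.mE', or_comm]; exact mul_eq_zero.1 s.2.2
theorem nE {x y : G} (r : x ∈ T u) (s : y ∈ E u) : x * y * x⁻¹ ∈ E u := by
  obtain ⟨a, b, c, rfl⟩ := h.memT.1 r; obtain ⟨a', c', rfl⟩ := h.memE.1 s; rw [h.cj, h.mE]
/-- elements of `T` outside `E` centralise only `Z` in `E` -/
theorem cen {x y : G} (r : x ∈ T u) (r' : x ∉ E u) (s : y ∈ E u) (c : x * y = y * x) : y ∈ Z u := by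
  obtain ⟨a, b, c, rfl⟩ := h.memT.1 r; obtain ⟨a', c', rfl⟩ := h.memE.1 s
  rw [h.comm, mul_zero, eq_comm, mul_eq_zero] at c
  exact h.mZ.2 ⟨c.resolve_right fun k => r' (h.mE.2 k), rfl⟩

theorem cardT : Nat.card (T u) = 64 := by
  rw [← Nat.card_congr (Equiv.ofBijective (fun p : F × F × F => (⟨_, h.mT p.1 p.2.1 p.2.2⟩ : T u))
    ⟨fun p q r => by obtain ⟨x, y, z⟩ := h.eq.1 (congrArg Subtype.val r); exact Prod.ext x (Prod.ext y z),
      fun x => by obtain ⟨a, b, c, r⟩ := h.memT.1 x.2; exact ⟨(a, b, c), Subtype.ext r⟩⟩)]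
  simp [h.c4]
theorem cardE : Nat.card (E u) = 16 := by
  rw [← Nat.card_congr (Equiv.ofBijective (fun p : F × F => (⟨u p.1 0 p.2, h.mE.2 rfl⟩ : E u))
    ⟨fun p q r => by obtain ⟨x, -, z⟩ := h.eq.1 (congrArg Subtype.val r); exact Prod.ext x z,
      fun x => by obtain ⟨a, c, r⟩ := h.memE.1 x.2; exact ⟨(a, c), Subtype.ext r⟩⟩)]
  simp [h.c4]
theorem cardZ : Nat.card (Z u) = 4 := by
  rw [← Nat.card_congr (Equiv.ofBijective (fun p : F => (⟨u 0 0 p, h.mZ.2 ⟨rfl, rfl⟩⟩ : Z u))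
    ⟨fun p q r => (h.eq.1 (congrArg Subtype.val r)).2.2, fun x => by obtain ⟨c, r⟩ := h.memZ.1 x.2; exact ⟨c, Subtype.ext r⟩⟩)]
  simp [h.c4]
theorem pT : IsPGroup 2 (T u) := IsPGroup.of_card (n := 6) h.cardT
theorem syl : H26.IsSyl 2 (T u) ⊤ :=
  haveI : Fact (Nat.Prime 2) := ⟨Nat.prime_two⟩
  H26.isSyl_of_not_dvd le_top h.pT (by rw [relIndex_top_right]; exact h.odd)

/-- change of coordinates by an additive map -/
theorem rc (φ : F →+ F) : Hs (fun a b c => u a b (c + φ a)) ∧ T (fun a b c => u a b (c + φ a)) = T u ∧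
    E (fun a b c => u a b (c + φ a)) = E u ∧ E' (fun a b c => u a b (c + φ a)) = E' u ∧ Z (fun a b c => u a b (c + φ a)) = Z u := by
  have k : ∀ a b c, u a b (c + φ a + φ a) = u a b c := fun a b c => by rw [add_assoc, h.aa, add_zero]
  have t : T (fun a b c => u a b (c + φ a)) = T u := congrArg Subgroup.closure (Set.ext fun x =>
    ⟨fun ⟨a, b, c, r⟩ => ⟨_, _, _, r⟩, fun ⟨a, b, c, r⟩ => ⟨a, b, _, (k a b c).trans r⟩⟩)
  refine ⟨⟨h.c4, fun a b c a' b' c' => by rw [h.mul, map_add]; congr 1; ring, fun a b c r => ?_, t ▸ h.odd⟩, t,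
    congrArg Subgroup.closure (Set.ext fun x => ⟨fun ⟨a, c, r⟩ => ⟨_, _, r⟩, fun ⟨a, c, r⟩ => ⟨a, _, (k a 0 c).trans r⟩⟩),
    by simp only [E', map_zero, add_zero], by simp only [Z, map_zero, add_zero]⟩
  obtain ⟨rfl, x, y⟩ := h.inj _ _ _ r
  exact ⟨rfl, x, by simpa using y⟩

/-- the symmetry exchanging `E` and `E'` -/
theorem sw : Hs (fun a b c => u b a (c + a * b)) ∧ T (fun a b c => u b a (c + a * b)) = T u ∧
    E (fun a b c => u b a (c + a * b)) = E' u ∧ E' (fun a b c => u b a (c + a * b)) = E u ∧ Z (fun a b c => u b a (c + a * b)) = Z u := by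
  have t : T (fun a b c => u b a (c + a * b)) = T u := congrArg Subgroup.closure (Set.ext fun x =>
    ⟨fun ⟨a, b, c, r⟩ => ⟨_, _, _, r⟩, fun ⟨a, b, c, r⟩ => ⟨b, a, c + b * a, by rw [← r]; exact congrArg _ (by rw [add_assoc, h.aa, add_zero])⟩⟩)
  refine ⟨⟨h.c4, fun a b c a' b' c' => by rw [h.mul, h.eq]; exact ⟨rfl, rfl, by linear_combination -h.aa (a * b')⟩, fun a b c r => ?_,
    t ▸ h.odd⟩, t, by simp only [E, E', mul_zero, add_zero], by simp only [E, E', zero_mul, add_zero], by simp only [Z, mul_zero, add_zero]⟩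
  obtain ⟨rfl, rfl, y⟩ := h.inj _ _ _ r
  exact ⟨rfl, rfl, by simpa using y⟩

end Hs

end H07.L4
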