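import Cfsg.Agent.H07.L0

/-! Sylow type `L₃(4)`: weak closure and the action on `E`. -/

set_option autoImplicit false

namespace H07.L4
open Subgroup Cfsg H26

universe u v

variable {F : Type v} [Field F] [Fintype F] {G : Type u} [Group G]

instance f2 : Fact (Nat.Prime 2) := ⟨Nat.prime_two⟩

/-- stabiliser of a step -/
def St (A B : Subgroup G) : Subgroup G where
  carrier := {x | x ∈ normalizer (B : Set G) ∧ ∀ a ∈ A, a⁻¹ * (x * a * x⁻¹) ∈ B}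
  one_mem' := ⟨one_mem _, fun a _ => by simp [one_mem]⟩
  mul_mem' {x y} r s := ⟨mul_mem r.1 s.1, fun a ha => by
    simpa [mul_assoc] using mul_mem (r.2 a ha) ((mem_normalizer_iff.1 r.1 _).1 (s.2 a ha))⟩
  inv_mem' {x} r := ⟨inv_mem r.1, fun a ha => by
    simpa [mul_assoc] using (mem_normalizer_iff.1 (inv_mem r.1) _).1 (inv_mem (r.2 a ha))⟩

theorem St.sq {A B C : Subgroup G} {x : G} (s : ∀ b ∈ B, b * b = 1) (r : x ∈ St A B) (r' : x ∈ St B C) : x ^ 2 ∈ St A C :=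
  ⟨pow_mem r'.1 2, fun a ha => by
    have := r'.2 _ (r.2 a ha)
    rw [inv_eq_of_mul_eq_one_right (s _ (r.2 a ha))] at this
    simpa [pow_two, mul_assoc] using this⟩

theorem St.bot {A : Subgroup G} {x : G} : x ∈ St A ⊥ ↔ ∀ a ∈ A, x * a * x⁻¹ = a :=
  ⟨fun r a ha => (inv_mul_eq_one.1 (mem_bot.1 (r.2 a ha))).symm,
    fun r => ⟨by rw [normalizer_eq_top]; trivial, fun a ha => by rw [r a ha, inv_mul_cancel]; exact one_mem _⟩⟩

variable [Finite G]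

theorem St.le {A B : Subgroup G} (l : B ≤ A) : St A B ≤ normalizer (A : Set G) := fun x r =>
  mem_normalizer_of_cj_le (cj_le_iff.2 fun a ha => by simpa using mul_mem ha (l (r.2 a ha)))

theorem odd_two (g : G) : ∃ m k, Odd m ∧ (g ^ m) ^ 2 ^ k = 1 := by
  obtain ⟨k, m, hm, e⟩ := Nat.exists_eq_two_pow_mul_odd (orderOf_pos g).ne'
  exact ⟨m, k, hm, by rw [← pow_mul, mul_comm, ← e, pow_orderOf_eq_one]⟩

namespace Hs
variable {u : F → F → F → G} (h : Hs u)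
include h

omit [Finite G] in
theorem el {A : Subgroup G} (l : A ≤ T u) (s : ∀ x ∈ A, x * x = 1) : A ≤ E u ∨ A ≤ E' u := by
  by_contra! n
  obtain ⟨x, x1, x2⟩ := SetLike.not_le_iff_exists.1 n.1
  obtain ⟨y, y1, y2⟩ := SetLike.not_le_iff_exists.1 n.2
  refine y2 (h.ZE' (h.cen (l x1) x2 ((h.invol (l y1) (s y y1)).resolve_right y2) ?_))
  rw [← inv_eq_of_mul_eq_one_right (s _ (mul_mem x1 y1)), mul_inv_rev, inv_eq_of_mul_eq_one_right (s _ x1), inv_eq_of_mul_eq_one_right (s _ y1)]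

omit [Finite G] in
theorem cardE' : Nat.card (E' u) = 16 := h.sw.2.2.1 ▸ h.sw.1.cardE

omit [Finite G] in
theorem EE' : E u ≠ E' u := fun r => one_ne_zero (h.mE'.1 (r ▸ h.mE.2 rfl : u 1 0 0 ∈ E' u))

theorem TE : T u ≤ normalizer (E u : Set G) := fun _ r => mem_normalizer_of_cj_le (cj_le_iff.2 fun _ s => h.nE r s)
theorem TE' : T u ≤ normalizer (E' u : Set G) := h.sw.2.1 ▸ h.sw.2.2.1 ▸ h.sw.1.TE
theorem TZ : T u ≤ normalizer (Z u : Set G) := h.inf ▸ le_normalizer_inf h.TE h.TE'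

theorem two' {A : Subgroup G} (l : A ≤ T u) (s : ∀ x ∈ A, x * x = 1) (c : Nat.card A = 16) : A = E u ∨ A = E' u :=
  (h.el l s).imp (fun r => eq_of_le_of_card_ge r (by rw [c, h.cardE])) fun r => eq_of_le_of_card_ge r (by rw [c, h.cardE'])

theorem twoE {g : G} (l : cj(g, E u) ≤ T u) : cj(g, E u) = E u ∨ cj(g, E u) = E' u :=
  h.two' l (fun x r => by simpa [mul_assoc, mul_eq_one_iff_eq_inv, eq_comm] using h.E2 (mem_cj.1 r)) (by rw [card_cj, h.cardE])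

theorem nE' (g : G) : cj(g, E u) ≠ E' u := fun r => by
  have s := h.syl.mono h.TE' le_top
  obtain ⟨c, c1, c2⟩ := ((h.syl.mono h.TE le_top).cj g).exists_cj_eq (by rw [cj_normalizer, r]; exact s)
  rw [cj_normalizer, r] at c1
  rw [cj_cj] at c2
  have e1 : cj(c * g, E u) = E' u := by rw [← cj_cj, r, cj_eq_of_mem_normalizer c1]
  generalize c * g = n at c2 e1
  have e2 : cj(n, E' u) = E u := by
    have := h.sw.1.twoE (g := n) (by rw [h.sw.2.1, h.sw.2.2.1]; exact (cj_mono n h.E'T).trans c2.le)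
    rw [h.sw.2.2.1, h.sw.2.2.2.1] at this
    exact this.resolve_left fun k => h.EE' (cj_inj.1 (e1.trans k.symm))
  obtain ⟨_, k, ⟨m, rfl⟩, hm⟩ := odd_two n
  have t := h.TE (h.syl.le_of_le_normalizer' (isPGroup_zpowers ⟨k, hm⟩) le_top (zpowers_le.2 (pow_mem (cj_eq_iff.1 c2) _)) (mem_zpowers _))
  rw [pow_succ, pow_mul, mul_mem_cancel_left (pow_mem (cj_eq_iff.1 (by rw [pow_two, ← cj_cj, e1, e2])) m)] at t
  exact h.EE' ((cj_eq_iff.2 t).symm.trans e1)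

/-- weak closure -/
theorem wc {g : G} (l : cj(g, E u) ≤ T u) : g ∈ normalizer (E u : Set G) := cj_eq_iff.1 ((h.twoE l).resolve_right (h.nE' g))
theorem wc' {g : G} (l : cj(g, E' u) ≤ T u) : g ∈ normalizer (E' u : Set G) := by
  have := h.sw.1.wc (g := g); rw [h.sw.2.1, h.sw.2.2.1] at this; exact this l
theorem NTE : normalizer (T u : Set G) ≤ normalizer (E u : Set G) := fun g r => h.wc ((cj_mono g h.ET).trans (cj_eq_iff.2 r).le)
theorem NTE' : normalizer (T u : Set G) ≤ normalizer (E' u : Set G) := fun g r => h.wc' ((cj_mono g h.E'T).trans (cj_eq_iff.2 r).le)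

theorem into {X : Subgroup G} (l : X ≤ normalizer (E u : Set G)) (p : ∀ x ∈ X, ∃ k, x ^ 2 ^ k ∈ St (E u) ⊥) :
    ∃ g ∈ normalizer (E u : Set G), (T u ≤ X → g = 1) ∧ ∀ x ∈ X, ∃ t ∈ T u, ∀ e ∈ E u, g * x * g⁻¹ * e * (g * x * g⁻¹)⁻¹ = t * e * t⁻¹ := by
  let ρ := (E u).normalizerMonoidHom
  have s := ((h.syl.mono h.TE le_top).subgroupOf le_rfl).map ρ
  have q : IsPGroup 2 ((X.subgroupOf _).map ρ) := isPGroup_iff_mem.2 (by
    rintro _ ⟨x, hx, rfl⟩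
    obtain ⟨k, r⟩ := p x hx
    exact ⟨k, by rw [← map_pow]; ext e; exact St.bot.1 r e e.2⟩)
  have f : ∀ g : normalizer (E u : Set G), cj(ρ g, (X.subgroupOf _).map ρ) ≤ ((T u).subgroupOf _).map ρ →
      ∀ x ∈ X, ∃ t ∈ T u, ∀ e ∈ E u, g * x * (g : G)⁻¹ * e * (g * x * (g : G)⁻¹)⁻¹ = t * e * t⁻¹ := fun g r x hx => by
    obtain ⟨t, t1, t2⟩ := cj_le_iff.1 r _ ⟨⟨x, l hx⟩, hx, rfl⟩
    rw [← map_inv, ← map_mul, ← map_mul] at t2
    exact ⟨t, t1, fun e he => (congrArg (fun φ : MulAut (E u) => (φ ⟨e, he⟩ : G)) t2).symm⟩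
  have o : (X.subgroupOf _).map ρ ≤ ((normalizer (E u : Set G)).subgroupOf _).map ρ := map_mono (by rw [subgroupOf_self]; exact le_top)
  by_cases c : T u ≤ X
  · exact ⟨1, one_mem _, fun _ => rfl, f 1 (by
      rw [map_one, cj_one]; exact (s.3 _ q (map_mono fun x hx => c hx) o).le)⟩
  · obtain ⟨_, ⟨g, -, rfl⟩, r⟩ := s.exists_cj_le q o
    exact ⟨g, g.2, fun k => (c k).elim, f g r⟩

theorem TSt : T u ≤ St (E u) (Z u) ⊓ St (Z u) ⊥ := fun t r => ⟨⟨h.TZ r, fun e s => by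
    obtain ⟨a, b, c, rfl⟩ := h.memT.1 r; obtain ⟨a', c', rfl⟩ := h.memE.1 s
    rw [h.cj, h.inv, h.mul, h.mZ]; exact ⟨h.aa _, add_zero _⟩⟩,
  St.bot.2 fun z s => by rw [h.Zc s r, mul_inv_cancel_right]⟩

/-- an element acting trivially on `E/Z` and `Z` acts as an element of `T` -/
theorem act {x : G} (r : x ∈ St (E u) (Z u)) (s : x ∈ St (Z u) ⊥) : ∃ t ∈ T u, ∀ e ∈ E u, x * e * x⁻¹ = t * e * t⁻¹ := by
  obtain ⟨g, -, g1, g2⟩ := h.into (X := St (E u) (Z u) ⊓ St (Z u) ⊥) (inf_le_left.trans (St.le h.ZE))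
    fun x k => ⟨1, St.sq (fun b hb => h.E2 (h.ZE hb)) k.1 k.2⟩
  simpa [g1 h.TSt] using g2 x ⟨r, s⟩

/-- `N(E) ∩ N(Z)` normalises `T` modulo `C(E)` -/
theorem nT {n t : G} (r : n ∈ normalizer (E u : Set G)) (s : n ∈ normalizer (Z u : Set G)) (ht : t ∈ T u) :
    ∃ t' ∈ T u, ∀ e ∈ E u, n * t * n⁻¹ * e * (n * t * n⁻¹)⁻¹ = t' * e * t'⁻¹ :=
  h.act ⟨mul_mem (mul_mem s (h.TZ ht)) (inv_mem s), fun e he => by
    simpa [mul_assoc] using (mem_normalizer_iff.1 s _).1 ((h.TSt ht).1.2 _ ((mem_normalizer_iff.1 (inv_mem r) _).1 he))⟩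
    (St.bot.2 fun z hz => by
      have := St.bot.1 (h.TSt ht).2 _ ((mem_normalizer_iff.1 (inv_mem s) _).1 hz)
      calc _ = n * (t * (n⁻¹ * z * n⁻¹⁻¹) * t⁻¹) * n⁻¹ := by group
        _ = z := by rw [this]; group)

theorem nT' (c : centralizer (E u : Set G) ≤ E u) {n : G} (r : n ∈ normalizer (E u : Set G)) (s : n ∈ normalizer (Z u : Set G)) :
    n ∈ normalizer (T u : Set G) := mem_normalizer_of_cj_le (cj_le_iff.2 fun t ht => by
  obtain ⟨t', t1, t2⟩ := h.nT r s ht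
  have := h.ET (c (show t'⁻¹ * (n * t * n⁻¹) ∈ _ from fun e he => by
    rw [mul_assoc t'⁻¹ _ e, mul_inv_eq_iff_eq_mul.1 (t2 e he)]; group))
  rwa [mul_mem_cancel_left (inv_mem t1)] at this)

omit [Finite G] in
theorem cjZ {e z : G} (he : e ∈ E u) (n : e ∉ Z u) (hz : z ∈ Z u) : ∃ t ∈ T u, (z ≠ 1 → t ∉ E u) ∧ t * e * t⁻¹ = e * z := by
  obtain ⟨a, c, rfl⟩ := h.memE.1 he
  obtain ⟨d, rfl⟩ := h.memZ.1 hz
  have a0 : a ≠ 0 := fun r => n (h.mZ.2 ⟨r, rfl⟩)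
  refine ⟨u 0 (d / a) 0, h.mT _ _ _, fun k r => k (by rw [(div_eq_zero_iff.1 (h.mE.1 r)).resolve_right a0, h.one]), ?_⟩
  rw [h.cj, h.mul, h.eq]
  exact ⟨by simp, by simp, by field_simp; simp⟩

omit [Finite G] in
theorem four {w z y : G} (hw : w ∈ Z u) (hz : z ∈ Z u) (w1 : w ≠ 1) (z1 : z ≠ 1) (n : w ≠ z) (hy : y ∈ Z u) :
    y = 1 ∨ y = w ∨ y = z ∨ y = w * z := by
  classical
  obtain ⟨d, rfl⟩ := h.memZ.1 hw
  obtain ⟨d', rfl⟩ := h.memZ.1 hz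
  obtain ⟨c, rfl⟩ := h.memZ.1 hy
  simp only [ne_eq, h.mul, h.eq, h.eq1, true_and, add_zero, mul_zero] at *
  have k : d + d' ≠ 0 := fun r => n (by linear_combination r - h.aa d')
  have := Finset.eq_univ_of_card ({0, d, d', d + d'} : Finset F) (by
    rw [h.c4, Finset.card_insert_of_notMem, Finset.card_insert_of_notMem, Finset.card_pair] <;> simp [*, eq_comm])
  simpa using this.ge (Finset.mem_univ c)

omit h in
theorem half {A B D : Subgroup G} {t : G} (c : ∀ x ∈ D, ∀ y ∈ D, x * y = y * x) (a : A ≤ D) (b : B ≤ D) (r : t ∈ St D A) (s : t ∈ St A ⊥)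
    (k : ∀ y ∈ B, y⁻¹ * (t * y * t⁻¹) ∈ A ⊓ B) : t ∈ St D (A ⊔ B) ⊓ St (A ⊔ B) (A ⊓ B) ⊓ St (A ⊓ B) ⊥ := by
  have s' : t ∈ St (A ⊓ B) ⊥ := St.bot.2 fun x hx => St.bot.1 s x hx.1
  refine ⟨⟨⟨St.le le_sup_left ⟨r.1, fun x hx => r.2 x (sup_le a b hx)⟩, fun x hx => le_sup_left (a := A) (r.2 x hx)⟩,
    St.le bot_le s', fun x hx => ?_⟩, s'⟩
  obtain ⟨x, x1, y, y1, rfl⟩ := (mem_sup_of_le_normalizer fun x hx => centralizer_le_normalizer _ fun y hy => c y (b hy) x (a hx)).1 hx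
  rw [← conj_mul, St.bot.1 s x x1]
  simpa [mul_assoc] using k y y1

theorem ti {n w : G} (r : n ∈ normalizer (E u : Set G)) (w1 : w ≠ 1) (w2 : w ∈ Z u) (w3 : w ∈ cj(n, Z u)) : n ∈ normalizer (Z u : Set G) := by
  by_contra c
  have l : cj(n, Z u) ≤ E u := cj_le_of_le_of_mem_normalizer h.ZE r
  obtain ⟨y, y1, y2⟩ := SetLike.not_le_iff_exists.1 fun k => c (mem_normalizer_of_cj_le k)
  obtain ⟨z, z1, z2⟩ := SetLike.not_le_iff_exists.1 fun k : Z u ≤ cj(n, Z u) => c (cj_eq_iff.1 (eq_of_le_of_card_ge k (card_cj _ _).le).symm)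
  obtain ⟨t, t1, t2, t3⟩ := h.cjZ (l y1) y2 w2
  obtain ⟨v, v1, v2, v3⟩ := h.cjZ ((mem_normalizer_iff''.1 r z).1 (h.ZE z1)) (fun k => z2 (mem_cj.2 k)) (mem_cj.1 w3)
  have v4 : n * v * n⁻¹ * z * (n * v * n⁻¹)⁻¹ = z * w := by
    calc _ = n * (v * (n⁻¹ * z * n) * v⁻¹) * n⁻¹ := by group
      _ = _ := by rw [v3]; group
  have vs : n * v * n⁻¹ ∈ St cj(n, Z u) ⊥ := St.bot.2 fun x hx => by
    calc _ = n * (v * (n⁻¹ * x * n) * v⁻¹) * n⁻¹ := by group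
      _ = _ := by rw [St.bot.1 (h.TSt v1).2 _ (mem_cj.1 hx)]; group
  have k : ∀ {t x y : G} {A : Subgroup G}, w ∈ A → t * w * t⁻¹ = w → t * y * t⁻¹ = y * w → (x = 1 ∨ x = w ∨ x = y ∨ x = w * y) →
      x⁻¹ * (t * x * t⁻¹) ∈ A := by
    rintro t x y A a b c (rfl | rfl | rfl | rfl)
    exacts [by simp [one_mem], by simp [b, one_mem], by simp [c, a], by rw [← conj_mul, b, c]; simpa [mul_assoc]]
  have m1 := half (fun _ a _ => h.Ec a) h.ZE l (h.TSt t1).1 (h.TSt t1).2 fun x hx => k ⟨w2, w3⟩ (St.bot.1 (h.TSt t1).2 w w2) t3 (by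
    have q : ∀ {x : G}, n⁻¹ * x * n = 1 ↔ x = 1 := fun {x} => by simpa using conj_eq_one_iff (a := n⁻¹) (b := x)
    have := h.four (mem_cj.1 w3) (mem_cj.1 y1) (fun k => w1 (q.1 k)) (fun k => y2 (q.1 k ▸ one_mem _))
      (fun k => y2 (by rw [← show w = y by simpa using k]; exact w2)) (mem_cj.1 hx)
    rw [q, show n⁻¹ * w * n * (n⁻¹ * y * n) = n⁻¹ * (w * y) * n by group] at this
    simpa using this)
  have m2 := half (fun _ a _ => h.Ec a) l h.ZE ⟨St.le bot_le vs, fun e he => mem_cj.2 (by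
      simpa [mul_assoc] using (h.TSt v1).1.2 _ ((mem_normalizer_iff''.1 r e).1 he))⟩ vs
    fun x hx => k ⟨w3, w2⟩ (St.bot.1 vs w w3) v4 (h.four w2 z1 w1 (fun k => z2 (k ▸ one_mem _)) (fun k => z2 (k ▸ w3)) hx)
  rw [sup_comm, inf_comm (a := cj(n, Z u))] at m2
  have e2 : ∀ {A : Subgroup G}, A ≤ E u → ∀ b ∈ A, b * b = 1 := fun l b k => h.E2 (l k)
  obtain ⟨g, g1, -, g2⟩ := h.into (X := St (E u) (Z u ⊔ cj(n, Z u)) ⊓ St (Z u ⊔ cj(n, Z u)) (Z u ⊓ cj(n, Z u)) ⊓ St (Z u ⊓ cj(n, Z u)) ⊥)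
    ((inf_le_left.trans inf_le_left).trans (St.le (sup_le h.ZE l))) fun x k => ⟨2, by
    rw [show 2 ^ 2 = 2 * 2 from rfl, pow_mul]
    exact St.sq (e2 (inf_le_left.trans h.ZE)) (St.sq (e2 (sup_le h.ZE l)) k.1.1 k.1.2) (pow_mem k.2 2)⟩
  have f : ∀ {x y : G} {A : Subgroup G}, A ≤ E u → y ∈ E u → x ∈ St A ⊥ → x * y * x⁻¹ = y * w →
      (∃ t ∈ T u, ∀ e ∈ E u, g * x * g⁻¹ * e * (g * x * g⁻¹)⁻¹ = t * e * t⁻¹) → cj(g, A) ≤ Z u := by
    rintro x y A a b c d ⟨t, t1, t2⟩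
    have q : ∀ e ∈ E u, t * (g * e * g⁻¹) * t⁻¹ = g * (x * e * x⁻¹) * g⁻¹ := fun e he => by
      rw [← t2 _ ((mem_normalizer_iff.1 g1 e).1 he)]; group
    refine cj_le_iff.2 fun e he => h.cen t1 (fun k => w1 ?_) ((mem_normalizer_iff.1 g1 e).1 (a he))
      (mul_inv_eq_iff_eq_mul.1 (by rw [q e (a he), St.bot.1 c e he]))
    simpa [d, h.Ec k ((mem_normalizer_iff.1 g1 y).1 b)] using q y b
  have f1 := f h.ZE (l y1) (h.TSt t1).2 t3 (g2 t m1)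
  exact y2 ((cj_le_cj_iff.1 ((f l (h.ZE z1) vs v4 (g2 _ m2)).trans (cj_eq_iff.2 (mem_normalizer_of_cj_le f1)).ge)) y1)

theorem tr (n : ¬ normalizer (E u : Set G) ≤ normalizer (Z u : Set G)) {e z : G} (he : e ∈ E u) (e1 : e ≠ 1) (hz : z ∈ Z u) (z1 : z ≠ 1) :
    ∃ m ∈ normalizer (E u : Set G), m * z * m⁻¹ = e := by
  obtain ⟨n, n1, n2⟩ := SetLike.not_le_iff_exists.1 n
  let R : G → G → Prop := fun x y => ∃ m ∈ normalizer (E u : Set G), m * x * m⁻¹ = y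
  have sy : ∀ {x y}, R x y → R y x := fun ⟨m, a, b⟩ => ⟨m⁻¹, inv_mem a, by rw [← b]; group⟩
  have tn : ∀ {x y z}, R x y → R y z → R x z := fun ⟨m, a, b⟩ ⟨m', a', b'⟩ => ⟨m' * m, mul_mem a' a, by rw [← b', ← b]; group⟩
  have l : cj(n, Z u) ≤ E u := cj_le_of_le_of_mem_normalizer h.ZE n1
  have a1 : ∀ {e z}, e ∈ E u → e ∉ Z u → z ∈ Z u → R e (e * z) := fun a b c => by
    obtain ⟨t, t1, -, t2⟩ := h.cjZ a b c; exact ⟨t, h.TE t1, t2⟩
  have a2 : ∀ {z y}, z ∈ Z u → z ≠ 1 → y ∈ cj(n, Z u) → y ≠ 1 → R z y := fun {z y} a b c d => by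
    obtain ⟨t, t1, t2⟩ := a1 ((mem_normalizer_iff''.1 n1 z).1 (h.ZE a)) (fun k => n2 (h.ti n1 b a (mem_cj.2 k))) (mem_cj.1 c)
    refine tn ⟨n * t * n⁻¹, mul_mem (mul_mem n1 t1) (inv_mem n1), ?_⟩ (sy (a1 (l c) (fun k => n2 (h.ti n1 d k c)) a))
    calc _ = n * (t * (n⁻¹ * z * n) * t⁻¹) * n⁻¹ := by group
      _ = _ := by rw [t2, h.Ec (l c) (h.ZE a)]; group
  by_cases c : e ∈ Z u
  · have k : n * z * n⁻¹ ≠ 1 := fun k => z1 (conj_eq_one_iff.1 k)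
    exact tn (a2 hz z1 (conj_mem_cj hz) k) (sy (a2 c e1 (conj_mem_cj hz) k))
  choose A C hA using fun c : F => h.memE.1 (l (conj_mem_cj (g := n) (h.memZ.2 ⟨c, rfl⟩)))
  obtain ⟨a, d, rfl⟩ := h.memE.1 he
  obtain ⟨x, rfl⟩ := (Finite.injective_iff_surjective (f := A)).1 (fun x y r => by
    by_contra k
    refine n2 (h.ti (w := u (A x) 0 (C x) * u (A y) 0 (C y)) n1 ?_ (by rw [h.mul, h.mZ, r]; exact ⟨h.aa _, add_zero _⟩)
      (by rw [hA, hA]; exact mul_mem (conj_mem_cj (h.memZ.2 ⟨x, rfl⟩)) (conj_mem_cj (h.memZ.2 ⟨y, rfl⟩))))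
    rw [hA, hA, conj_mul, Ne, conj_eq_one_iff, h.mul, h.eq1]
    exact fun q => k (by linear_combination q.2.2 - h.aa y)) a
  have y1 : u (A x) 0 (C x) ∈ cj(n, Z u) := hA x ▸ conj_mem_cj (h.memZ.2 ⟨x, rfl⟩)
  have y2 : u (A x) 0 (C x) ∉ Z u := fun k => c (h.mZ.2 (h.mZ.1 k))
  refine tn (a2 hz z1 y1 fun k => y2 (k ▸ one_mem _)) ?_
  have := a1 (l y1) y2 (h.memZ.2 ⟨C x + d, rfl⟩)
  rwa [h.mul, add_zero, add_zero, mul_zero, add_zero, ← add_assoc, h.aa, zero_add] at this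

end Hs

end H07.L4
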