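import Cfsg.Agent.H07.L1
import Cfsg.Agent.S1279
import Cfsg.Agent.S0217
import Cfsg.Agent.S1221
import Cfsg.Agent.S0223
import Cfsg.Agent.S0205
import Cfsg.Agent.H22.SigW
import Cfsg.Agent.H08.ZStarCore
import Cfsg.Agent.L.DC5

/-! Sylow type `L₃(4)`: reduction to the case of 2-closed centralisers. -/

set_option autoImplicit false

namespace H07.L4
open Subgroup Cfsg H26 L.DC

universe u v

variable {F : Type v} [Field F] [Fintype F] {G : Type u} [Group G]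

local notation "θ" => centralizerPPrimeCore 2
local notation "N[" A "]" => normalizer (SetLike.coe A)

section
variable {G' : Type*} [Group G'] (f : G →* G') (u : F → F → F → G)
omit [Fintype F]

theorem T_map : T (fun a b c => f (u a b c)) = (T u).map f := by
  rw [T, T, MonoidHom.map_closure]
  exact congrArg _ (Set.ext fun x => ⟨fun ⟨a, b, c, r⟩ => ⟨_, ⟨a, b, c, rfl⟩, r⟩, fun ⟨_, ⟨a, b, c, r⟩, s⟩ => ⟨a, b, c, r ▸ s⟩⟩)

end

variable [Finite G]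

theorem odd_card {K : Subgroup G} (r : ∀ x ∈ K, x * x = 1 → x = 1) : Odd (Nat.card K) := Nat.not_even_iff_odd.1 fun k => by
  obtain ⟨x, x1, x2⟩ := exists_mem_orderOf_eq (even_iff_two_dvd.1 k)
  simp [r x x1 (H08.mul_self_of_orderOf x2)] at x2

theorem cz0 (o : oddCore G = ⊥) (n : Odd (center G).index) (g : G) : ∃ k, g ^ 2 ^ k = 1 := by
  obtain ⟨k, m, hm, e⟩ := Nat.exists_eq_two_pow_mul_odd (Nat.card_pos (α := G)).ne'
  let ψ : G →* G := MonoidHom.mk' (fun x => x ^ ((center G).index * m)) fun x y => by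
    have := congrArg Subtype.val ((MonoidHom.transferCenterPow G).map_mul x y)
    simp only [coe_mul, MonoidHom.transferCenterPow_apply] at this
    rw [pow_mul, this, Commute.mul_pow (mem_center_iff.1 ((center G).pow_index_mem y) _), pow_mul, pow_mul]
  have q : ∀ x, x ∈ ψ.ker ↔ x ^ ((center G).index * m) = 1 := fun x => Iff.rfl
  refine ⟨k, mem_bot.1 (o ▸ H08.le_oddCore (N := ψ.ker) (odd_card fun x r s => ?_) ((q _).2 ?_))⟩
  · simpa using odd_part (k := 1) (m := 1) (n.mul hm) ((q x).1 r) (by simpa [pow_two] using s)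
  · rw [← pow_mul, mul_left_comm, ← e, mul_comm, pow_mul, pow_card_eq_one', one_pow]

theorem th_cj (g x : G) : θ (g * x * g⁻¹) = cj(g, θ x) := H22.cpc_cj Nat.prime_two g x

namespace Hs
variable {u : F → F → F → G} (h : Hs u)
include h

omit [Finite G] in
theorem sub {H : Subgroup G} (l : T u ≤ H) : Hs (fun a b c => (⟨u a b c, l (h.mT a b c)⟩ : H)) ∧
    T (fun a b c => (⟨u a b c, l (h.mT a b c)⟩ : H)) = (T u).subgroupOf H := by
  have k : T (fun a b c => (⟨u a b c, l (h.mT a b c)⟩ : H)) = (T u).subgroupOf H :=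
    (map_subtype_subgroupOf _).symm.trans (congrArg (subgroupOf · H) (T_map H.subtype _).symm)
  exact ⟨⟨h.c4, fun _ _ _ _ _ _ => Subtype.ext (h.mul ..), fun _ _ _ r => h.inj _ _ _ (congrArg Subtype.val r),
    fun r => h.odd (r.trans (k ▸ relIndex_dvd_index_of_le l))⟩, k⟩

theorem quo : Hs (fun a b c => QuotientGroup.mk' (oddCore G) (u a b c)) :=
  ⟨h.c4, fun _ _ _ _ _ _ => by rw [← map_mul, h.mul], fun a b c r => h.inj _ _ _ (by
    obtain ⟨k, s⟩ := isPGroup_iff_mem.1 h.pT _ (h.mT a b c)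
    simpa using odd_part (k := k) (m := 1) (H08.odd_card_oddCore G)
      (congrArg Subtype.val (pow_card_eq_one' (x := (⟨_, (QuotientGroup.eq_one_iff _).1 r⟩ : oddCore G)))) (by simpa using s)),
    fun r => h.odd (r.trans (T_map (QuotientGroup.mk' (oddCore G)) u ▸ index_map_dvd _ (QuotientGroup.mk'_surjective _)))⟩

omit [Finite G] in
theorem exZ : ∃ z ∈ Z u, z ≠ 1 := ⟨u 0 0 1, h.mZ.2 ⟨rfl, rfl⟩, fun r => one_ne_zero (h.eq1.1 r).2.2⟩

theorem mem2 {x : G} (r : x ∈ N[T u]) (s : ∃ k, x ^ 2 ^ k = 1) : x ∈ T u :=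
  h.syl.le_of_le_normalizer' (isPGroup_zpowers s) le_top (zpowers_le.2 r) (mem_zpowers x)

theorem cenE (o : H02.pPrimeCoreOf 2 (centralizer (E u : Set G)) = ⊥) : centralizer (E u : Set G) ≤ E u := fun x hx => by
  have s := (h.syl.mono h.TE le_top).inf_of_le (H26.centralizer_le_normalizer _) (normalizer_le_normalizer_centralizer _)
  have l : T u ⊓ centralizer (E u : Set G) ≤ E u := fun t ht => by
    by_contra k
    exact one_ne_zero (h.mZ.1 (h.cen ht.1 k (h.mE.2 rfl : u 1 0 0 ∈ E u) (ht.2 _ (h.mE.2 rfl)).symm)).1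
  obtain ⟨k, r⟩ := cz0 (H02.pPrimeCoreOf_eq_bot_iff.1 o) (Nat.not_even_iff_odd.1 fun r => s.not_dvd ((even_iff_two_dvd.1 r).trans
    (index_dvd_of_le fun t ht => mem_center_iff.2 fun y => Subtype.ext (y.2 _ (l ht)).symm))) ⟨x, hx⟩
  exact l (s.le_of_le_normalizer' (isPGroup_zpowers ⟨k, congrArg Subtype.val r⟩) (zpowers_le.2 hx)
    (zpowers_le.2 (H26.centralizer_le_normalizer _ fun y hy => hx y (l hy))) (mem_zpowers x))

theorem cenE' (o : oddCore G = ⊥) (n : (E u).Normal) : centralizer (E u : Set G) ≤ E u :=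
  h.cenE (le_bot_iff.1 (o ▸ H02.pPrimeCoreOf_le_pPrimeCore _))

theorem deg (D : DStmt.{u, v}) (L : LStmt.{u, v}) (o : oddCore G = ⊥) (n : N[E' u] ≤ N[Z u]) : ∃ f : G →* PG F, Function.Injective f :=
  L G F u h (D G F u h o n) (h.cenE' o (D G F u h o n))

theorem loc (D : DStmt.{u, v}) (o : oddCore G = ⊥) {z : G} (hz : z ∈ Z u) (z1 : z ≠ 1) (c : ∀ g, g * z = z * g) : (T u).Normal := by
  have k : ∀ {u : F → F → F → G}, Hs u → z ∈ Z u → N[E u] ≤ N[Z u] := fun h hz n r => h.ti r z1 hz (mem_cj.2 (by rwa [c n⁻¹, inv_mul_cancel_right]))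
  have n : (E u).Normal := D G F u h o (by have := k h.sw.1 (h.sw.2.2.2.2.symm ▸ hz); rwa [h.sw.2.2.1, h.sw.2.2.2.2] at this)
  exact normal_of_top_le fun g _ => h.nT' (h.cenE' o n) (le_normalizer_of_normal (mem_top g)) (k h hz (le_normalizer_of_normal (mem_top g)))

theorem loc' (D : DStmt.{u, v}) {z : G} (hz : z ∈ Z u) (z1 : z ≠ 1) (c : ∀ g, g * z = z * g) :
    Group.IsSolvable G ∧ ∀ g, ∃ o ∈ oddCore G, o * g ∈ N[T u] := by
  obtain ⟨d, rfl⟩ := h.memZ.1 hz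
  have n := h.quo.loc D (H02.pPrimeCore_quotient_pPrimeCore 2 _) (h.quo.memZ.2 ⟨d, rfl⟩) (fun r => z1 (h.eq1.2 (h.quo.eq1.1 r)))
    fun g => by obtain ⟨g, rfl⟩ := QuotientGroup.mk'_surjective _ g; rw [← map_mul, c, map_mul]
  constructor
  · have : Group.IsSolvable (oddCore G) := Cfsg.Agent.S0205.result (H08.odd_card_oddCore _)
    have := h.quo.pT.isNilpotent
    have : Group.IsSolvable (_ ⧸ T fun a b c => QuotientGroup.mk' (oddCore G) (u a b c)) :=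
      Cfsg.Agent.S0205.result (Nat.not_even_iff_odd.1 fun r => h.quo.odd (even_iff_two_dvd.1 r))
    have := Group.isSolvable_of_ker_le_range (T fun a b c => QuotientGroup.mk' (oddCore G) (u a b c)).subtype (QuotientGroup.mk' (T fun a b c => QuotientGroup.mk' (oddCore G) (u a b c)))
      (by rw [QuotientGroup.ker_mk', range_subtype])
    exact Group.isSolvable_of_ker_le_range (oddCore _).subtype (QuotientGroup.mk' (oddCore _)) (by simp)
  · intro g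
    rw [T_map] at n
    have := n.comap (QuotientGroup.mk' (oddCore G))
    rw [comap_map_eq, QuotientGroup.ker_mk'] at this
    obtain ⟨x, x1, y, y1, r⟩ := (h.syl.mono (K := T u ⊔ oddCore G) le_sup_left le_top).frattini le_normalizer_of_normal (mem_top g)
    obtain ⟨t, t1, o, o1, rfl⟩ := (mem_sup_of_le_normalizer le_normalizer_of_normal).1 x1
    refine ⟨t * o⁻¹ * t⁻¹, Normal.conj_mem inferInstance _ (inv_mem o1) t, ?_⟩
    simpa [r, mul_assoc] using mul_mem (le_normalizer t1) y1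

omit [Finite G] in
theorem TC {z : G} (hz : z ∈ Z u) : T u ≤ centralizer {z} := fun _ r => mem_centralizer_singleton_iff.2 (h.Zc hz r)

theorem cen1 (D : DStmt.{u, v}) {z : G} (hz : z ∈ Z u) (z1 : z ≠ 1) :
    Group.IsSolvable (centralizer {z}) ∧ ∀ g, g * z = z * g → ∃ o ∈ θ z, o * g ∈ N[T u] := by
  obtain ⟨k, k1⟩ := h.sub (h.TC hz)
  obtain ⟨d, rfl⟩ := h.memZ.1 hz
  obtain ⟨a, b⟩ := k.loc' D (k.memZ.2 ⟨d, rfl⟩) (fun r => z1 (congrArg Subtype.val r)) fun g => Subtype.ext (mem_centralizer_singleton_iff.1 g.2)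
  refine ⟨a, fun g r => ?_⟩
  obtain ⟨o, o1, o2⟩ := b ⟨g, mem_centralizer_singleton_iff.2 r⟩
  rw [k1] at o2
  exact ⟨o, ⟨o, o1, rfl⟩, mem_normalizer_of_cj_le (cj_le_iff.2 fun t ht => (mem_normalizer_iff.1 o2 ⟨t, h.TC hz ht⟩).1 ht)⟩

/-- the signalizer closure -/
theorem sig (D : DStmt.{u, v}) (n : ¬ N[E u] ≤ N[Z u]) :
    Odd (Nat.card (⨆ a : {a : G // a ∈ Z u ∧ a ≠ 1}, θ a.1 : Subgroup G)) ∧
      N[E u] ≤ N[(⨆ a : {a : G // a ∈ Z u ∧ a ≠ 1}, θ a.1 : Subgroup G)] := by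
  have s : ∀ a ∈ E u, a ^ 2 = 1 := fun a r => by rw [pow_two, h.E2 r]
  obtain ⟨z, hz, z1⟩ := h.exZ
  obtain ⟨⟨f1, f2, f3, f4⟩, f5⟩ := Cfsg.Agent.S1279.result 2 (E u) ⟨⟨⟨fun x y => Subtype.ext (h.Ec x.2 y.2)⟩⟩, s⟩
    (by rw [h.cardE]; decide) fun a ha a1 => by
      obtain ⟨g, -, rfl⟩ := h.tr n ha a1 hz z1
      have := (h.cen1 D hz z1).1
      rw [← cj_centralizer_singleton]
      exact Group.isSolvable_of_surjective (f := ((MulAut.conj g).subgroupMap _).toMonoidHom) (MulEquiv.surjective _)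
  obtain ⟨w1, w2⟩ := Cfsg.Agent.S0217.result _ (fun _ a _ => h.Ec a) s (by rw [h.cardE]; decide) _ f1 f2 f3 f5 f4
  have nW : N[E u] ≤ N[(⨆ a : {a : G // a ∈ E u ∧ a ≠ 1}, θ a.1 : Subgroup G)] := fun g r => mem_normalizer_of_cj_le (by
    rw [cj_iSup]
    exact iSup_le fun a => th_cj g a.1 ▸ le_iSup (fun a : {a : G // a ∈ E u ∧ a ≠ 1} => θ a.1)
      ⟨_, (mem_normalizer_iff.1 r _).1 a.2.1, mt conj_eq_one_iff.1 a.2.2⟩)
  have e : (⨆ a : {a : G // a ∈ Z u ∧ a ≠ 1}, θ a.1 : Subgroup G) = ⨆ a : {a : G // a ∈ E u ∧ a ≠ 1}, θ a.1 :=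
    le_antisymm (iSup_le fun a => le_iSup (fun a : {a : G // a ∈ E u ∧ a ≠ 1} => θ a.1) ⟨_, h.ZE a.2.1, a.2.2⟩)
      (H22.gen_elts Nat.prime_two (A := Z u) ⟨⟨⟨fun x y => Subtype.ext (h.Ec (h.ZE x.2) (h.ZE y.2))⟩⟩, fun a r => s a (h.ZE r)⟩
        (by rw [h.cardZ]; decide) ((h.ZE.trans le_normalizer).trans nW) w1 fun a r a1 =>
          (w2 a (h.ZE r) a1).le.trans (le_iSup (fun a : {a : G // a ∈ Z u ∧ a ≠ 1} => θ a.1) ⟨a, r, a1⟩))
  exact e ▸ ⟨Nat.not_even_iff_odd.1 fun r => w1 (even_iff_two_dvd.1 r), nW⟩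

/-- involutions of an overgroup of `N(E)` and `N(E')` -/
theorem onec {M : Subgroup G} (n : ¬ N[E u] ≤ N[Z u]) (n' : ¬ N[E' u] ≤ N[Z u]) (l : T u ≤ M) {z t : G} (hz : z ∈ Z u) (z1 : z ≠ 1)
    (ht : t ∈ M) (t2 : t * t = 1) (t1 : t ≠ 1) : ∃ m ∈ M, ∃ g, (g ∈ N[E u] ∨ g ∈ N[E' u]) ∧ m * g * z * (m * g)⁻¹ = t := by
  obtain ⟨m, m1, r⟩ := (h.syl.mono l le_top).exists_le_cj (isPGroup_zpowers ⟨1, by simpa [pow_two] using t2⟩) (zpowers_le.2 ht)
  have r := mem_cj.1 (r (mem_zpowers t))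
  have k : m⁻¹ * t * m ≠ 1 := fun k => t1 (conj_eq_one_iff.1 (by simpa using k : m⁻¹ * t * m⁻¹⁻¹ = 1))
  obtain ⟨g, g1, g2⟩ : ∃ g, (g ∈ N[E u] ∨ g ∈ N[E' u]) ∧ g * z * g⁻¹ = m⁻¹ * t * m := by
    rcases h.invol r (by simpa using cj_sq (g := m⁻¹) t2) with e | e
    · exact (h.tr n e k hz z1).imp fun g r => ⟨.inl r.1, r.2⟩
    · have := h.sw.1.tr (e := m⁻¹ * t * m) (z := z)
      rw [h.sw.2.2.1, h.sw.2.2.2.2] at this
      exact (this n' e k hz z1).imp fun g r => ⟨.inr r.1, r.2⟩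
  exact ⟨m, m1, g, g1, by rw [mul_inv_rev, mul_assoc m, mul_assoc m, ← mul_assoc _ g⁻¹, g2]; group⟩

theorem th0 (D : DStmt.{u, v}) (o : oddCore G = ⊥) (n : ¬ N[E u] ≤ N[Z u]) (n' : ¬ N[E' u] ≤ N[Z u]) {z : G} (hz : z ∈ Z u) (z1 : z ≠ 1) :
    θ z = ⊥ := by
  obtain ⟨w1, w2⟩ := h.sig D n
  have w3 := (h.sw.1.sig D (by rwa [h.sw.2.2.1, h.sw.2.2.2.2])).2
  rw [h.sw.2.2.1, h.sw.2.2.2.2] at w3
  have w4 := le_iSup (fun a : {a : G // a ∈ Z u ∧ a ≠ 1} => θ a.1) ⟨z, hz, z1⟩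
  generalize (⨆ a : {a : G // a ∈ Z u ∧ a ≠ 1}, θ a.1 : Subgroup G) = W at *
  have l := h.TE.trans w2
  have k : ∀ t ∈ N[W], orderOf t = 2 → ∃ m ∈ N[W], m * z * m⁻¹ = t := fun t ht t2 => by
    obtain ⟨m, m1, g, g1, r⟩ := h.onec n n' l hz z1 ht (H08.mul_self_of_orderOf t2) (by rintro rfl; simp at t2)
    exact ⟨_, mul_mem m1 (g1.elim (w2 ·) (w3 ·)), r⟩
  refine le_bot_iff.1 (w4.trans (o ▸ ?_))
  by_cases c : N[W] = ⊤
  · have := normal_of_top_le c.ge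
    exact H08.le_oddCore w1
  refine (H02.le_pPrimeCoreOf le_normalizer le_rfl (Nat.coprime_two_right.2 w1)).trans (Cfsg.Agent.S1221.result _
    ((Cfsg.Agent.S0223.result _ c (even_iff_two_dvd.2 (Dvd.dvd.trans (by rw [h.cardT]; decide) (card_dvd_of_le l)))).2
      ⟨fun t ht t2 => ?_, fun t ht s hs t2 s2 _ => ?_⟩))
  · obtain ⟨m, m1, rfl⟩ := k t ht t2
    rw [← cj_centralizer_singleton]
    refine cj_le_of_le_of_mem (fun g r => ?_) m1
    obtain ⟨x, x1, x2⟩ := (h.cen1 D hz z1).2 g (mem_centralizer_singleton_iff.1 r)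
    exact (mul_mem_cancel_left (le_normalizer (w4 x1))).1 (w2 (h.NTE x2))
  · obtain ⟨m, m1, rfl⟩ := k t ht t2
    obtain ⟨m', m2, rfl⟩ := k s hs s2
    exact ⟨m' * m⁻¹, mul_mem m2 (inv_mem m1), by group⟩

end Hs

/-- the main case -/
structure Mn (u : F → F → F → G) : Prop extends Hs u where
  n : ¬ N[E u] ≤ N[Z u]
  n' : ¬ N[E' u] ≤ N[Z u]
  cz : ∀ z ∈ Z u, z ≠ 1 → ∀ g, g * z = z * g → g ∈ N[T u]
  cE : centralizer (E u : Set G) ≤ E u
  cE' : centralizer (E' u : Set G) ≤ E' u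

theorem Hs.mn {u : F → F → F → G} (h : Hs u) (D : DStmt.{u, v}) (o : oddCore G = ⊥) (n : ¬ N[E u] ≤ N[Z u]) (n' : ¬ N[E' u] ≤ N[Z u]) : Mn u := by
  have cz : ∀ z ∈ Z u, z ≠ 1 → ∀ g, g * z = z * g → g ∈ N[T u] := fun z hz z1 g r => by
    obtain ⟨x, x1, x2⟩ := (h.cen1 D hz z1).2 g r
    rwa [mem_bot.1 ((h.th0 D o n n' hz z1).le x1), one_mul] at x2
  obtain ⟨z, hz, z1⟩ := h.exZ
  have k : ∀ {A : Subgroup G}, Z u ≤ A → N[T u] ≤ N[A] → H02.pPrimeCoreOf 2 (centralizer (A : Set G)) = ⊥ := fun l r =>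
    le_bot_iff.1 (h.th0 D o n n' hz z1 ▸ H02.pPrimeCoreOf_le_pPrimeCoreOf_of_le_normalizer (centralizer_le (Set.singleton_subset_iff.2 (l hz)))
      fun g s => normalizer_le_normalizer_centralizer _ (r (cz z hz z1 g (mem_centralizer_singleton_iff.1 s))))
  refine ⟨h, n, n', cz, h.cenE (k h.ZE h.NTE), ?_⟩
  have := h.sw.1.cenE
  rw [h.sw.2.2.1] at this
  exact this (k h.ZE' h.NTE')

end H07.L4
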