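import Cfsg.Agent.H07.L2

/-! Sylow type `L₃(4)`: the projective plane. -/

set_option autoImplicit false

namespace H07.L4
open Subgroup Cfsg H26 L.DC
open scoped Pointwise

universe u v

variable {F : Type v} [Field F] [Fintype F] {G : Type u} [Group G] [Finite G]

local notation "N[" A "]" => normalizer (SetLike.coe A)

theorem comm15 {R : Type*} [Group R] [Finite R] (h : Nat.card R ∣ 15) (a b : R) : a * b = b * a := by
  have : IsZGroup R := IsZGroup.of_squarefree (Squarefree.squarefree_of_dvd h (by decide +kernel))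
  have : Group.IsNilpotent R := (Group.isNilpotent_of_finite_tfae.out 3 0).1 fun p (hp : Fact p.Prime) (P : Sylow p R) => by
    by_cases c : p ∣ Nat.card R
    · have h1 := card_sylow_modEq_one p R
      have h2 := (P.card_dvd_index.trans (index_dvd_card _)).trans h
      have : Subsingleton (Sylow p R) := Finite.card_le_one_iff_subsingleton.1 (by
        have h3 := Nat.le_of_dvd (by decide) h2
        have h4 := c.trans h
        have h5 := Nat.le_of_dvd (by decide) h4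
        have h6 := hp.out.two_le
        generalize Nat.card (Sylow p R) = n at *
        unfold Nat.ModEq at h1
        interval_cases p <;> first | omega | (interval_cases n <;> omega))
      exact P.normal_of_subsingleton
    · rw [eq_bot_of_isPGroup_of_not_dvd P.2 le_top (by rwa [card_top])]; infer_instance
  exact IsCyclic.isMulCommutative.1.1 a b

theorem fix5 {M B X : Subgroup G} (r : B.relIndex M = 5) (l : X ≤ M) (o : Odd (Nat.card X)) {x y : G} (hx : x ∈ X) (hy : y ∈ X) (b : x ∈ B) :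
    y⁻¹ * x * y ∈ B := by
  let ρ := MulAction.toPermHom M (M ⧸ B.subgroupOf M)
  have c := comm15 (R := (X.subgroupOf M).map ρ) (by
    have h1 := card_subgroup_dvd_card ((X.subgroupOf M).map ρ)
    rw [Nat.card_perm, show Nat.card (M ⧸ B.subgroupOf M) = 5 from r] at h1
    have h2 := o.of_dvd_nat (card_subgroupOf l ▸ card_map_dvd (X.subgroupOf M) ρ)
    exact ((Nat.coprime_two_right.2 h2).pow_right 3).dvd_of_dvd_mul_left h1) ⟨_, ⟨x, l hx⟩, hx, rfl⟩ ⟨_, ⟨y, l hy⟩, hy, rfl⟩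
  have := congrArg (fun φ : (X.subgroupOf M).map ρ => φ.1 ((1 : M) : M ⧸ B.subgroupOf M)) c
  have := mul_mem (QuotientGroup.eq.1 (this.symm :
    (((⟨y, l hy⟩ * (⟨x, l hx⟩ * 1) : M)) : M ⧸ B.subgroupOf M) = ((⟨x, l hx⟩ * (⟨y, l hy⟩ * 1) : M) : M ⧸ B.subgroupOf M))) (one_mem _)
  simpa [mem_subgroupOf, mul_assoc] using mul_mem b this

theorem orb {H A : Subgroup G} {z : G} (k : ∀ e, (∃ m ∈ H, m * z * m⁻¹ = e) ↔ e ∈ A ∧ e ≠ 1) :
    (centralizer {z}).relIndex H + 1 = Nat.card A := by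
  letI : MulAction H G := MulAction.compHom G (MulAut.conj.comp H.subtype)
  have a : MulAction.stabilizer H z = (centralizer {z}).subgroupOf H :=
    Subgroup.ext fun x => (mul_inv_eq_iff_eq_mul (a := x.1 * z)).trans mem_centralizer_singleton_iff.symm
  have b : MulAction.orbit H z = (A : Set G) \ {1} :=
    Set.ext fun e => Iff.trans ⟨fun ⟨m, r⟩ => ⟨m, m.2, r⟩, fun ⟨m, r, s⟩ => ⟨⟨m, r⟩, s⟩⟩ (k e)
  rw [relIndex, ← a, MulAction.index_stabilizer, b, Set.ncard_sdiff_singleton_add_one (one_mem A)]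
  rfl

/-- collinearity -/
def Col (M M' : Subgroup G) (n : G) : Prop := ∃ a ∈ M, ∃ b ∈ M', ∃ c ∈ M, n = a * b * c

omit [Finite G] in
theorem col_of {M M' : Subgroup G} {a b c d : G} (ha : a ∈ M) (hb : b ∈ M ∨ b ∈ M') (hc : c ∈ M ∨ c ∈ M') (hd : d ∈ M) :
    Col M M' (a * b * c * d) := by
  rcases hb with hb | hb <;> rcases hc with hc | hc
  · exact ⟨_, mul_mem (mul_mem ha hb) hc, 1, one_mem _, d, hd, by group⟩
  · exact ⟨_, mul_mem ha hb, c, hc, d, hd, rfl⟩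
  · exact ⟨a, ha, b, hb, _, mul_mem hc hd, by group⟩
  · exact ⟨a, ha, _, mul_mem hb hc, d, hd, by group⟩

/-- points on a line -/
def ln (M M' : Subgroup G) (l : G ⧸ M') : Set (G ⧸ M) := {p | ∃ g : G, (g : G ⧸ M) = p ∧ (g : G ⧸ M') = l}

omit [Finite G] in
theorem ln_card (M M' : Subgroup G) (l : G ⧸ M') : (ln M M' l).ncard = M.relIndex M' := by
  obtain ⟨g, rfl⟩ := QuotientGroup.mk_surjective l
  have a : MulAction.stabilizer M' ((1 : G) : G ⧸ M) = M.subgroupOf M' :=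
    Subgroup.ext fun x => (eq_comm.trans QuotientGroup.eq).trans (by simp [mem_subgroupOf, Subgroup.smul_def])
  rw [relIndex, ← a, MulAction.index_stabilizer, ← Set.ncard_image_of_injective (MulAction.orbit M' _) (MulAction.injective g)]
  refine congrArg _ (Set.ext fun p => ⟨?_, ?_⟩)
  · rintro ⟨x, rfl, r⟩
    exact ⟨_, ⟨⟨_, QuotientGroup.eq.1 r.symm⟩, rfl⟩, congrArg _ (show g * (g⁻¹ * x * 1) = x by group)⟩
  · rintro ⟨_, ⟨m, rfl⟩, rfl⟩
    exact ⟨g * (m * 1), rfl, QuotientGroup.eq.2 (by simp)⟩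

namespace Mn
variable {u : F → F → F → G} (h : Mn u)
include h

omit [Finite G] in
theorem sw : Mn (fun a b c => u b a (c + a * b)) := by
  obtain ⟨k, k1, k2, k3, k4⟩ := h.toHs.sw
  exact ⟨k, by rw [k2, k4]; exact h.n', by rw [k3, k4]; exact h.n, by rw [k1, k4]; exact h.cz, k2.symm ▸ h.cE', k3.symm ▸ h.cE⟩

omit [Finite G] in
theorem mB {z x y : G} (hz : z ∈ Z u) (z1 : z ≠ 1) (c : x * z * x⁻¹ = y * z * y⁻¹) : y⁻¹ * x ∈ N[T u] := h.cz z hz z1 _ (by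
  calc _ = y⁻¹ * (x * z * x⁻¹) * x := by group
    _ = _ := by rw [c]; group)

theorem tiE {v g : G} (hv : v ∈ E u) (v1 : v ≠ 1) (e : g * v * g⁻¹ ∈ E u) : g ∈ N[E u] := by
  obtain ⟨z, hz, z1⟩ := h.exZ
  obtain ⟨a, ha, e1⟩ := h.tr h.n e (mt conj_eq_one_iff.1 v1) hz z1
  obtain ⟨b, hb, rfl⟩ := h.tr h.n hv v1 hz z1
  have := h.NTE (h.mB hz z1 (x := g * b) (Eq.trans (by group) e1.symm))
  rwa [mul_mem_cancel_left (inv_mem ha), mul_mem_cancel_right hb] at this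

theorem mem_or {z g : G} (hz : z ∈ Z u) (z1 : z ≠ 1) (e : g * z * g⁻¹ ∈ T u) : g ∈ N[E u] ∨ g ∈ N[E' u] :=
  (h.invol e (cj_sq (h.E2 (h.ZE hz)))).imp (h.tiE (h.ZE hz) z1) (by
    have := h.sw.tiE (v := z) (g := g); rw [h.toHs.sw.2.2.1] at this; exact this (h.ZE' hz) z1)

theorem MZ {z g : G} (hz : z ∈ Z u) (z1 : z ≠ 1) (r : g ∈ N[E u]) (e : g * z * g⁻¹ ∈ Z u) : g ∈ N[T u] :=
  h.nT' h.cE r (h.ti r (mt conj_eq_one_iff.1 z1) e (conj_mem_cj hz))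

theorem NTZ : N[T u] ≤ N[Z u] := h.inf ▸ le_normalizer_inf h.NTE h.NTE'

theorem BM : N[E u] ⊓ N[E' u] = N[T u] := le_antisymm
  (fun g r => h.nT' h.cE r.1 ((h.inf ▸ le_normalizer_inf inf_le_left inf_le_right : _ ≤ N[Z u]) r)) (le_inf h.NTE h.NTE')

theorem rel5 : N[T u].relIndex N[E u] = 5 := by
  obtain ⟨z, hz, z1⟩ := h.exZ
  have a := orb (H := N[E u]) (A := E u) (z := z) fun e => ⟨by
    rintro ⟨m, r, rfl⟩; exact ⟨(mem_normalizer_iff.1 r _).1 (h.ZE hz), mt conj_eq_one_iff.1 z1⟩, fun r => h.tr h.n r.1 r.2 hz z1⟩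
  have b := orb (H := N[T u]) (A := Z u) (z := z) fun e => ⟨by
    rintro ⟨m, r, rfl⟩; exact ⟨(mem_normalizer_iff.1 (h.NTZ r) _).1 hz, mt conj_eq_one_iff.1 z1⟩,
    fun r => (h.tr h.n (h.ZE r.1) r.2 hz z1).imp fun m s => ⟨h.MZ hz z1 s.1 (by rw [s.2]; exact r.1), s.2⟩⟩
  have := relIndex_mul_relIndex (centralizer {z}) _ _ (fun g r => h.cz z hz z1 g (mem_centralizer_singleton_iff.1 r)) h.NTE
  rw [h.cardE] at a
  rw [h.cardZ] at b
  rw [show (centralizer {z}).relIndex N[T u] = 3 by omega] at this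
  omega

theorem r5 : N[E' u].relIndex N[E u] = 5 := by rw [← inf_relIndex_left, h.BM, h.rel5]

theorem r5' : N[E u].relIndex N[E' u] = 5 := by have := h.sw.r5; rwa [h.toHs.sw.2.2.1, h.toHs.sw.2.2.2.1] at this

theorem sti {s c : G} (s1 : s ∈ T u) (s2 : s ∉ E u) (r : c ∈ N[E u]) (e : c⁻¹ * s * c ∈ T u) : c ∈ N[T u] := by
  obtain ⟨z, hz, z1⟩ := h.exZ
  refine h.MZ hz z1 r (h.cen s1 s2 ((mem_normalizer_iff.1 r _).1 (h.ZE hz)) ?_)
  calc _ = c * (c⁻¹ * s * c * z) * c⁻¹ := by group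
    _ = _ := by rw [h.Zc hz e]; group

theorem cT {r : G} (r2 : r * r = 1) (r1 : r ≠ 1) : ∃ g : G, ∀ y, y * r = r * y → g⁻¹ * y * g ∈ N[T u] := by
  obtain ⟨z, hz, z1⟩ := h.exZ
  obtain ⟨m, -, g, -, rfl⟩ := h.onec h.n h.n' le_top hz z1 (mem_top r) r2 r1
  exact ⟨m * g, fun y c => by simpa [mul_assoc] using h.mB hz z1 (x := y * (m * g)) (y := m * g) (by
    rw [← mul_inv_eq_iff_eq_mul.2 c]; group)⟩

theorem mem2' {x g : G} (r : g⁻¹ * x * g ∈ N[T u]) (s : x * x = 1) : g⁻¹ * x * g ∈ T u :=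
  h.mem2 r ⟨1, by simpa [pow_two] using cj_sq (g := g⁻¹) s⟩

theorem nr {x σ v : G} (o : Odd (orderOf x)) (s2 : σ * σ = 1) (i : σ * x * σ⁻¹ = x⁻¹) (v2 : v * v = 1) (v1 : v ≠ 1) (c : v * x = x * v) :
    x = 1 := by
  have mC : ∀ {x y : G}, x ∈ centralizer {y} ↔ x * y = y * x := mem_centralizer_singleton_iff
  have key : ∀ r, r * r = 1 → r ≠ 1 → r ∈ centralizer {x} → σ * r = r * σ → x = 1 := fun r r2 r1 a b => by
    obtain ⟨g, k⟩ := h.cT r2 r1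
    have t := h.mem2' (k σ b) s2
    obtain ⟨j, e⟩ := isPGroup_iff_mem.1 h.pT _ (mul_mem ((mem_normalizer_iff.1 (k x (mC.1 a).symm) _).1 t) (inv_mem t))
    rw [show g⁻¹ * x * g * (g⁻¹ * σ * g) * (g⁻¹ * x * g)⁻¹ * (g⁻¹ * σ * g)⁻¹ = g⁻¹ * (x * (σ * x * σ⁻¹)⁻¹) * g⁻¹⁻¹ by group, i, inv_inv,
      conj_pow, conj_eq_one_iff, ← pow_two, ← pow_mul, ← pow_succ'] at e
    simpa using odd_part (m := 1) o (pow_orderOf_eq_one x) (by simpa using e)
  have a1 : v * σ * x * (v * σ)⁻¹ = x⁻¹ := by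
    rw [show v * σ * x * (v * σ)⁻¹ = v * (σ * x * σ⁻¹) * v⁻¹ by group, i, ← conj_inv, c, mul_inv_cancel_right]
  have a2 : v * σ * (v * σ) ∈ centralizer {x} := mC.2 (mul_inv_eq_iff_eq_mul.1 (by
    rw [show v * σ * (v * σ) * x * (v * σ * (v * σ))⁻¹ = v * σ * (v * σ * x * (v * σ)⁻¹) * (v * σ)⁻¹ by group, a1, ← conj_inv, a1, inv_inv]))
  rcases Nat.even_or_odd (orderOf (v * σ)) with ev | od
  · have w := H08.half_pow_invol ev
    have w2 := H08.mul_self_of_orderOf w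
    have c1 := (H08.commute_half_pow_left v2 s2 ev).eq
    have c2 := (H08.commute_half_pow_right v2 s2 ev).eq
    rcases Nat.even_or_odd' (orderOf (v * σ) / 2) with ⟨j, e | e⟩ <;> rw [e] at w w2 c1 c2
    · exact key _ w2 (by rintro r; simp [r] at w) (by rw [pow_mul, pow_two]; exact pow_mem a2 j) c2.symm
    · by_cases k : (v * σ) ^ (2 * j + 1) * σ = 1
      · exact key v v2 v1 (mC.2 c) (by rwa [eq_inv_of_mul_eq_one_left k, inv_self s2] at c1)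
      · refine key _ (by rw [mul_assoc, ← mul_assoc σ, ← c2, mul_assoc, s2, mul_one, w2]) k ?_ (by rw [← mul_assoc, c2])
        rw [pow_succ, mul_assoc, mul_assoc, s2, mul_one, pow_mul, pow_two]
        exact mul_mem (pow_mem a2 j) (mC.2 c)
  · rw [mC.1 (mem_of_sq od (pow_orderOf_eq_one _) a2), mul_inv_cancel_right] at a1
    simpa using odd_part (k := 1) (m := 1) o (pow_orderOf_eq_one x) (by simpa [pow_two] using mul_eq_one_iff_eq_inv.2 a1)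

theorem coll (n : G) : Col N[E u] N[E' u] n := by
  obtain ⟨z, hz, z1⟩ := h.exZ
  have z2 := h.E2 (h.ZE hz)
  have sw : ∀ n, ¬ Col N[E u] N[E' u] n → ∀ m ∈ N[E u], ∃ τ, τ * τ = 1 ∧ τ * (m * z * m⁻¹) * τ⁻¹ = n * z * n⁻¹ := by
    intro n hn m hm
    have a2 := cj_sq (g := m) z2
    have b2 := cj_sq (g := n) z2
    obtain ⟨k, hk⟩ := H08.exists_invol_conj_of_odd a2 b2 (Nat.not_even_iff_odd.1 fun ev => hn (by
      have w := H08.half_pow_invol ev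
      obtain ⟨g, e⟩ := h.cT (H08.mul_self_of_orderOf w) (by rintro r; simp [r] at w)
      have a := h.mem_or hz z1 (g := g⁻¹ * m) (by simpa [mul_assoc] using h.mem2' (e _ (H08.commute_half_pow_left a2 b2 ev).eq.symm) a2)
      have b := h.mem_or hz z1 (g := g⁻¹ * n) (by simpa [mul_assoc] using h.mem2' (e _ (H08.commute_half_pow_right a2 b2 ev).eq.symm) b2)
      simpa [mul_assoc] using col_of hm (a.imp inv_mem inv_mem) b (one_mem _)))
    exact ⟨_, H08.zpow_mul_left_mul_self a2 b2 k, hk⟩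
  by_contra hn
  obtain ⟨σ, σ2, e⟩ := sw n hn 1 (one_mem _)
  replace hn : ¬ Col N[E u] N[E' u] σ := fun ⟨a, ha, b, hb, c, hc, e1⟩ => hn ⟨a, ha, b, hb, _,
    mul_mem hc (h.NTE (h.mB hz z1 (x := n) (y := σ) (by simpa using e.symm))), by rw [← mul_assoc, ← e1]; group⟩
  clear e
  have hX := odd_card (K := N[E u] ⊓ cj(σ, N[E u])) fun x hx x2 => by
    by_contra x1
    obtain ⟨m, hm, g, hg, e1⟩ := h.onec h.n h.n' h.TE hz z1 hx.1 x2 x1
    obtain ⟨m', hm', g', hg', e2⟩ := h.onec h.n h.n' h.TE hz z1 (mem_cj.1 hx.2) (by simpa using cj_sq (g := σ⁻¹) x2)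
      fun c => x1 (conj_eq_one_iff.1 (by simpa using c : σ⁻¹ * x * σ⁻¹⁻¹ = 1))
    have := h.mB hz z1 (x := σ⁻¹ * (m * g)) (y := m' * g') (by rw [e2, ← e1]; group)
    have := col_of hm' (hg'.imp (mul_mem · (h.NTE this)) (mul_mem · (h.NTE' this))) (hg.imp inv_mem inv_mem) (inv_mem hm)
    exact hn (by simpa [mul_assoc, inv_self σ2] using this)
  have k : ∀ v ∈ E u, v ≠ 1 → ∃ x ∈ N[E u] ⊓ cj(σ, N[E u]), σ * x * σ⁻¹ = x⁻¹ ∧ x * v * x⁻¹ = z := fun v hv v1 => by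
    obtain ⟨m, hm, rfl⟩ := h.tr h.n hv v1 hz z1
    obtain ⟨τ, τ2, e⟩ := sw σ hn m hm
    have e1 : σ * τ * (m * z * m⁻¹) * (σ * τ)⁻¹ = z := by
      calc _ = σ * (τ * (m * z * m⁻¹) * τ⁻¹) * σ⁻¹ := by group
        _ = σ * σ * z * (σ * σ)⁻¹ := by rw [e]; group
        _ = z := by rw [σ2]; group
    have m1 := h.tiE hv v1 (e1 ▸ h.ZE hz)
    refine ⟨_, ⟨m1, mem_cj.2 ?_⟩, by simp [inv_self σ2, inv_self τ2, ← mul_assoc, σ2], e1⟩
    simpa [inv_self σ2, inv_self τ2, ← mul_assoc, σ2] using inv_mem m1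
  obtain ⟨w, hw, w1, ne⟩ : ∃ w ∈ Z u, w ≠ 1 ∧ w ≠ z := by
    by_contra! c
    have : (Z u : Set G).ncard ≤ ({1, z} : Set G).ncard := Set.ncard_le_ncard fun x hx => or_iff_not_imp_left.2 (c x hx)
    exact absurd (this.trans (Set.ncard_insert_le _ _)) (by rw [show (Z u : Set G).ncard = 4 from h.cardZ]; simp)
  obtain ⟨x, hx, i, e⟩ := k w (h.ZE hw) w1
  have xB := h.MZ hw w1 hx.1 (e ▸ hz)
  have nf : ∀ v, v * v = 1 → x * v * x⁻¹ = v → v = 1 := fun v v2 c => by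
    by_contra v1
    rw [h.nr (hX.of_dvd_nat (orderOf_dvd_natCard _ hx)) σ2 i v2 v1 (mul_inv_eq_iff_eq_mul.1 c).symm] at e
    exact ne (by simpa using e)
  have fx : ∀ m ∈ N[E u], m⁻¹ * x * m ∈ N[T u] := fun m hm => by
    obtain ⟨y, hy, -, e⟩ := k _ ((mem_normalizer_iff.1 hm _).1 (h.ZE hz)) (mt conj_eq_one_iff.1 z1)
    have b := h.mB hz z1 (x := y * m) (y := 1) (by simpa [mul_assoc] using e)
    simpa [mul_assoc] using mul_mem (mul_mem (inv_mem b) (fix5 h.rel5 inf_le_left hX hx (inv_mem hy) xB)) b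
  obtain ⟨m, m1, m2⟩ := SetLike.not_le_iff_exists.1 h.n
  have p1 : u 0 1 0 ∈ E' u := h.mE'.2 rfl
  have p2 : u 0 1 0 * u 0 1 0 = 1 := by rw [h.sq, zero_mul, h.one]
  have p3 : ∀ w ∈ Z u, u 0 1 0 * w ≠ 1 := fun w r s =>
    one_ne_zero (h.mZ.1 (eq_inv_of_mul_eq_one_left s ▸ inv_mem r : u 0 1 0 ∈ Z u)).2
  generalize u 0 1 0 = p at p1 p2 p3
  have t1 := mul_mem ((mem_normalizer_iff.1 (h.NTE' xB) _).1 p1) (inv_mem p1)
  have t2 : x * p * x⁻¹ * p⁻¹ ∈ Z u := h.inf.le ⟨by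
    by_contra c
    refine m2 (h.NTZ (h.sti (h.E'T t1) c m1 (h.mem2' ?_ (h.sw.E2 (h.toHs.sw.2.2.1.symm ▸ t1)))))
    simpa [mul_assoc] using mul_mem (fx m m1) (inv_mem (fx _ (mul_mem (inv_mem (h.TE (h.E'T p1))) m1))), t1⟩
  have xZ : ∀ w ∈ Z u, x * w * x⁻¹ ∈ Z u := fun w => (mem_normalizer_iff.1 (h.NTZ xB) w).1
  have Zm : ∀ {a b}, a ∈ Z u → b ∈ Z u → a * b = b * a := fun a b => h.Ec (h.ZE a) (h.ZE b)
  obtain ⟨⟨y, y1⟩, y2⟩ := (Finite.injective_iff_surjective (f := fun w : Z u => (⟨_, mul_mem (xZ w w.2) w.2⟩ : Z u))).1 (fun a b r => by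
    have r : x * a * x⁻¹ * a = x * b * x⁻¹ * b := congrArg Subtype.val r
    have a2 := h.E2 (h.ZE a.2)
    have b2 := h.E2 (h.ZE b.2)
    refine Subtype.ext ((inv_self b2).symm.trans (inv_eq_of_mul_eq_one_right (nf _ (h.E2 (h.ZE (mul_mem b.2 a.2))) ?_))).symm
    rw [← conj_mul, eq_mul_inv_of_mul_eq r, ← mul_assoc, ← mul_assoc, cj_sq b2, one_mul, inv_self a2]) ⟨_, t2⟩
  have y2 : x * y * x⁻¹ * y = x * p * x⁻¹ * p⁻¹ := congrArg Subtype.val y2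
  refine p3 y y1 (nf _ (by rw [mul_assoc, ← mul_assoc y, ← h.Zc y1 (h.E'T p1), mul_assoc, h.E2 (h.ZE y1), mul_one, p2]) ?_)
  rw [← conj_mul, eq_mul_inv_of_mul_eq y2.symm, inv_inv, ← h.Zc (mul_mem (xZ y y1) y1) (h.E'T p1), mul_assoc p, mul_assoc _ y, ← Zm (xZ y y1) y1,
    ← mul_assoc (x * y * x⁻¹), cj_sq (h.E2 (h.ZE y1)), one_mul]

theorem digon {m a b : G} (hm : m ∈ N[E u]) (ha : a ∈ N[E' u]) (hb : b ∈ N[E' u]) (a1 : a ∉ N[E u]) (e : (m * b)⁻¹ * a ∈ N[E u]) :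
    m ∈ N[E' u] := by
  obtain ⟨z, hz, z1⟩ := h.exZ
  have zE := h.ZE hz
  have k : ∀ a ∈ N[E' u], a * z * a⁻¹ ∈ T u := fun a ha => h.E'T ((mem_normalizer_iff.1 ha _).1 (h.ZE' hz))
  have c := h.Ec zE ((mem_normalizer_iff''.1 e _).1 zE)
  have s1 : m⁻¹ * (m * b * z * (m * b)⁻¹) * m ∈ T u := by simpa [mul_assoc] using k b hb
  have s2 : m * b * z * (m * b)⁻¹ ∈ N[E u] := by simpa [mul_assoc] using mul_mem (mul_mem hm (h.TE s1)) (inv_mem hm)
  have s3 := h.sti (k a ha) (fun r => a1 (h.tiE zE z1 r)) s2 (by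
    rw [show (m * b * z * (m * b)⁻¹)⁻¹ * (a * z * a⁻¹) * (m * b * z * (m * b)⁻¹) =
      (m * b * z * (m * b)⁻¹)⁻¹ * a * (z * (((m * b)⁻¹ * a)⁻¹ * z * ((m * b)⁻¹ * a))) * a⁻¹ by group, c]
    simpa [mul_assoc] using k a ha)
  exact h.NTE' (h.sti (h.mem2 s3 ⟨1, by simpa only [pow_one, pow_two] using cj_sq (h.E2 zE)⟩)
    (fun r => a1 ((mul_mem_cancel_left (inv_mem (h.tiE zE z1 r))).1 e)) hm s1)

theorem uniq {p q : G ⧸ N[E u]} {l l' : G ⧸ N[E' u]} (n : p ≠ q) (a : p ∈ ln _ _ l) (b : q ∈ ln _ _ l) (c : p ∈ ln _ _ l') (d : q ∈ ln _ _ l') :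
    l = l' := by
  obtain ⟨g1, rfl, rfl⟩ := a
  obtain ⟨g2, rfl, b⟩ := b
  obtain ⟨g3, c, rfl⟩ := c
  obtain ⟨g4, d, d'⟩ := d
  exact QuotientGroup.eq.2 (h.digon (QuotientGroup.eq.1 c.symm) (QuotientGroup.eq.1 b.symm) (QuotientGroup.eq.1 d'.symm)
    (fun r => n (QuotientGroup.eq.2 r)) (by simpa [mul_assoc] using QuotientGroup.eq.1 d))

theorem ex (p q : G ⧸ N[E u]) : ∃ l : G ⧸ N[E' u], p ∈ ln _ _ l ∧ q ∈ ln _ _ l := by
  obtain ⟨g, rfl⟩ := QuotientGroup.mk_surjective p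
  obtain ⟨g', rfl⟩ := QuotientGroup.mk_surjective q
  obtain ⟨a, ha, b, hb, c, hc, r⟩ := h.coll (g⁻¹ * g')
  exact ⟨(g * a : G), ⟨g * a, QuotientGroup.eq.2 (by simpa using ha), rfl⟩, g * a * b,
    QuotientGroup.eq.2 (by rwa [show g' = g * (a * b * c) by rw [← r]; group, show (g * a * b)⁻¹ * (g * (a * b * c)) = c by group]),
    QuotientGroup.eq.2 (by simpa [mul_assoc] using hb)⟩

theorem allI {K : Subgroup G} (n : K.Normal) {t : G} (ht : t ∈ K) (t2 : t * t = 1) (t1 : t ≠ 1) {s : G} (s2 : s * s = 1) : s ∈ K := by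
  obtain ⟨z, hz, z1⟩ := h.exZ
  by_cases s1 : s = 1
  · exact s1 ▸ one_mem K
  obtain ⟨m, -, g, -, rfl⟩ := h.onec h.n h.n' le_top hz z1 (mem_top t) t2 t1
  obtain ⟨m', -, g', -, rfl⟩ := h.onec h.n h.n' le_top hz z1 (mem_top s) s2 s1
  exact n.conj_mem _ (by simpa [mul_assoc] using n.conj_mem _ ht (m * g)⁻¹) _

theorem i2 (H : Subgroup G) : H.index ≠ 2 := fun r => by
  have z : u 0 0 (1 * 1) ∈ H := h.sq 1 1 0 ▸ mul_self_mem_of_index_two r _
  have k : ∀ {s}, s * s = 1 → s ∈ H := h.allI (normal_of_index_eq_two r) z (h.E2 (h.mE.2 rfl)) fun r => by simpa using (h.eq1.1 r).2.2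
  refine h.odd (r ▸ index_dvd_of_le fun x hx => ?_)
  obtain ⟨a, b, c, rfl⟩ := h.memT.1 hx
  have := mul_mem (k (h.E2 (h.mE.2 rfl : u a 0 (c + a * b) ∈ _))) (k (show u 0 b 0 * u 0 b 0 = 1 by rw [h.sq, zero_mul, h.one]))
  rwa [h.mul, add_zero, zero_add, add_zero, add_assoc, h.aa, add_zero] at this

theorem faith (o : oddCore G = ⊥) : N[E u].normalCore = ⊥ := le_bot_iff.1 (o ▸ H08.le_oddCore (odd_card fun t ht t2 => by
  by_contra t1
  refine h.n' fun g r => h.NTZ (h.BM.le ⟨?_, r⟩)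
  obtain ⟨c, c1, c2⟩ := (h.syl.mono h.TE le_top).exists_cj_le (isPGroup_cj (h.pT.to_le h.ET) g)
    (cj_le_iff.2 fun e he => normalCore_le _ (h.allI inferInstance ht t2 t1 (cj_sq (h.E2 he))))
  exact (mul_mem_cancel_left c1).1 (h.wc (cj_cj c g _ ▸ c2))))

theorem main (P : PStmt.{u, v}) (o : oddCore G = ⊥) : ∃ f : G →* PG F, Function.Injective f := by
  classical
  let _ := Fintype.ofFinite (G ⧸ N[E u])
  let lf : G ⧸ N[E' u] → Finset (G ⧸ N[E u]) := fun l => (Set.toFinite (ln _ _ l)).toFinset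
  have mf : ∀ {l p}, p ∈ lf l ↔ p ∈ ln _ _ l := Set.Finite.mem_toFinset _
  have cf : ∀ l, (lf l).card = 5 := fun l => (Set.ncard_eq_toFinset_card _ _).symm.trans ((ln_card _ _ l).trans h.r5')
  let φ := MulAction.toPermHom G (G ⧸ N[E u])
  have k : ∀ g s, s ∈ Set.range lf → φ g • s ∈ Set.range lf := by
    rintro g _ ⟨l, rfl⟩
    refine ⟨g • l, Finset.ext fun p => ?_⟩
    rw [Finset.mem_smul_finset, mf]
    exact ⟨fun ⟨x, a, b⟩ => ⟨(g⁻¹ * x : G), mf.2 ⟨_, rfl, by rw [← inv_smul_smul g l, ← b]; rfl⟩, a ▸ congrArg _ (mul_inv_cancel_left g x)⟩,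
      fun ⟨q, a, b⟩ => by obtain ⟨x, rfl, rfl⟩ := mf.1 a; exact ⟨g * x, b, rfl⟩⟩
  refine P G F h.c4 (G ⧸ N[E u]) ?_ (Set.range lf) ⟨by rintro _ ⟨l, rfl⟩; exact cf l, fun s r => ?_⟩ φ
    ((MonoidHom.ker_eq_bot_iff _).1 ((normalCore_eq_ker _).symm.trans (h.faith o)))
    (fun g => MulAction.mem_stabilizer_iff.2 (Set.ext fun s => Set.mem_smul_set_iff_inv_smul_mem.trans
      ⟨fun r => by simpa using k g _ r, fun r => map_inv φ g ▸ k g⁻¹ s r⟩)) h.i2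
  · let p : G ⧸ N[E u] := (1 : G)
    have sy : ∀ {l}, l ∈ (Set.toFinite (ln _ _ p)).toFinset ↔ p ∈ ln N[E u] N[E' u] l :=
      (Set.Finite.mem_toFinset _).trans (exists_congr fun _ => and_comm)
    have e : Finset.univ.erase p = (Set.toFinite (ln _ _ p)).toFinset.biUnion fun l => (lf l).erase p := Finset.ext fun q => by
      rw [Finset.mem_biUnion, Finset.mem_erase]
      exact ⟨fun r => (h.ex p q).imp fun l s => ⟨sy.2 s.1, Finset.mem_erase.2 ⟨r.1, mf.2 s.2⟩⟩,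
        fun ⟨l, _, s⟩ => ⟨(Finset.mem_erase.1 s).1, Finset.mem_univ _⟩⟩
    have := Finset.card_erase_add_one (Finset.mem_univ p)
    rw [e, Finset.card_biUnion fun l a l' b n => Finset.disjoint_left.2 fun q c d => n
      (h.uniq (Finset.mem_erase.1 c).1.symm (sy.1 a) (mf.1 (Finset.mem_erase.1 c).2) (sy.1 b) (mf.1 (Finset.mem_erase.1 d).2)),
      Finset.sum_const_nat (m := 4) fun l a => by rw [Finset.card_erase_of_mem (mf.2 (sy.1 a)), cf],
      ← Set.ncard_eq_toFinset_card, ln_card, h.r5] at this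
    exact this.symm
  · obtain ⟨p, q, n, rfl⟩ := Finset.card_eq_two.1 r
    obtain ⟨l, a, b⟩ := h.ex p q
    refine ⟨lf l, ⟨⟨l, rfl⟩, Finset.insert_subset (mf.2 a) (Finset.singleton_subset_iff.2 (mf.2 b))⟩, ?_⟩
    rintro _ ⟨⟨l', rfl⟩, s⟩
    rw [h.uniq n a b (mf.1 (s (by simp))) (mf.1 (s (by simp)))]

end Mn

theorem Hs.main {u : F → F → F → G} (h : Hs u) (P : PStmt.{u, v}) (L : LStmt.{u, v}) (D : DStmt.{u, v}) (o : oddCore G = ⊥) :
    ∃ f : G →* PG F, Function.Injective f := by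
  by_cases n' : N[E' u] ≤ N[Z u]
  · exact h.deg D L o n'
  by_cases n : N[E u] ≤ N[Z u]
  · exact h.sw.1.deg D L o (by rwa [h.sw.2.2.2.1, h.sw.2.2.2.2])
  · exact (h.mn D o n n').main P o

end H07.L4
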