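import Cfsg.Agent.H07.Jordan
import Cfsg.Agent.H07.Det
import Cfsg.Agent.H06.Degree
import Cfsg.Agent.H01.Hall

/-! Blichfeldt's abelian Hall subgroup and the explicit Jordan bound. -/

namespace H07
open Cfsg H05 H06 H01
open scoped ComplexConjugate commutatorElement

variable {G : Type*} [Group G]

/-- Brauer: irrationalities at `p`-elements for several primes force an element of composite order -/
theorem exists_elt_of_irrational [Finite G] {χ : G → ℂ} (hχ : IsIrrCharacter G χ) (π : Finset ℕ)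
    (hπ : ∀ p ∈ π, p.Prime)
    (h : ∀ p ∈ π, ∃ (x : G) (k a : ℕ), x ^ p ^ a = 1 ∧ k.Coprime p ∧ χ (x ^ k) ≠ χ x) :
    ∃ g : G, ∀ p ∈ π, p ∣ orderOf g := by
  classical
  letI := Fintype.ofFinite G
  have hN : Nat.card G ≠ 0 := Nat.card_pos.ne'
  have h2 : ∀ p ∈ π, ∃ (x : G) (m : ℕ), (∃ a, x ^ p ^ a = 1) ∧ m.Coprime (Nat.card G) ∧ χ (x ^ m) ≠ χ x ∧
      ∀ g : G, ¬ p ∣ orderOf g → g ^ m = g := by
    intro p hp
    obtain ⟨x, k, a, hx, hk, hne⟩ := h p hp
    have hp' := hπ p hp
    obtain ⟨b, c, hc, hbc⟩ := Nat.exists_eq_pow_mul_and_not_dvd hN p hp'.ne_one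
    have hcop : (p ^ (a + b + 1)).Coprime c := Nat.Coprime.pow_left _ ((Nat.Prime.coprime_iff_not_dvd hp').2 hc)
    obtain ⟨m, hm1, hm2⟩ := Nat.chineseRemainder hcop k 1
    refine ⟨x, m, ⟨a, hx⟩, ?_, ?_, fun g hg => ?_⟩
    · rw [hbc]
      refine Nat.Coprime.mul_right (Nat.Coprime.pow_right _ ?_) ?_
      · have := (hm1.of_dvd (dvd_pow_self p (by omega))).gcd_eq
        exact this.trans hk
      · have := hm2.gcd_eq
        exact this.trans (by simp)
    · have : x ^ m = x ^ k := by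
        rw [pow_eq_pow_iff_modEq]
        exact hm1.of_dvd ((orderOf_dvd_of_pow_eq_one hx).trans (pow_dvd_pow _ (by omega)))
      rwa [this]
    · conv_rhs => rw [← pow_one g]
      rw [pow_eq_pow_iff_modEq]
      refine hm2.of_dvd ?_
      have h1 : orderOf g ∣ p ^ b * c := hbc ▸ orderOf_dvd_natCard g
      exact (Nat.Coprime.pow_right b ((Nat.Prime.coprime_iff_not_dvd hp').2 hg).symm).dvd_of_dvd_mul_left h1
  choose! x m hx hm hne hfix using h2
  by_contra hcon
  push Not at hcon
  let θ : G → ℂ := ∑ J ∈ π.powerset, ((-1 : ℂ) ^ J.card) • fun g => χ (g ^ ∏ p ∈ J, m p)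
  have h0 : θ = 0 := by
    funext g
    obtain ⟨p, hp, hpg⟩ := hcon g
    simp only [θ, Finset.sum_apply, Pi.smul_apply, smul_eq_mul, Pi.zero_apply]
    rw [← Finset.insert_erase hp, Finset.sum_powerset_insert (Finset.notMem_erase p π), ← Finset.sum_add_distrib]
    refine Finset.sum_eq_zero fun J hJ => ?_
    have hpJ : p ∉ J := fun h => Finset.notMem_erase p π (Finset.mem_powerset.1 hJ h)
    rw [Finset.card_insert_of_notMem hpJ, Finset.prod_insert hpJ, pow_mul, hfix p hp g hpg]
    ring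
  have h1 : classInner θ χ = 1 := by
    rw [H05.classInner_sum_left, Finset.sum_eq_single ∅]
    · simp [hχ.classInner_self]
    · intro J hJ hJ0
      have hJπ := Finset.mem_powerset.1 hJ
      obtain ⟨p, hp⟩ := Finset.nonempty_iff_ne_empty.2 hJ0
      rw [H05.classInner_smul_left, (hχ.pow_comp (Nat.Coprime.prod_left fun q hq => hm q (hJπ hq))).classInner_of_ne hχ,
        mul_zero]
      intro he
      have he' : χ (x p ^ ∏ p ∈ J, m p) = χ (x p) := congrFun he (x p)
      apply hne p (hJπ hp)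
      rw [← he', ← Finset.mul_prod_erase J m hp, mul_comm, pow_mul]
      congr 2
      have : ∀ s : Finset ℕ, s ⊆ J.erase p → x p ^ ∏ q ∈ s, m q = x p := by
        intro s hs
        induction s using Finset.induction_on with
        | empty => simp
        | insert q s hq ih =>
          have hq' := Finset.mem_erase.1 (hs (Finset.mem_insert_self q s))
          rw [Finset.prod_insert hq, pow_mul, hfix q (hJπ hq'.2), ih ((Finset.subset_insert q s).trans hs)]
          obtain ⟨a, ha⟩ := hx p (hJπ hp)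
          intro hd
          exact hq'.1 ((Nat.prime_dvd_prime_iff_eq (hπ q (hJπ hq'.2)) (hπ p (hJπ hp))).1
            ((hπ q (hJπ hq'.2)).dvd_of_dvd_pow (hd.trans (orderOf_dvd_of_pow_eq_one ha))))
      exact (this _ subset_rfl).symm
    · simp
  rw [h0] at h1
  simp at h1

/-- a character of degree `< p - 1` is irrational on the elements of order `p` outside its kernel -/
theorem exists_pow_ne_of_small [Finite G] {χ : G → ℂ} (hχ : IsCharacter G χ) {p : ℕ} (hp : p.Prime)
    (hd : charDegree χ + 1 < p) {x : G} (hx : x ^ p = 1) (h1 : χ x ≠ χ 1) :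
    ∃ k : ℕ, k.Coprime p ∧ χ (x ^ k) ≠ χ x := by
  classical
  by_contra hcon
  push Not at hcon
  obtain ⟨ω, hω, hs⟩ := hχ.exists_roots x
  have hωp : ∀ i, ω i ^ p = 1 := fun i => by
    obtain ⟨c, hc⟩ := orderOf_dvd_of_pow_eq_one hx
    rw [hc, pow_mul, hω, one_pow]
  have hcard := (Complex.isPrimitiveRoot_exp p hp.ne_zero).card_nthRootsFinset
  obtain ⟨ζ, hζ, hζ'⟩ : ∃ ζ ∈ Polynomial.nthRootsFinset p (1 : ℂ), ζ ∉ insert 1 (Finset.univ.image ω) := by
    apply Finset.exists_mem_notMem_of_card_lt_card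
    rw [hcard]
    refine lt_of_le_of_lt (Finset.card_insert_le _ _) (lt_of_le_of_lt ?_ hd)
    exact Nat.succ_le_succ (Finset.card_image_le.trans (by simp))
  rw [Polynomial.mem_nthRootsFinset hp.pos] at hζ
  simp only [Finset.mem_insert, Finset.mem_image, Finset.mem_univ, true_and, not_or, not_exists] at hζ'
  have hζ0 : ζ ≠ 0 := by rintro rfl; simp [hp.ne_zero] at hζ
  have geo : ∀ u : ℂ, u ^ p = 1 → u ≠ 1 → ∑ k ∈ Finset.range p, u ^ k = 0 := fun u hu hu1 => by
    have := geom_sum_mul u p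
    rw [hu, sub_self] at this
    exact (mul_eq_zero.1 this).resolve_right (sub_ne_zero.2 hu1)
  have e1 : ∑ k ∈ Finset.range p, χ (x ^ k) * ζ⁻¹ ^ k = 0 := by
    simp only [hs, Finset.sum_mul, ← mul_pow]
    rw [Finset.sum_comm]
    refine Finset.sum_eq_zero fun i _ => geo _ (by rw [mul_pow, hωp, inv_pow, hζ]; simp) ?_
    intro h
    exact hζ'.2 i (by field_simp at h; exact h)
  have e2 := geo ζ⁻¹ (by rw [inv_pow, hζ, inv_one]) (fun h => hζ'.1 (inv_eq_one.1 h))
  obtain ⟨q, rfl⟩ : ∃ q, p = q + 1 := ⟨p - 1, by have := hp.pos; omega⟩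
  rw [Finset.sum_range_succ'] at e1 e2
  have e3 : ∑ k ∈ Finset.range q, χ (x ^ (k + 1)) * ζ⁻¹ ^ (k + 1) = χ x * ∑ k ∈ Finset.range q, ζ⁻¹ ^ (k + 1) := by
    rw [Finset.mul_sum]
    refine Finset.sum_congr rfl fun k hk => ?_
    rw [hcon (k + 1) ((Nat.coprime_of_lt_prime (by omega) (by have := Finset.mem_range.1 hk; omega) hp).symm)]
  rw [e3] at e1
  simp only [pow_zero, mul_one] at e1 e2
  apply h1
  linear_combination χ x * e2 - e1

theorem comm_of_piNum [Finite G] {χ : G → ℂ} (hχ : IsCharacter G χ) (hf : ∀ g, χ g = χ 1 → g = 1)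
    (A : Subgroup G) (hA : ∀ p : ℕ, p.Prime → p ∣ Nat.card A → charDegree χ < p) :
    ∀ x ∈ A, ∀ y ∈ A, x * y = y * x := by
  intro x hx y hy
  have h := comm_mod_ker_of_degree_lt (hχ.restrict A) hA
    (Subgroup.commutator_mem_commutator (Subgroup.mem_top (⟨x, hx⟩ : A)) (Subgroup.mem_top (⟨y, hy⟩ : A)))
  rw [(hχ.restrict A).mem_charKer] at h
  have := hf _ h
  exact commutatorElement_eq_one_iff_mul_comm.1 this

theorem isPiHall_of_sub {π : Set ℕ} {H : Subgroup G} (hH : PiNum πᶜ H.index) {A : Subgroup H}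
    (hA : IsPiHall π A) : IsPiHall π (A.map H.subtype) := by
  have h := isPiHallOf_iff.1 (isPiHallOf_map_subtype.2 hA)
  refine isPiHall_iff.2 ⟨h.2.1, ?_⟩
  rw [← Subgroup.relIndex_mul_index h.1]
  exact h.2.2.mul hH

universe u

theorem blichfeldt_aux (n : ℕ) (m : ℕ) : ∀ (G : Type u) [Group G] [Finite G] (χ : G → ℂ), IsCharacter G χ →
    (∀ g, χ g = χ 1 → g = 1) → charDegree χ ≤ n → Nat.card G + charDegree χ = m →
    ∃ A : Subgroup G, IsPiHall {p | n + 1 < p} A := by
  induction m using Nat.strong_induction_on with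
  | _ m ih =>
  intro G _ _ χ hχ hf hn hm
  classical
  set π : Set ℕ := {p | n + 1 < p} with hπ
  have hsub : ∀ H : Subgroup G, H ≠ ⊤ → ∃ A : Subgroup H, IsPiHall π A := fun H hH =>
    ih _ (by
      have : Nat.card H < Nat.card G := by
        have h1 := H.card_mul_index
        have h2 := Subgroup.one_lt_index_of_ne_top hH
        have h3 : 0 < Nat.card H := Nat.card_pos
        nlinarith
      rw [charDegree_restrict]; omega) H (fun x => χ x) (hχ.restrict H)
      (fun g hg => Subtype.ext (hf _ hg)) hn rfl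
  have hquo : ∀ ψ : G → ℂ, IsCharacter G ψ → charDegree ψ ≤ n →
      Nat.card (G ⧸ charKer ψ) + charDegree ψ < m →
      (∃ A : Subgroup G, IsPiHall π A) ∨ commutator G ≤ charKer ψ := by
    intro ψ hψ hψn hlt
    obtain ⟨φ, hφ, he⟩ := hψ.exists_quotient (charKer ψ) (fun x hx => hψ.mem_charKer.1 hx)
    have hd : charDegree φ = charDegree ψ := by
      exact ((congrArg charDegree he).trans (charDegree_comp φ (QuotientGroup.mk' _))).symm
    have hφf : ∀ g, φ g = φ 1 → g = 1 := by
      intro g hg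
      obtain ⟨g, rfl⟩ := QuotientGroup.mk_surjective g
      rw [QuotientGroup.eq_one_iff, hψ.mem_charKer, congrFun he g, congrFun he 1]
      exact hg
    obtain ⟨B, hB⟩ := ih _ (by rw [hd]; exact hlt) (G ⧸ charKer ψ) φ hφ hφf (hd ▸ hψn) rfl
    have hB' := isPiHall_iff.1 hB
    by_cases ht : B.comap (QuotientGroup.mk' (charKer ψ)) = ⊤
    · right
      have hBt : B = ⊤ := by
        rw [← Subgroup.map_comap_eq_self_of_surjective (QuotientGroup.mk'_surjective _) B, ht,
          Subgroup.map_top_of_surjective _ (QuotientGroup.mk'_surjective _)]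
      have hc := comm_of_piNum hφ hφf B (fun p hp hd' => by
        have : n + 1 < p := hB'.1 p hp hd'
        omega)
      rw [commutator_def, Subgroup.commutator_le]
      intro a _ b _
      rw [← QuotientGroup.eq_one_iff]
      show QuotientGroup.mk' _ ⁅a, b⁆ = 1
      rw [map_commutatorElement, commutatorElement_eq_one_iff_mul_comm]
      exact hc _ (hBt ▸ trivial) _ (hBt ▸ trivial)
    · left
      obtain ⟨A, hA⟩ := hsub _ ht
      exact ⟨_, isPiHall_of_sub (by
        rw [Subgroup.index_comap_of_surjective _ (QuotientGroup.mk'_surjective _)]; exact hB'.2) hA⟩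
  have hsolv : commutator G ≤ Subgroup.center G → ∃ A : Subgroup G, IsPiHall π A := fun h => by
    haveI : Group.IsSolvable G := ⟨⟨2, by
      rw [eq_bot_iff]
      show ⁅commutator G, commutator G⁆ ≤ ⊥
      rw [Subgroup.commutator_le]
      intro a ha b _
      rw [Subgroup.mem_bot, commutatorElement_eq_one_iff_mul_comm]
      exact (Subgroup.mem_center_iff.1 (h ha) b).symm⟩⟩
    exact exists_isPiHall π G
  have hle : ∀ K : Subgroup G, [K.Normal] → Nat.card (G ⧸ K) ≤ Nat.card G := fun K _ =>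
    Nat.card_le_card_of_surjective _ QuotientGroup.mk_surjective
  obtain ⟨s, hs, hχs⟩ := hχ.exists_multiset
  by_cases hirr : IsIrrCharacter G χ
  swap
  · induction s using Multiset.induction_on with
    | empty =>
      refine hsolv fun g _ => ?_
      rw [hf g (by rw [hχs]; rfl)]; exact Subgroup.one_mem _
    | cons φ s _ =>
      have hφ := hs φ (Multiset.mem_cons_self _ _)
      have hψ : IsCharacter G s.sum := by
        have : ∀ t : Multiset (G → ℂ), (∀ ψ ∈ t, IsIrrCharacter G ψ) → IsCharacter G t.sum := by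
          intro t ht
          exact Multiset.sum_induction _ _ (fun a b ha hb => ha.add hb) isCharacter_zero
            (fun ψ h => (ht ψ h).isCharacter)
        exact this s fun ψ h => hs ψ (Multiset.mem_cons_of_mem h)
      rw [Multiset.sum_cons] at hχs
      set ψ := s.sum
      have hdeg : charDegree χ = charDegree φ + charDegree ψ := by
        rw [hχs]; exact hφ.isCharacter.charDegree_add hψ
      have h1 := hφ.charDegree_pos
      have h2 : 0 < charDegree ψ := by
        rw [Nat.pos_iff_ne_zero]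
        intro h0
        have : ψ = 0 := hψ.eq_zero_of_apply_one (by rw [← hψ.charDegree_eq, h0, Nat.cast_zero])
        rw [this, add_zero] at hχs
        exact hirr (hχs ▸ hφ)
      rcases hquo φ hφ.isCharacter (by omega) (by have := hle (charKer φ); omega) with h | h
      · exact h
      rcases hquo ψ hψ (by omega) (by have := hle (charKer ψ); omega) with h' | h'
      · exact h'
      refine hsolv fun g hg => ?_
      rw [hf g (by
        rw [hχs, Pi.add_apply, Pi.add_apply, hφ.isCharacter.mem_charKer.1 (h hg), hψ.mem_charKer.1 (h' hg)])]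
      exact Subgroup.one_mem _
  clear hs hχs s
  have hker : charKer χ = ⊥ := by
    rw [eq_bot_iff]; intro g hg; exact hf g (hχ.mem_charKer.1 hg)
  by_cases hZ : ∃ z ∈ Subgroup.center G, ∃ p, p.Prime ∧ p ∈ π ∧ orderOf z = p
  · obtain ⟨z, hz, p, hp, hpπ, hzp⟩ := hZ
    have hpn : n + 1 < p := hpπ
    have hcop : (charDegree χ).Coprime p :=
      (Nat.coprime_of_lt_prime hirr.charDegree_pos.ne' (by omega) hp).symm
    obtain ⟨a, -, ha⟩ := Nat.exists_mul_mod_eq_one_of_coprime hcop hp.one_lt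
    set c := χ z / χ 1 with hc
    have hzc : ∀ g, χ (z * g) = c * χ g := hirr.apply_mul_of_mem_center hz
    have hcp : c ^ p = 1 := by
      have : ∀ k : ℕ, χ (z ^ k) = c ^ k * χ 1 := fun k => by
        induction k with
        | zero => simp
        | succ k ih => rw [pow_succ', hzc, ih]; ring
      have h := this p
      rw [← hzp, pow_orderOf_eq_one] at h
      rw [← hzp]
      exact (mul_left_eq_self₀.1 h.symm).resolve_right hirr.apply_one_ne_zero
    have hc0 : c ≠ 0 := by rintro h; rw [h] at hcp; simp [hp.ne_zero] at hcp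
    let μ : G →* ℂˣ := (detHom χ ^ a)⁻¹
    have hψ := hirr.mul_monoidHom μ
    have hμz : (μ z : ℂ) = c⁻¹ := by
      simp only [μ, MonoidHom.inv_apply, MonoidHom.pow_apply, Units.val_inv_eq_inv_val, Units.val_pow_eq_pow_val]
      rw [detHom_of_scalar hχ hzc, ← pow_mul, ← Nat.div_add_mod (charDegree χ * a) p, ha, pow_add, pow_mul, hcp]
      simp
    have hdψ : charDegree (fun g => χ g * μ g) = charDegree χ :=
      charDegree_eq_of_apply_one (by simp [hχ.charDegree_eq])
    have hzk : z ∈ charKer (fun g => χ g * μ g) := by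
      rw [hψ.isCharacter.mem_charKer, hμz]
      have := hzc 1
      rw [mul_one] at this
      rw [this]; simp only [map_one, Units.val_one]; field_simp
    rcases hquo _ hψ.isCharacter (hdψ ▸ hn) (by
      rw [hdψ]
      have h1 : charKer (fun g => χ g * μ g) ≠ ⊥ := fun h => by
        rw [h, Subgroup.mem_bot] at hzk
        rw [hzk, orderOf_one] at hzp
        exact hp.ne_one hzp.symm
      have h2 := Subgroup.card_eq_card_quotient_mul_card_subgroup (charKer (fun g => χ g * μ g))
      have h3 := (Subgroup.one_lt_card_iff_ne_bot _).2 h1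
      have h4 : 0 < Nat.card (G ⧸ charKer (fun g => χ g * μ g)) := Nat.card_pos
      nlinarith) with h | h
    · exact h
    refine hsolv fun g hg => ?_
    rw [← charCenter_eq_center hker, hirr.mem_charCenter]
    have h1 := congrArg norm (hψ.isCharacter.mem_charKer.1 (h hg))
    simpa [norm_monoidHom_eq_one, hχ.norm_apply_one] using h1
  push Not at hZ
  have hcomm : ∀ A : Subgroup G, PiNum π (Nat.card A) → ∀ x ∈ A, ∀ y ∈ A, x * y = y * x := fun A hA =>
    comm_of_piNum hχ hf A fun p hp hd => by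
      have : n + 1 < p := hA p hp hd
      omega
  let S := (Nat.card G).primeFactors.filter (fun p => n + 1 < p)
  have hS : ∀ p, p ∈ S ↔ p.Prime ∧ p ∣ Nat.card G ∧ p ∈ π := fun p => by
    simp [S, hπ, and_assoc, Nat.card_pos.ne']
  obtain ⟨g, hg⟩ := exists_elt_of_irrational hirr S (fun p hp => ((hS p).1 hp).1) (fun p hp => by
    obtain ⟨h1, h2, h3⟩ := (hS p).1 hp
    haveI := Fact.mk h1
    obtain ⟨x, hx⟩ := exists_prime_orderOf_dvd_card' p h2
    have h4 : n + 1 < p := h3
    obtain ⟨k, hk, hne⟩ := exists_pow_ne_of_small hχ h1 (by omega) (x := x) (hx ▸ pow_orderOf_eq_one x)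
      (fun h => h1.ne_one (by rw [← hx, hf x h, orderOf_one]))
    exact ⟨x, k, 1, by rw [pow_one, ← hx, pow_orderOf_eq_one], hk, hne⟩)
  have key : ∀ T : Finset ℕ, T ⊆ S → ∃ A : Subgroup G, PiNum π (Nat.card A) ∧ (∀ p ∈ S, p ∣ Nat.card A) ∧
      ∀ p ∈ T, ¬ p ∣ A.index := by
    intro T hT
    induction T using Finset.induction_on with
    | empty =>
      obtain ⟨B, hB⟩ := exists_isPiHallOf π (Subgroup.zpowers g)
      refine ⟨B, (isPiHallOf_iff.1 hB).2.1, fun p hp => ?_, by simp⟩
      refine card_dvd_of_isPiHallOf hB (by simpa using piNum_prime_pow ((hS p).1 hp).1 ((hS p).1 hp).2.2 1) ?_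
      rw [Nat.card_zpowers]; exact hg p hp
    | insert p T hp ih2 =>
      obtain ⟨A, hA1, hA2, hA3⟩ := ih2 ((Finset.subset_insert p T).trans hT)
      obtain ⟨h1, h2, h3⟩ := (hS p).1 (hT (Finset.mem_insert_self p T))
      haveI := Fact.mk h1
      obtain ⟨y, hy⟩ := exists_prime_orderOf_dvd_card' p (hA2 p (hT (Finset.mem_insert_self p T)))
      rw [← Subgroup.orderOf_coe] at hy
      let C := Subgroup.centralizer ({(y : G)} : Set G)
      have hC : C ≠ ⊤ := fun h => hZ y (by
        rw [Subgroup.mem_center_iff]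
        intro g
        have : g ∈ C := h ▸ trivial
        exact (Subgroup.mem_centralizer_singleton_iff.1 this)) p h1 h3 hy
      have hAC : A ≤ C := fun a ha => Subgroup.mem_centralizer_singleton_iff.2 (hcomm A hA1 a ha y y.2)
      obtain ⟨P, hP⟩ := (show IsPGroup p (Subgroup.zpowers (y : G)) from
        IsPGroup.of_card (n := 1) (by rw [Nat.card_zpowers, hy, pow_one])).exists_le_sylow
      have hPC : (P : Subgroup G) ≤ C := fun a ha => Subgroup.mem_centralizer_singleton_iff.2
        (hcomm P (piNum_of_isPGroup h1 P.isPGroup' h3) a ha y (hP (Subgroup.mem_zpowers _)))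
      obtain ⟨B, hB⟩ := hsub C hC
      have hB' := isPiHallOf_map_subtype.2 hB
      have hB2 := isPiHallOf_iff.1 hB'
      refine ⟨_, hB2.2.1, fun q hq => ?_, fun q hq => ?_⟩
      · exact card_dvd_of_isPiHallOf hB' (by simpa using piNum_prime_pow ((hS q).1 hq).1 ((hS q).1 hq).2.2 1)
          ((hA2 q hq).trans (Subgroup.card_dvd_of_le hAC))
      · obtain ⟨q1, q2, q3⟩ := (hS q).1 (hT hq)
        rw [← Subgroup.relIndex_mul_index hB2.1, q1.dvd_mul, not_or]
        refine ⟨fun h => hB2.2.2 q q1 h q3, fun h => ?_⟩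
        rcases Finset.mem_insert.1 hq with rfl | hq'
        · exact P.not_dvd_index (h.trans (Subgroup.index_dvd_of_le hPC))
        · exact hA3 q hq' (h.trans (Subgroup.index_dvd_of_le hAC))
  obtain ⟨A, hA1, -, hA3⟩ := key S subset_rfl
  exact ⟨A, isPiHall_iff.2 ⟨hA1, fun q hq hd hq' => hA3 q ((hS q).2 ⟨hq, hd.trans A.index_dvd_card, hq'⟩) hd⟩⟩

theorem blichfeldt [Finite G] {χ : G → ℂ} (hχ : IsCharacter G χ) (hf : ∀ g, χ g = χ 1 → g = 1) :
    ∃ A : Subgroup G, (∀ x ∈ A, ∀ y ∈ A, x * y = y * x) ∧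
      (∀ q : ℕ, q.Prime → q ∣ Nat.card A → charDegree χ + 1 < q) ∧
      ∀ q : ℕ, q.Prime → q ∣ A.index → q ≤ charDegree χ + 1 := by
  obtain ⟨A, hA⟩ := blichfeldt_aux (charDegree χ) _ G χ hχ hf le_rfl rfl
  have h := isPiHall_iff.1 hA
  exact ⟨A, comm_of_piNum hχ hf A (fun p hp hd => Nat.lt_of_succ_lt (h.1 p hp hd)), h.1,
    fun q hq hd => not_lt.1 (h.2 q hq hd)⟩

theorem index_normalCore_dvd_factorial [Finite G] (H : Subgroup G) :
    H.normalCore.index ∣ H.index.factorial := by
  rw [Subgroup.normalCore_eq_ker, Subgroup.index_ker, Subgroup.index_eq_card, ← Nat.card_perm]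
  exact Subgroup.card_subgroup_dvd_card (MulAction.toPermHom G (G ⧸ H)).range

theorem exists_comm_of_monomial [Fintype G] (hM : ∀ χ : G → ℂ, IsIrrCharacter G χ → IsMonomialChar χ)
    {χ : G → ℂ} (hχ : IsCharacter G χ) : ∃ B : Subgroup G, B.Normal ∧ B.index ∣ (charDegree χ).factorial ∧
      ∀ x ∈ B, ∀ y ∈ B, χ ⁅x, y⁆ = χ 1 := by
  refine hχ.induction_on (P := fun χ => ∃ B : Subgroup G, B.Normal ∧ B.index ∣ (charDegree χ).factorial ∧
      ∀ x ∈ B, ∀ y ∈ B, χ ⁅x, y⁆ = χ 1) ⟨⊤, inferInstance, by simp, fun _ _ _ _ => rfl⟩ ?_ ?_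
  · intro ψ hψ
    obtain ⟨H, lam, rfl⟩ := hM ψ hψ
    refine ⟨H.normalCore, inferInstance, ?_, fun x hx y hy => ?_⟩
    · rw [charDegree_indFun H (H05.isCharacter_monoidHom lam), charDegree_eq_of_apply_one (n := 1) (by simp), mul_one]
      exact index_normalCore_dvd_factorial H
    · rw [indFun_apply_eq_one_iff H (H05.isCharacter_monoidHom lam) (isIrrCharacter_monoidHom lam).ne_zero]
      intro g
      have hx' : g⁻¹ * x * g ∈ H := by simpa using hx g⁻¹
      have hy' : g⁻¹ * y * g ∈ H := by simpa using hy g⁻¹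
      have e : g⁻¹ * ⁅x, y⁆ * g = ((⁅(⟨_, hx'⟩ : H), (⟨_, hy'⟩ : H)⁆ : H) : G) := by
        simp only [commutatorElement_def, Subgroup.coe_mul, Subgroup.coe_inv]; group
      refine ⟨e ▸ Subtype.prop _, ?_⟩
      have e2 : ∀ h, (⟨g⁻¹ * ⁅x, y⁆ * g, h⟩ : H) = ⁅(⟨_, hx'⟩ : H), (⟨_, hy'⟩ : H)⁆ := fun _ => Subtype.ext e
      rw [e2, map_commutatorElement, commutatorElement_eq_one_iff_mul_comm.2 (mul_comm _ _), map_one]
  · rintro φ ψ hφ hψ ⟨B, hB, hB1, hB2⟩ ⟨C, hC, hC1, hC2⟩
    refine ⟨B ⊓ C, inferInstance, ?_, fun x hx y hy => ?_⟩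
    · rw [hφ.charDegree_add hψ, ← Subgroup.relIndex_mul_index (inf_le_right (a := B)), Subgroup.inf_relIndex_right]
      exact (mul_dvd_mul ((B.relIndex_dvd_index_of_normal C).trans hB1) hC1).trans
        (Nat.factorial_mul_factorial_dvd_factorial_add _ _)
    · rw [Pi.add_apply, Pi.add_apply, hB2 x hx.1 y hy.1, hC2 x hx.2 y hy.2]

theorem pow_dvd_relIndex {A U : Subgroup G} {q k : ℕ} (hq : q.Prime) (h : q ^ k ∣ A.index) (hU : ¬ q ∣ U.index) :
    q ^ k ∣ A.relIndex U := by
  have h1 : A.index ∣ A.relIndex U * U.index := by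
    rw [← Subgroup.inf_relIndex_right, Subgroup.relIndex_mul_index inf_le_right]
    exact Subgroup.index_dvd_of_le inf_le_left
  exact (Nat.Coprime.pow_left k ((Nat.Prime.coprime_iff_not_dvd hq).2 hU)).dvd_of_dvd_mul_right (h.trans h1)

theorem jordan_bound [Finite G] {χ : G → ℂ} (hχ : IsCharacter G χ) (hf : ∀ g, χ g = χ 1 → g = 1) :
    ∃ A : Subgroup G, A.Normal ∧ (∀ x ∈ A, ∀ y ∈ A, x * y = y * x) ∧ A.index ≤ (charDegree χ).factorial *
      12 ^ (charDegree χ * (Nat.primeCounting (charDegree χ + 1) + 1)) := by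
  classical
  set n := charDegree χ with hn
  obtain ⟨A, hA, hA1, hA2⟩ := jordan hχ hf
  obtain ⟨H, hH1, -, hH2⟩ := blichfeldt hχ hf
  refine ⟨A, hA, hA1, ?_⟩
  have h1 : ∀ p : ℕ, p.Prime → ∃ (U : Subgroup G) (e : ℕ), ¬ p ∣ U.index ∧ p ^ e ∣ n.factorial ∧
      A.relIndex U ≤ p ^ e * 12 ^ n := by
    intro p hp
    haveI := Fact.mk hp
    obtain ⟨P⟩ : Nonempty (Sylow p G) := inferInstance
    letI := Fintype.ofFinite (P : Subgroup G)
    haveI := P.isPGroup'.isNilpotent
    obtain ⟨B, -, hB1, hB2⟩ := exists_comm_of_monomial (fun _ h => isMonomialChar_of_nilpotent h)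
      (hχ.restrict (P : Subgroup G))
    obtain ⟨e, he⟩ := P.isPGroup'.index B
    refine ⟨P, e, P.not_dvd_index, he ▸ hB1, ?_⟩
    set B' := B.map (P : Subgroup G).subtype
    have hle : B' ≤ P := Subgroup.map_subtype_le _
    have hB' : B'.relIndex P = p ^ e := by
      rw [← he, Subgroup.relIndex, Subgroup.subgroupOf, Subgroup.comap_map_eq_self_of_injective (Subgroup.subtype_injective _)]
    have hb := hA2 B' (by
      rintro _ ⟨x, hx, rfl⟩ _ ⟨y, hy, rfl⟩
      exact commutatorElement_eq_one_iff_mul_comm.1 (hf _ (hB2 x hx y hy)))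
    have h3 : A.relIndex P ≤ (A ⊓ B').relIndex P :=
      Subgroup.relIndex_le_of_le_left inf_le_left Subgroup.index_ne_zero_of_finite
    rw [← Subgroup.relIndex_mul_relIndex (A ⊓ B') B' P inf_le_right hle, Subgroup.inf_relIndex_right, hB', mul_comm] at h3
    exact h3.trans (Nat.mul_le_mul_left _ hb)
  choose! U e hU he hb using h1
  let S := (Finset.range (n + 2)).filter Nat.Prime
  have hS : ∀ p, p ∈ S ↔ p < n + 2 ∧ p.Prime := fun p => by simp [S]
  have hcard : S.card = Nat.primeCounting (n + 1) := by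
    rw [Nat.primeCounting, Nat.primeCounting', Nat.count_eq_card_filter_range]
  have hd : A.index ∣ (∏ p ∈ S, A.relIndex (U p)) * A.relIndex H := by
    rw [Nat.dvd_iff_prime_pow_dvd_dvd]
    intro q k hq hqk
    by_cases hqn : q ≤ n + 1
    · exact ((pow_dvd_relIndex hq hqk (hU q hq)).trans
        (Finset.dvd_prod_of_mem (fun p => A.relIndex (U p)) ((hS q).2 ⟨by omega, hq⟩))).mul_right _
    · exact (pow_dvd_relIndex hq hqk (fun h => hqn (hH2 q hq h))).mul_left _
  refine (Nat.le_of_dvd (Nat.mul_pos (Finset.prod_pos fun p _ => Nat.pos_of_ne_zero Subgroup.index_ne_zero_of_finite)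
    (Nat.pos_of_ne_zero Subgroup.index_ne_zero_of_finite)) hd).trans ?_
  have h2 : ∏ p ∈ S, A.relIndex (U p) ≤ ∏ p ∈ S, (p ^ e p * 12 ^ n) :=
    Finset.prod_le_prod' fun p hp => hb p ((hS p).1 hp).2
  have h3 : ∏ p ∈ S, p ^ e p ≤ n.factorial := by
    refine Nat.le_of_dvd (Nat.factorial_pos n) (Finset.prod_dvd_of_isRelPrime ?_ fun p hp => he p ((hS p).1 hp).2)
    intro p hp q hq hne
    exact Nat.coprime_iff_isRelPrime.1 (Nat.coprime_pow_primes _ _ ((hS p).1 hp).2 ((hS q).1 hq).2 hne)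
  rw [Finset.prod_mul_distrib, Finset.prod_const, hcard, ← pow_mul] at h2
  rw [mul_add, mul_one, pow_add, ← mul_assoc]
  exact Nat.mul_le_mul (h2.trans (Nat.mul_le_mul_right _ h3)) (hA2 H hH1)

end H07
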