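import Cfsg.Agent.H07.Misc3
import Cfsg.Agent.H07.Deg4
import Cfsg.Agent.H07.FTB
import Cfsg.Agent.H07.FR
import Cfsg.Agent.H07.Misc2
import Cfsg.Agent.S0168
import Cfsg.Agent.S4458

/-! Minimal non-abelian quotients and character degrees (Isaacs 12.3, 12.4). -/

namespace H07
open Cfsg H05 H06 H01
open scoped ComplexConjugate commutatorElement Pointwise

variable {G : Type*} [Group G] {χ : G → ℂ}

theorem exists_comm_eq [Finite G] {N : Subgroup G} [hN : N.Normal] {x : G} (hx : ∀ h ∈ N, x * h = h * x → h = 1)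
    {n : G} (hn : n ∈ N) : ∃ m ∈ N, ⁅x, m⁆ = n := by
  let f : N → N := fun h => ⟨⁅x, h⁆, N.mul_mem (hN.conj_mem _ h.2 x) (N.inv_mem h.2)⟩
  have hf : Function.Injective f := fun a b e => by
    have e1 : ⁅x, (a : G)⁆ = ⁅x, (b : G)⁆ := congrArg Subtype.val e
    have e2 := hx ((b : G)⁻¹ * a) (N.mul_mem (N.inv_mem b.2) a.2) (by
      calc x * ((b : G)⁻¹ * a) = (b : G)⁻¹ * ⁅x, (b : G)⁆⁻¹⁻¹⁻¹⁻¹⁻¹ * x * a := by group
        _ = (b : G)⁻¹ * ⁅x, (a : G)⁆⁻¹⁻¹⁻¹⁻¹⁻¹ * x * a := by rw [e1]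
        _ = _ := by group)
    exact Subtype.ext (inv_mul_eq_one.1 e2).symm
  obtain ⟨a, ha⟩ := Finite.injective_iff_surjective.1 hf ⟨n, hn⟩
  exact ⟨a, a.2, congrArg Subtype.val ha⟩

theorem jna_fpf [Finite G] (hJ : ∀ M : Subgroup G, M.Normal → M ≠ ⊥ → commutator G ≤ M)
    (hab : ∀ a ∈ commutator G, ∀ b ∈ commutator G, a * b = b * a) (hc : ¬ commutator G ≤ Subgroup.center G) :
    ∀ x ∉ commutator G, ∀ n ∈ commutator G, x * n = n * x → n = 1 := by
  set N := commutator G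
  have hN : ∀ a b : G, ⁅a, b⁆ ∈ N := fun a b => Subgroup.commutator_mem_commutator (Subgroup.mem_top a) (Subgroup.mem_top b)
  have h0 : ∀ (M : Subgroup G) [M.Normal] (x : G), (∀ a ∈ M, ∀ b ∈ N, a * b = b * a) →
      (M ⊓ Subgroup.centralizer {x}).Normal := fun M hM x h => ⟨fun n hn g => ⟨hM.conj_mem n hn.1 g,
    Subgroup.mem_centralizer_singleton_iff.2 (by
      calc g * n * g⁻¹ * x = g * (n * ⁅g⁻¹, x⁆) * x * g⁻¹ := by group
        _ = g * ⁅g⁻¹, x⁆ * (n * x) * g⁻¹ := by rw [h n hn.1 _ (hN _ _)]; group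
        _ = _ := by rw [Subgroup.mem_centralizer_singleton_iff.1 hn.2]; group)⟩⟩
  have h1 : ∀ x ∉ Subgroup.centralizer (N : Set G), ∀ n ∈ N, x * n = n * x → n = 1 := fun x hx n hn e => by
    by_contra h
    exact hx fun m hm => Subgroup.mem_centralizer_singleton_iff.1 (hJ _ (h0 N x hab)
      (Subgroup.ne_bot_iff_exists_ne_one.2 ⟨⟨n, hn, Subgroup.mem_centralizer_singleton_iff.2 e.symm⟩,
        fun e => h (congrArg Subtype.val e)⟩) hm).2
  obtain ⟨y, hy⟩ : ∃ y, y ∉ Subgroup.centralizer (N : Set G) := by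
    by_contra h
    push Not at h
    exact hc fun n hn => Subgroup.mem_center_iff.2 fun g => (h g n hn).symm
  have h2 : Subgroup.centralizer (N : Set G) ⊓ Subgroup.centralizer {y} = ⊥ := by
    by_contra h
    exact hy fun m hm => Subgroup.mem_centralizer_singleton_iff.1
      (hJ _ (h0 _ y fun a ha b hb => (ha b hb).symm) h hm).2
  refine fun x hx => h1 x fun h => hx ?_
  obtain ⟨m, hm, e⟩ := exists_comm_eq (h1 y hy) (hN y x)
  have : m⁻¹ * x ∈ Subgroup.centralizer (N : Set G) ⊓ Subgroup.centralizer {y} :=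
    ⟨Subgroup.mul_mem _ (Subgroup.inv_mem _ fun a ha => hab a ha m hm) h, Subgroup.mem_centralizer_singleton_iff.2 (by
      calc m⁻¹ * x * y = m⁻¹ * ⁅y, x⁆⁻¹ * y * x := by group
        _ = m⁻¹ * ⁅y, m⁆⁻¹ * y * x := by rw [e]
        _ = _ := by group)⟩
  rw [h2, Subgroup.mem_bot, inv_mul_eq_one] at this
  exact this ▸ hm

theorem coprime_index_of_fpf [Finite G] {N : Subgroup G} [hN : N.Normal]
    (h : ∀ x ∉ N, ∀ n ∈ N, x * n = n * x → n = 1) : N.index.Coprime (Nat.card N) := by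
  refine Nat.coprime_of_dvd fun p hp h1 h2 => ?_
  haveI := Fact.mk hp
  obtain ⟨P⟩ : Nonempty (Sylow p G) := inferInstance
  have h3 := (H26.isSyl_top P).inf_of_le (N := N) le_top (le_normalizer_of_normal _ _)
  obtain ⟨z, hz, hz1, hz2⟩ := H04.exists_fixed_of_normalizes P.2 h3.pg
    (le_normalizer_inf Subgroup.le_normalizer (le_normalizer_of_normal _ _)) (h3.ne_bot h2)
  exact P.not_dvd_index (h1.trans (Subgroup.index_dvd_of_le fun x hx =>
    by_contra fun hx' => hz1 (h x hx' z hz.2 (hz2 x hx))))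

/-- `G / K` is a Frobenius group with abelian kernel `N / K` and abelian complement. -/
structure FSec (K N : Subgroup G) [N.Normal] : Prop where
  lt : K < N
  ne_top : N ≠ ⊤
  comm : commutator G ≤ N
  ab : ⁅N, N⁆ ≤ K
  fpf : ∀ x ∉ N, ∀ φ : Hat N, φ ∈ ann (K.subgroupOf N) → cjH N x φ = φ → φ = 1
  cop : N.index.Coprime (K.relIndex N)

theorem na_cases [Finite G] (hG : ¬ IsMulCommutative G) : ∃ (K : Subgroup G) (_ : K.Normal), ¬ commutator G ≤ K ∧
    (∀ M : Subgroup G, M.Normal → K < M → commutator G ≤ M) ∧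
    ((∃ β : IrrCharacter G, charDegree β.1 ≠ 1 ∧ commutator G ≤ charCenter β.1) ∨
      (∃ (N : Subgroup G) (_ : N.Normal), FSec K N) ∨ ¬ ⁅commutator G, commutator G⁆ ≤ K) := by
  obtain ⟨K, ⟨hK, h1⟩, h2⟩ := (Finite.to_wellFoundedGT (α := Subgroup G)).wf.has_min
    {K | K.Normal ∧ ¬ commutator G ≤ K} ⟨⊥, inferInstance, fun h => hG ⟨⟨fun a b =>
      commutatorElement_eq_one_iff_mul_comm.1 (h (Subgroup.commutator_mem_commutator trivial trivial))⟩⟩⟩
  have h3 : ∀ M : Subgroup G, M.Normal → K < M → commutator G ≤ M := fun M hM h => by_contra fun h' => h2 M ⟨hM, h'⟩ h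
  refine ⟨K, hK, h1, h3, or_iff_not_imp_left.2 fun h4 => or_iff_not_imp_right.2 fun h5 => ?_⟩
  push Not at h4 h5
  let π := QuotientGroup.mk' K
  have hπ : Function.Surjective π := QuotientGroup.mk'_surjective K
  have e : commutator (G ⧸ K) = (commutator G).map π := by
    rw [commutator, commutator, Subgroup.map_commutator, Subgroup.map_top_of_surjective _ hπ]
  have e1 : (commutator (G ⧸ K)).comap π = commutator G ⊔ K := by rw [e, Subgroup.comap_map_eq, QuotientGroup.ker_mk']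
  have hJ : ∀ M : Subgroup (G ⧸ K), M.Normal → M ≠ ⊥ → commutator _ ≤ M := fun M hM h => by
    rw [e, Subgroup.map_le_iff_le_comap]
    refine h3 _ inferInstance (lt_of_le_of_ne ((QuotientGroup.ker_mk' K).ge.trans (M.ker_le_comap π)) fun h' => h ?_)
    rw [← Subgroup.map_comap_eq_self_of_surjective hπ M, ← h', Subgroup.map_eq_bot_iff, QuotientGroup.ker_mk']
  have hab : ⁅commutator (G ⧸ K), commutator (G ⧸ K)⁆ = ⊥ := by
    rwa [e, ← Subgroup.map_commutator, Subgroup.map_eq_bot_iff, QuotientGroup.ker_mk']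
  have hab' : ∀ a ∈ commutator (G ⧸ K), ∀ b ∈ commutator (G ⧸ K), a * b = b * a := fun a ha b hb =>
    commutatorElement_eq_one_iff_mul_comm.1 (hab.le (Subgroup.commutator_mem_commutator ha hb))
  have hne : commutator (G ⧸ K) ≠ ⊥ := fun h => h1 (by rwa [e, Subgroup.map_eq_bot_iff, QuotientGroup.ker_mk'] at h)
  have h6 := jna_fpf hJ hab' fun h => by
    obtain ⟨β, hβ⟩ := exists_deg_ne_one (G := G ⧸ K) fun h => hne (eq_bot_iff.2 (Subgroup.commutator_le.2
      fun a _ b _ => commutatorElement_eq_one_iff_mul_comm.2 (h.1.1 a b)))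
    refine h4 (inflIrr K β) hβ fun x hx => mem_charCenter_iff.2 fun g => (inflIrr K β).2.isCharacter.mem_charKer.2 ?_
    exact congrArg β.1 (by simpa [mul_inv_eq_iff_eq_mul] using Subgroup.mem_center_iff.1 (h (e ▸ ⟨x, hx, rfl⟩)) g)
  refine ⟨(commutator (G ⧸ K)).comap π, inferInstance, e1 ▸ right_lt_sup.2 h1, fun h => hne ?_, e1 ▸ le_sup_left,
    ?_, fun x hx φ hφ h => DFunLike.ext _ _ fun n => ?_, ?_⟩
  · have := (Subgroup.comap_injective hπ (h.trans (Subgroup.comap_top π).symm))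
    rw [← hab, this]; exact this.symm
  · refine le_trans ?_ (QuotientGroup.ker_mk' K).le
    rw [← Subgroup.map_eq_bot_iff, Subgroup.map_commutator, Subgroup.map_comap_eq_self_of_surjective hπ, hab]
  · obtain ⟨m, hm, h7⟩ := exists_comm_eq (h6 _ hx) n.2
    obtain ⟨m, rfl⟩ := hπ m
    have h8 := hφ ((MulAut.conjNormal x ⟨m, hm⟩ * (⟨m, hm⟩ : (commutator (G ⧸ K)).comap π)⁻¹)⁻¹ * n)
      (QuotientGroup.eq (a := ⁅x, m⁆).1 h7)
    rwa [map_mul, map_inv, map_mul, map_inv, ← cjH_apply, h, mul_inv_cancel, inv_one, one_mul] at h8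
  · have := coprime_index_of_fpf h6
    rwa [← Subgroup.index_comap_of_surjective _ hπ, ← Subgroup.map_comap_eq_self_of_surjective hπ (commutator _),
      ← H24.relIndex_eq_card_map, Subgroup.map_comap_eq_self_of_surjective hπ] at this

theorem index_dvd_deg_sq [Finite G] (hχ : IsIrrCharacter G χ) (N : Subgroup G) [N.Normal]
    (h : ∀ g, g ∉ N → χ g = 0) : N.index ∣ charDegree χ ^ 2 := by
  classical
  letI := Fintype.ofFinite G
  obtain ⟨θ, h1, h2⟩ := exists_irr_under N hχ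
  obtain ⟨a, ha⟩ := (hχ.isCharacter.restrict N).exists_classInner_eq_nat h1.isCharacter
  have h3 := clifford_norm N hχ h1 h2
  have h4 := clifford_degree N hχ h1 h2
  rw [ha, (norm_res_eq_index_iff N hχ).2 h] at h3
  rw [ha, ← hχ.charDegree_eq, ← h1.charDegree_eq] at h4
  refine ⟨(inertia N θ).index * charDegree θ ^ 2, ?_⟩
  rw [show N.index = a ^ 2 * (inertia N θ).index by exact_mod_cast h3,
    show charDegree χ = a * (inertia N θ).index * charDegree θ by exact_mod_cast h4]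
  ring

namespace FSec
variable [Finite G] {K N : Subgroup G} [hK : K.Normal] [hN : N.Normal] (h : FSec K N)
include h

omit h [Finite G] in
theorem cj_mem (g : G) {φ : Hat N} (hφ : φ ∈ ann (K.subgroupOf N)) : cjH N g φ ∈ ann (K.subgroupOf N) :=
  fun w hw => hφ _ (hK.conj_mem _ hw g)

omit hK in
theorem exists_ann {n : N} (hn : (n : G) ∉ K) [K.Normal] : ∃ φ ∈ ann (K.subgroupOf N), φ n ≠ 1 := by
  obtain ⟨φ, hφ⟩ := exists_hom_apply_ne_one (G := N ⧸ K.subgroupOf N) (x := n) fun h' => hn (by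
    have : commutator (N ⧸ K.subgroupOf N) ≤ ⊥ := Subgroup.commutator_le.2 fun a _ b _ => by
      obtain ⟨a, rfl⟩ := QuotientGroup.mk_surjective a
      obtain ⟨b, rfl⟩ := QuotientGroup.mk_surjective b
      exact (QuotientGroup.eq_one_iff (N := K.subgroupOf N) ⁅a, b⁆).2
        (h.ab (Subgroup.commutator_mem_commutator a.2 b.2))
    exact (QuotientGroup.eq_one_iff n).1 (this h'))
  exact ⟨φ.comp (QuotientGroup.mk' _), fun w hw => show φ w = 1 by rw [(QuotientGroup.eq_one_iff w).2 hw, map_one], hφ⟩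

/-- Isaacs 12.4 -/
theorem deg_or_vanish {ψ : N → ℂ} (hψ : IsIrrCharacter N ψ) :
    (∃ χ : IrrCharacter G, charDegree χ.1 = N.index * charDegree ψ) ∨ ∀ n : N, (n : G) ∉ K → ψ n = 0 := by
  classical
  letI := Fintype.ofFinite G
  refine or_iff_not_imp_left.2 fun h1 n hn => ?_
  let A := ann (K.subgroupOf N)
  let m : Hat N → N → ℂ := fun φ x => ψ x * φ x
  have hm : ∀ g φ, conjFun N g (m φ) = fun x => conjFun N g ψ x * cjH N g φ x := fun _ _ => rfl
  have h2 : ∀ φ, ∃ g, g ∉ N ∧ conjFun N g (m φ) = m φ := fun φ => by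
    by_contra h3
    push Not at h3
    refine h1 ⟨⟨_, isIrr_indFun_of_inertia_le N (hψ.mul_monoidHom φ) fun g hg => by_contra fun h => h3 g h hg⟩, ?_⟩
    exact (charDegree_indFun N (hψ.mul_monoidHom φ).isCharacter).trans
      (congrArg _ (deg_mul_hom hψ.isCharacter φ))
  choose t ht ht' using h2
  let S : G → Prop := fun g => ∃ φ ∈ A, conjFun N g ψ = m φ
  have key : ∀ g, g ∉ N → S g → ∀ φ ∈ A, m (cjH N g φ / φ) = ψ → m φ = ψ := by
    rintro g hg ⟨μ, -, hμ⟩ φ hφ e
    let f : {ν : A // m ν = ψ} → {ν : A // m ν = ψ} := fun ν => ⟨⟨cjH N g ν / ν, A.div_mem (cj_mem g ν.1.2) ν.1.2⟩, by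
      have := hm g ν
      rw [ν.2, hμ] at this
      ext x
      have a1 := congrFun this x
      have a2 := congrFun ν.2 x
      have : ((cjH N g ν / ν : Hat N) x : ℂ) = cjH N g ν x / ν.1.1 x := Units.val_div_eq_div_val _ _
      simp only [m] at a1 a2 ⊢
      rw [this, mul_div_assoc', div_eq_iff (Units.ne_zero _), a2]
      refine mul_right_cancel₀ (Units.ne_zero (μ x)) ?_
      rw [mul_right_comm, ← a1]⟩
    have hi : ∀ a ∈ A, ∀ b ∈ A, cjH N g a / a = cjH N g b / b → a = b := fun a ha b hb e => div_eq_one.1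
      (h.fpf g hg _ (A.div_mem ha hb) (by rw [map_div, div_eq_div_iff_div_eq_div]; exact e))
    obtain ⟨ν, hν⟩ := Finite.injective_iff_surjective.1 (show Function.Injective f from fun a b e =>
      Subtype.ext (Subtype.ext (hi _ a.1.2 _ b.1.2 (congrArg (·.1.1) e))))
      ⟨⟨_, A.div_mem (cj_mem g hφ) hφ⟩, e⟩
    exact hi _ ν.1.2 _ hφ (congrArg (·.1.1) hν) ▸ ν.2
  have hdiv : ∀ a b : Hat N, m a = m b ↔ m (a / b) = ψ := fun a b => by
    refine funext_iff.trans (Iff.trans (forall_congr' fun x => ?_) funext_iff.symm)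
    have : ((a / b : Hat N) x : ℂ) = a x / b x := Units.val_div_eq_div_val _ _
    simp only [m]
    rw [this, mul_div_assoc', div_eq_iff (Units.ne_zero _)]
  have hS : ∀ φ ∈ A, S (t φ) := fun φ hφ => ⟨φ / cjH N (t φ) φ, A.div_mem hφ (cj_mem _ hφ), funext fun x => by
    have a1 := congrFun ((hm _ _).symm.trans (ht' φ)) x
    have : ((φ / cjH N (t φ) φ : Hat N) x : ℂ) = φ x / cjH N (t φ) φ x := Units.val_div_eq_div_val _ _
    simp only [m] at a1 ⊢
    rw [this, mul_div_assoc', eq_div_iff (Units.ne_zero _), a1]⟩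
  have hq : ∀ a b : G, (a : G ⧸ N) = b → ∀ φ, conjFun N a (m φ) = conjFun N b (m φ) ∧ cjH N a φ = cjH N b φ :=
    fun a b e φ => by
      obtain ⟨x, hx, rfl⟩ : ∃ x ∈ N, b = x * a := ⟨b * a⁻¹, hN.mem_comm (QuotientGroup.eq.1 e), by group⟩
      rw [conjFun_mul, cjH_mul, mem_inH.1 (le_inH φ hx), conjFun_of_mem N (θ := m φ) (hψ.mul_monoidHom φ).isClassFunction hx]
      exact ⟨rfl, rfl⟩
  have m1 : m 1 = ψ := funext fun x => mul_one _
  obtain ⟨ν, hν, hν'⟩ := h.exists_ann hn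
  by_contra h0
  have hν0 : m ν ≠ ψ := fun e => hν' (Units.ext (mul_left_cancel₀ h0 ((congrFun e n).trans (mul_one _).symm)))
  let Ω := {ω // ∃ φ ∈ A, m φ = ω}
  let X := {q : G ⧸ N // S q.out}
  haveI : Finite Ω := Finite.of_surjective (fun φ : A => (⟨_, φ, φ.2, rfl⟩ : Ω)) fun ⟨_, φ, hφ, e⟩ =>
    ⟨⟨φ, hφ⟩, Subtype.ext e⟩
  have hS' : ∀ a, S a → S (a : G ⧸ N).out := fun a ⟨φ, hφ, e⟩ =>
    ⟨φ, hφ, m1 ▸ (hq _ a (QuotientGroup.out_eq' _) 1).1.trans (m1.symm ▸ e)⟩
  let f : Ω → X := fun ω => ⟨t ω.2.choose, hS' _ (hS _ ω.2.choose_spec.1)⟩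
  have hf : Function.Injective f := fun a b e => by
    have a1 := a.2.choose_spec
    have b1 := b.2.choose_spec
    refine Subtype.ext (a1.2.symm.trans (((hdiv _ _).2 (key _ (ht _) (hS _ a1.1) _ (A.div_mem a1.1 b1.1) ?_)).trans b1.2))
    have a2 := (hm _ _).symm.trans (ht' a.2.choose)
    have b2 := (hm _ _).symm.trans ((hq _ _ (congrArg Subtype.val e) _).1.trans (ht' b.2.choose))
    rw [map_div, div_div_div_comm, ← hdiv]
    ext x
    have a3 := congrFun a2 x
    have b3 := congrFun b2 x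
    have c1 : ∀ a b : Hat N, ((a / b : Hat N) x : ℂ) = a x / b x := fun _ _ => Units.val_div_eq_div_val _ _
    simp only [m] at a3 b3 ⊢
    rw [c1, c1, mul_div_assoc', mul_div_assoc', div_eq_div_iff (Units.ne_zero _) (Units.ne_zero _), mul_right_comm,
      ← b3, mul_right_comm (ψ x), ← a3, mul_right_comm]
  let g : X → Ω := fun q => ⟨_, cjH N q.1.out ν, cj_mem _ hν, rfl⟩
  have hinv : ∀ a, S a → ∀ φ, m (cjH N a φ) = ψ → m φ = ψ := fun a ⟨μ, _, e⟩ φ e' =>
    conjFun_injective N a (funext fun x => by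
      rw [hm, e]
      exact (mul_right_comm _ _ _).trans (congrArg (· * _) (congrFun e' x)))
  have hg : Function.Injective g := fun a b e => by
    by_contra hne
    obtain ⟨μ, hμ, e1⟩ := a.2
    obtain ⟨μ', hμ', e2⟩ := b.2
    refine hν0 (key (a.1.out * b.1.out⁻¹) (fun h => hne (Subtype.ext ?_)) ⟨cjH N b.1.out⁻¹ (μ / μ'),
      cj_mem _ (A.div_mem hμ hμ'), conjFun_injective N b.1.out ?_⟩ ν hν (hinv _ b.2 _ ?_))
    · rw [← a.1.out_eq', ← b.1.out_eq', eq_comm, QuotientGroup.eq]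
      exact hN.mem_comm h
    · rw [← conjFun_mul, inv_mul_cancel_right, hm, ← cjH_mul, inv_mul_cancel, mem_inH.1 (one_mem _), e1, e2]
      ext x
      have : ((μ / μ' : Hat N) x : ℂ) = μ x / μ' x := Units.val_div_eq_div_val _ _
      simp only [m]
      rw [this, mul_assoc, mul_div_cancel₀ _ (Units.ne_zero _)]
    · rw [map_div, ← cjH_mul, inv_mul_cancel_right, ← hdiv]
      exact congrArg Subtype.val e
  obtain ⟨ω, hω⟩ := (Finite.injective_iff_surjective.1 (hf.comp hg)).of_comp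
    ⟨((1 : G) : G ⧸ N), hS' 1 ⟨1, A.one_mem, by rw [m1, conjFun_one]⟩⟩
  exact ht _ ((QuotientGroup.eq_one_iff _).1 (congrArg Subtype.val hω))

theorem exists_deg : ∃ χ : IrrCharacter G, charDegree χ.1 = N.index := by
  obtain ⟨x, hx, hx'⟩ := SetLike.exists_of_lt h.lt
  simpa [charDegree] using (h.deg_or_vanish isIrrCharacter_one).resolve_right fun h => one_ne_zero (h ⟨x, hx⟩ hx')

theorem deg_or_dvd {ψ : N → ℂ} (hψ : IsIrrCharacter N ψ) :
    (∃ χ : IrrCharacter G, charDegree χ.1 = N.index * charDegree ψ) ∨ K.relIndex N ∣ charDegree ψ ^ 2 :=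
  (h.deg_or_vanish hψ).imp_right (index_dvd_deg_sq hψ (K.subgroupOf N))

omit hK in
theorem one_lt : 1 < N.index := Subgroup.one_lt_index_of_ne_top h.ne_top

omit hK [Finite G] in
theorem exists_prime : ∃ r : ℕ, r.Prime ∧ r ∣ K.relIndex N ∧ ¬ r ∣ N.index := by
  obtain ⟨r, hr, h1⟩ := Nat.exists_prime_and_dvd (mt Subgroup.relIndex_eq_one.1 h.lt.not_ge)
  exact ⟨r, hr, h1, fun h2 => hr.not_dvd_one (h.cop ▸ Nat.dvd_gcd h2 h1)⟩

end FSec

theorem exists_under_mul [Finite G] (N : Subgroup G) [N.Normal] (hχ : IsIrrCharacter G χ) :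
    ∃ (θ : IrrCharacter N) (f : ℕ), f ∣ N.index ∧ charDegree χ = f * charDegree θ.1 := by
  classical
  letI := Fintype.ofFinite G
  obtain ⟨θ, h1, h2⟩ := exists_irr_under N hχ
  exact ⟨⟨θ, h1⟩, exists_degree_eq_mul N hχ h1 h2⟩

theorem exists_over_mul [Finite G] (N : Subgroup G) [N.Normal] (θ : IrrCharacter N) :
    ∃ (χ : IrrCharacter G) (f : ℕ), f ∣ N.index ∧ charDegree χ.1 = f * charDegree θ.1 ∧
      (f = 1 → ∀ n : N, χ.1 n = θ.1 n) := by
  classical
  letI := Fintype.ofFinite G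
  obtain ⟨χ, h1, h2⟩ := exists_irr_over N θ.2
  obtain ⟨f, h3, h4⟩ := exists_degree_eq_mul N h1 θ.2 h2
  refine ⟨⟨χ, h1⟩, f, h3, h4, fun h => congrFun (eq_of_constituent_of_degree (h1.isCharacter.restrict N) θ.2 h2 ?_)⟩
  rw [← θ.2.charDegree_eq, ← one_mul (charDegree θ.1), ← h, ← h4, h1.charDegree_eq, N.coe_one]

theorem exists_mul_deg [Finite G] {β : G → ℂ} (hβ : IsIrrCharacter G β) (h : commutator G ≤ charCenter β)
    (hχ : IsIrrCharacter G χ) (hc : (charDegree χ).Coprime (charDegree β)) :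
    ∃ ψ : IrrCharacter G, charDegree ψ.1 = charDegree β * charDegree χ :=
  ⟨⟨_, isIrr_mul_of_charCenter hβ hχ.isCharacter (isIrr_res_of_coprime _ hχ (deg_sq_eq_index hβ h ▸ hc.pow_right 2))⟩,
    hβ.isCharacter.charDegree_mul hχ.isCharacter⟩

theorem prime_degs [Finite G] (h : ∀ χ : IrrCharacter G, charDegree χ.1 ≠ 1 → (charDegree χ.1).Prime) :
    ∃ p q, ∀ χ : IrrCharacter G, charDegree χ.1 = 1 ∨ charDegree χ.1 = p ∨ charDegree χ.1 = q := by
  by_cases hG : IsMulCommutative G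
  · exact ⟨1, 1, fun χ => Or.inl (deg_eq_one_of_comm χ.2)⟩
  obtain ⟨K, _, h1, h2, ⟨β, h3, h4⟩ | ⟨N, _, h3⟩ | h3⟩ := na_cases hG
  · refine ⟨charDegree β.1, 1, fun χ => or_iff_not_imp_left.2 fun h5 => Or.inl (by_contra fun h6 => ?_)⟩
    obtain ⟨ψ, h7⟩ := exists_mul_deg β.2 h4 χ.2 ((Nat.coprime_primes (h χ h5) (h β h3)).2 h6)
    exact Nat.not_prime_mul h3 h5 (h7 ▸ h ψ fun e => h3 (Nat.eq_one_of_mul_eq_one_right (h7 ▸ e)))
  · obtain ⟨r, hr, h4, -⟩ := h3.exists_prime
    refine ⟨N.index, r, fun χ => or_iff_not_imp_left.2 fun h5 => ?_⟩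
    obtain ⟨θ, f, h6, h7⟩ := exists_under_mul N χ.2
    obtain ⟨η, h8⟩ := h3.exists_deg
    by_cases h9 : charDegree θ.1 = 1
    · exact Or.inl ((Nat.prime_dvd_prime_iff_eq (h χ h5) (h8 ▸ h η (h8 ▸ h3.one_lt.ne'))).1 (by rwa [h7, h9, mul_one]))
    rcases h3.deg_or_dvd θ.2 with ⟨ψ, h10⟩ | h10
    · exact absurd (h10 ▸ h ψ fun e => h9 (Nat.eq_one_of_mul_eq_one_left (h10 ▸ e))) (Nat.not_prime_mul h3.one_lt.ne' h9)
    · exact Or.inr ((Nat.prime_dvd_prime_iff_eq hr (h χ h5)).1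
        ((hr.dvd_of_dvd_pow (h4.trans h10)).trans (h7 ▸ dvd_mul_left _ _))).symm
  · haveI := solvable_of_prime_deg h
    refine absurd (by_contra fun h4 => ?_) h3
    have h5 := h2 _ inferInstance (right_lt_sup.2 h4)
    have h6 : ∀ n, commutator G ≤ derivedSeries G n ⊔ K := fun n => by
      induction n with
      | zero => exact le_top.trans le_sup_left
      | succ n ih =>
        refine h5.trans (sup_le ((Subgroup.commutator_mono ih ih).trans ?_) le_sup_right)
        refine (Subgroup.map_le_map_iff (f := QuotientGroup.mk' K)).1 (le_of_eq ?_) |>.trans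
          (by rw [QuotientGroup.ker_mk'])
        rw [Subgroup.map_commutator, Subgroup.map_sup, (Subgroup.map_eq_bot_iff K).2 (QuotientGroup.ker_mk' K).ge,
          sup_bot_eq, derivedSeries_succ, Subgroup.map_commutator]
    obtain ⟨n, hn⟩ := ‹Group.IsSolvable G›.solvable
    exact h1 (by simpa [hn] using h6 n)

theorem taketa_step [Fintype G] (hχ : IsMonomialChar χ) {M : Subgroup G} [hN : M.Normal]
    (h : ∀ ψ, IsIrrCharacter G ψ → charDegree ψ < charDegree χ → M ≤ charKer ψ) : ⁅M, M⁆ ≤ charKer χ := by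
  obtain ⟨H, lam, rfl⟩ := hχ
  have := Fintype.ofFinite H
  have hlam := isCharacter_monoidHom lam
  have hdeg : charDegree (indFun H (fun h => (lam h : ℂ))) = H.index :=
    charDegree_eq_of_apply_one (by simp [indFun_one])
  have h1 : M ≤ H := by
    refine le_trans (fun g hg => ?_) (charKer_indFun_le H (θ := fun _ => 1) isCharacter_one'
      (fun e => one_ne_zero (congrFun e 1)))
    have hπ := isCharacter_indFun_one H
    have hπ' := hπ.sub_constituent isIrrCharacter_one' (by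
      rw [frobenius_reciprocity H _ _ (isClassFunction_const 1), isIrrCharacter_one'.classInner_self]
      exact one_ne_zero)
    have h3 : charDegree (indFun H (fun _ => 1) - fun _ => 1) + 1 = H.index := by
      have := hπ'.charDegree_eq
      rw [Pi.sub_apply, indFun_one, mul_one, eq_sub_iff_add_eq] at this
      exact_mod_cast this
    have h2 := apply_eq_one_of_forall_constituent hπ'.isClassFunction (g := g) (fun ψ hψ hne => by
      have := degree_le_of_constituent hπ' hψ hne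
      exact hψ.isCharacter.mem_charKer.1 (h ψ hψ (by omega) hg))
    rw [hπ.mem_charKer]
    simpa using h2
  rw [Subgroup.commutator_le]
  intro a ha b hb
  rw [mem_charKer_indFun H hlam (isIrrCharacter_monoidHom lam).ne_zero]
  intro x
  have h4 := fun c hc => h1 (hN.conj_mem' c hc x)
  have h5 : x⁻¹ * ⁅a, b⁆ * x = (⁅(⟨_, h4 a ha⟩ : H), (⟨_, h4 b hb⟩ : H)⁆ : H) := by
    simp [commutatorElement_def, mul_assoc]
  refine ⟨h5 ▸ Subtype.prop _, ?_⟩
  simp only [h5, Subtype.coe_eta, map_commutatorElement, map_one]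
  rw [commutatorElement_eq_one_iff_mul_comm.2 (mul_comm _ _)]

theorem isMonomialChar_of_ab_nil [Fintype G] (L : Subgroup G) [L.Normal] [IsMulCommutative L]
    [Group.IsNilpotent (G ⧸ L)] (hχ : IsIrrCharacter G χ) : IsMonomialChar χ := by
  refine isMonomialChar_of_sections (fun H K _ h => ?_) hχ
  let A := (L.subgroupOf H).map (QuotientGroup.mk' K)
  haveI : A.Normal := Subgroup.Normal.map inferInstance _ (QuotientGroup.mk'_surjective K)
  haveI : Group.IsNilpotent (H ⧸ L.subgroupOf H) := Subgroup.isNilpotent_of_ker_le_center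
    (QuotientGroup.map _ L H.subtype le_rfl) fun x hx => by
      obtain ⟨x, rfl⟩ := QuotientGroup.mk_surjective x
      exact (QuotientGroup.eq_one_iff (N := L.subgroupOf H) x).2 ((QuotientGroup.eq_one_iff (x : G)).1 hx) ▸ one_mem _
  haveI : Group.IsNilpotent ((H ⧸ K) ⧸ A) := Group.nilpotent_of_surjective
    (QuotientGroup.map (L.subgroupOf H) A (QuotientGroup.mk' K) (Subgroup.le_comap_map _ _)) fun x => by
      obtain ⟨x, rfl⟩ := QuotientGroup.mk_surjective x
      obtain ⟨x, rfl⟩ := QuotientGroup.mk_surjective x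
      exact ⟨x, rfl⟩
  haveI := Subgroup.isNilpotent_of_ker_le_center (QuotientGroup.mk' A) (by
    rw [QuotientGroup.ker_mk']; exact h A inferInstance inferInstance)
  exact comm_of_nilpotent_of_abelian_normal_le_center h

theorem der_two_of_two_deg [Finite G] {m : ℕ} (h : ∀ χ : IrrCharacter G, charDegree χ.1 = 1 ∨ charDegree χ.1 = m) :
    ⁅commutator G, commutator G⁆ = ⊥ := by
  refine eq_bot_iff.2 (Subgroup.commutator_le.2 fun a ha b hb => commutatorElement_eq_one_iff_mul_comm.2 ?_)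
  by_cases hG : IsMulCommutative G
  · exact hG.1.1 a b
  obtain ⟨χ, h1⟩ := exists_deg_ne_one hG
  exact Cfsg.Agent.S4458.result m h ⟨χ, (h χ).resolve_left h1⟩ ((h χ).resolve_left h1 ▸ h1) a ha b hb

theorem comm_comm_le_of_two_deg [Finite G] (L : Subgroup G) [L.Normal] {m : ℕ}
    (h : ∀ χ : IrrCharacter (G ⧸ L), charDegree χ.1 = 1 ∨ charDegree χ.1 = m) :
    ⁅commutator G, commutator G⁆ ≤ L := by
  have := der_two_of_two_deg h
  rwa [commutator, ← Subgroup.map_top_of_surjective _ (QuotientGroup.mk'_surjective L), ← Subgroup.map_commutator,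
    ← Subgroup.map_commutator, Subgroup.map_eq_bot_iff, QuotientGroup.ker_mk'] at this

theorem two_of_faithful [Finite G] {m n : ℕ} (hmn : m < n) (hc : m.Coprime n)
    (h : ∀ χ : IrrCharacter G, charDegree χ.1 = 1 ∨ charDegree χ.1 = m ∨ charDegree χ.1 = n)
    (hf : ∀ χ : IrrCharacter G, charDegree χ.1 ≠ 1 → ∀ g, χ.1 g = χ.1 1 → g = 1) {α β : G → ℂ}
    (hα : IsIrrCharacter G α) (hm : charDegree α = m) (hm1 : m ≠ 1) (hβ : IsIrrCharacter G β) :
    charDegree β ≠ n := by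
  classical
  letI := Fintype.ofFinite G
  intro hn
  have hm0 := hm ▸ hα.charDegree_pos
  have lin : ∀ {φ ψ μ : G → ℂ}, IsIrrCharacter G φ → IsIrrCharacter G ψ → IsIrrCharacter G μ → charDegree μ = 1 →
      classInner (φ * ψ) μ ≠ 0 → φ = (fun g => conj (ψ g)) * μ := fun h1 h2 h3 h4 h5 =>
    h1.eq_of_classInner_ne_zero (h2.conj.mul_linear h3.isCharacter ((deg_eq_one_iff h3.isCharacter).1 h4))
      (by rwa [H05.classInner_mul_left'] at h5)
  have two : ∀ {γ : G → ℂ}, IsCharacter G γ → (∀ μ : IrrCharacter G, charDegree μ.1 = 1 → classInner γ μ.1 = 0) →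
      ∃ a b : ℕ, charDegree γ = a * m + b * n ∧
        (a = 0 → ∀ μ : IrrCharacter G, classInner γ μ.1 ≠ 0 → charDegree μ.1 = n) ∧
        (b = 0 → ∀ μ : IrrCharacter G, classInner γ μ.1 ≠ 0 → charDegree μ.1 = m) := fun {γ} hγ h0 => by
    have h1 : ∀ μ : IrrCharacter G, mult (MonoidHom.id G) γ μ.1 ≠ 0 ↔ classInner γ μ.1 ≠ 0 := fun μ =>
      mult_ne_zero_iff _ hγ μ.2.isCharacter
    refine ⟨∑ μ : IrrCharacter G with charDegree μ.1 = m, mult (MonoidHom.id G) γ μ.1,
      ∑ μ : IrrCharacter G with charDegree μ.1 = n, mult (MonoidHom.id G) γ μ.1, ?_, fun e μ hμ => ?_, fun e μ hμ => ?_⟩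
    · rw [degree_eq_sum_mult (MonoidHom.id G) hγ, Finset.sum_filter, Finset.sum_filter, Finset.sum_mul, Finset.sum_mul,
        ← Finset.sum_add_distrib]
      refine Finset.sum_congr rfl fun μ _ => ?_
      rcases h μ with h2 | h2 | h2
      · rw [not_not.1 (mt (h1 μ).1 (not_not.2 (h0 μ h2)))]; simp
      · simp [h2, hmn.ne]
      · simp [h2, hmn.ne']
    · exact ((h μ).resolve_left fun h2 => hμ (h0 μ h2)).resolve_left fun h2 => (h1 μ).2 hμ
        (Finset.sum_eq_zero_iff.1 e μ (by simpa using h2))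
    · exact ((h μ).resolve_left fun h2 => hμ (h0 μ h2)).resolve_right fun h2 => (h1 μ).2 hμ
        (Finset.sum_eq_zero_iff.1 e μ (by simpa using h2))
  have dl : ∀ {φ μ : G → ℂ}, IsIrrCharacter G φ → IsIrrCharacter G μ → charDegree μ = 1 →
      charDegree ((fun g => conj (φ g)) * μ) = charDegree φ := fun h1 h2 h3 => by
    rw [h1.conj.isCharacter.charDegree_mul h2.isCharacter, h3, mul_one, charDegree_conj]
  have key : ∀ {φ ψ : G → ℂ}, IsIrrCharacter G φ → charDegree φ = m → IsIrrCharacter G ψ → charDegree ψ = n →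
      ∀ μ : IrrCharacter G, classInner (φ * ψ) μ.1 ≠ 0 → charDegree μ.1 = n := fun {φ ψ} h1 h2 h3 h4 => by
    have hγ := h1.isCharacter.mul h3.isCharacter
    obtain ⟨a, b, h5, h6, h7⟩ := two hγ fun μ hμ => by_contra fun h5 => hmn.ne
      (by rw [← h2, lin h1 h3 μ.2 hμ h5, dl h3 μ.2 hμ, h4])
    rw [h1.isCharacter.charDegree_mul h3.isCharacter, h2, h4] at h5
    refine h6 (by_contra fun ha => ?_)
    obtain rfl : b = 0 := by
      obtain ⟨c, rfl⟩ := hc.symm.dvd_of_dvd_mul_right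
        ((Nat.dvd_add_left (dvd_mul_left n b)).1 (h5 ▸ dvd_mul_left n m))
      have : 1 ≤ c := Nat.pos_of_ne_zero (by rintro rfl; exact ha (mul_zero n))
      by_contra hb
      have : 1 ≤ b := Nat.pos_of_ne_zero hb
      nlinarith [Nat.mul_le_mul_left (n * m) ‹1 ≤ c›, Nat.mul_le_mul_right n this]
    have h8 : ∀ μ : IrrCharacter G, classInner (φ * ψ) μ.1 ≠ 0 → ∀ g ∈ commutator G, μ.1 g = φ g := fun μ hμ g hg => by
      have b1 := μ.2.isCharacter.mul h1.conj.isCharacter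
      by_contra hne
      obtain ⟨a', b', b2, -, b3⟩ := two b1 fun ν hν => by_contra fun b4 => hne (by
        rw [lin μ.2 h1.conj ν.2 hν b4, Pi.mul_apply, Complex.conj_conj, ν.2.isCharacter.mem_charKer.1
          ((commutator_le_charKer_iff ν.2).2 ((deg_eq_one_iff ν.2.isCharacter).1 hν) hg),
          (deg_eq_one_iff ν.2.isCharacter).1 hν, mul_one])
      rw [μ.2.isCharacter.charDegree_mul h1.conj.isCharacter, charDegree_conj, h7 rfl μ hμ, h2] at b2
      refine hmn.ne' (h4.symm.trans (b3 ?_ ⟨ψ, h3⟩ ?_))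
      · obtain ⟨c, rfl⟩ := hc.dvd_of_dvd_mul_right
          ((Nat.dvd_add_right (dvd_mul_left m a')).1 (b2 ▸ dvd_mul_left m m))
        by_contra hb
        have : 1 ≤ c := Nat.pos_of_ne_zero (by rintro rfl; exact hb (mul_zero m))
        nlinarith [Nat.mul_le_mul_left (m * n) this]
      · rwa [← H05.classInner_mul_right, classInner_ne_zero_comm]
    obtain ⟨g0, hg0, hg1⟩ : ∃ g ∈ commutator G, φ g ≠ φ 1 := by
      by_contra hh
      push Not at hh
      exact hm1 (h2 ▸ (deg_eq_one_iff h1.isCharacter).2 ((commutator_le_charKer_iff h1).1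
        fun g hg => h1.isCharacter.mem_charKer.2 (hh g hg)))
    have h9 : ∀ g ∈ commutator G, φ g * ψ g = φ g * ψ 1 := fun g hg => by
      have e : ∀ x ∈ commutator G, φ x * ψ x = (∑ μ : IrrCharacter G, classInner (φ * ψ) μ.1) * φ x := fun x hx => by
        rw [Finset.sum_mul]
        refine (hγ.isClassFunction.apply_eq_sum x).trans (Finset.sum_congr rfl fun μ _ => ?_)
        by_cases h : classInner (φ * ψ) μ.1 = 0
        · simp [h]
        · rw [h8 μ h x hx]
      rw [e g hg, mul_comm, ← mul_right_cancel₀ h1.apply_one_ne_zero ((mul_comm _ _).trans (e 1 (one_mem _)))]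
    refine hg1 ((res_inner_one_ne_zero_iff _ h1).1 ?_ g0 hg0)
    rw [H05.classInner_def, Finset.sum_eq_single 1 (fun g _ hg => ?_) (by simp)]
    · simpa using h1.apply_one_ne_zero
    · rw [(mul_eq_mul_left_iff.1 (h9 g g.2)).resolve_left fun e => hg
        (Subtype.ext (hf ⟨ψ, h3⟩ (by simp only [h4]; omega) g e)), zero_mul]
  have h1 : ∀ (k : ℕ) (ψ : IrrCharacter G), charDegree ψ.1 = n → classInner (α ^ k) ψ.1 = 0 := fun k => by
    induction k with
    | zero =>
      intro ψ hψ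
      refine isIrrCharacter_one.classInner_of_ne ψ.2 fun e => ?_
      rw [← e] at hψ; simp [charDegree] at hψ; omega
    | succ k ih =>
      intro ψ hψ
      rw [pow_succ, H05.classInner_mul_left', (hα.isCharacter.pow k).isClassFunction.classInner_eq_sum]
      refine Finset.sum_eq_zero fun μ _ => mul_eq_zero.2 (or_iff_not_imp_right.2 fun hμ => ih μ ?_)
      exact key hα.conj ((charDegree_conj α).trans hm) ψ.2 hψ μ (classInner_ne_zero_comm.1 hμ)
  obtain ⟨d, ρ, hρ, rfl⟩ := hα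
  obtain ⟨i, -, hi⟩ := Cfsg.Agent.S0168.result ρ ((injective_iff_map_eq_one ρ).2 fun g hg =>
    hf ⟨_, d, ρ, hρ, rfl⟩ (hm ▸ hm1) g ((character_eq_one_iff_mem_ker ρ g).2 hg)) β hβ
  exact hi (h1 i ⟨β, hβ⟩ hn)

theorem der_two_sub [Finite G] (L : Subgroup G) {m : ℕ}
    (h : ∀ χ : IrrCharacter L, charDegree χ.1 = 1 ∨ charDegree χ.1 = m) : ⁅⁅L, L⁆, ⁅L, L⁆⁆ = ⊥ := by
  rw [← L.map_subtype_commutator, ← Subgroup.map_commutator, der_two_of_two_deg h, Subgroup.map_bot]

theorem comm_le_of_deg_one [Finite G] (L : Subgroup G) [L.Normal]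
    (h : ∀ χ : IrrCharacter (G ⧸ L), charDegree χ.1 = 1) : commutator G ≤ L := by
  haveI := comm_of_deg_one h
  exact Subgroup.commutator_le.2 fun a _ b _ => (QuotientGroup.eq_one_iff _).1
    (commutatorElement_eq_one_iff_mul_comm.2 (IsMulCommutative.is_comm.comm (a : G ⧸ L) b))

theorem deg_quot_dvd [Finite G] (L : Subgroup G) [L.Normal] (χ : IrrCharacter (G ⧸ ⁅L, L⁆)) :
    charDegree χ.1 ∣ L.index := by
  let π := QuotientGroup.mk' ⁅L, L⁆
  haveI : (L.map π).Normal := Subgroup.Normal.map inferInstance _ (QuotientGroup.mk'_surjective _)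
  haveI : IsMulCommutative (L.map π) := ⟨⟨by
    rintro ⟨_, a, ha, rfl⟩ ⟨_, b, hb, rfl⟩
    exact Subtype.ext (commutatorElement_eq_one_iff_mul_comm.1
      ((QuotientGroup.eq_one_iff ⁅a, b⁆).2 (Subgroup.commutator_mem_commutator ha hb)))⟩⟩
  rw [← L.index_map_eq (QuotientGroup.mk'_surjective ⁅L, L⁆)
    ((QuotientGroup.ker_mk' _).trans_le (Subgroup.commutator_le_left L L))]
  exact ito_charDegree_dvd_index χ.2 _

universe u in
theorem der_three_aux (c : ℕ) : ∀ (G : Type u) [Group G] [Finite G] (m n : ℕ), Nat.card G = c →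
    (∀ χ : IrrCharacter G, charDegree χ.1 = 1 ∨ charDegree χ.1 = m ∨ charDegree χ.1 = n) →
    ⁅⁅commutator G, commutator G⁆, ⁅commutator G, commutator G⁆⁆ = ⊥ := by
  induction c using Nat.strong_induction_on with | _ c ih => ?_
  intro G _ _ m n hc h
  classical
  letI := Fintype.ofFinite G
  have t : ∀ k, (∀ χ : IrrCharacter G, charDegree χ.1 = 1 ∨ charDegree χ.1 = k) →
      ⁅⁅commutator G, commutator G⁆, ⁅commutator G, commutator G⁆⁆ = ⊥ := fun k hk => by
    rw [der_two_of_two_deg hk, Subgroup.commutator_bot_left]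
  wlog hmn : m < n generalizing m n
  · rcases (not_lt.1 hmn).eq_or_lt with rfl | h1
    · exact t n fun χ => (h χ).imp_right fun h => h.elim id id
    · exact this n m (fun χ => (h χ).imp_right Or.symm) h1
  by_cases hm : ∃ α : IrrCharacter G, charDegree α.1 = m ∧ m ≠ 1
  swap
  · exact t n fun χ => by
      rcases h χ with h1 | h1 | h1
      exacts [Or.inl h1, Or.inl (h1.trans (by_contra fun h2 => hm ⟨χ, h1, h2⟩)), Or.inr h1]
  by_cases hn : ∃ β : IrrCharacter G, charDegree β.1 = n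
  swap
  · exact t m fun χ => (h χ).imp_right fun h => h.resolve_right fun e => hn ⟨χ, e⟩
  obtain ⟨α, hα, hm1⟩ := hm
  obtain ⟨β, hβ⟩ := hn
  have hm0 := hα ▸ α.2.charDegree_pos
  by_cases hcop : m.Coprime n
  · obtain ⟨K, _, h1, h2, ⟨γ, h3, h4⟩ | ⟨N, _, h3⟩ | h3⟩ := na_cases (G := G) fun _ =>
      hm1 (hα ▸ deg_eq_one_of_comm α.2)
    · obtain ⟨ψ, h5⟩ : ∃ ψ : IrrCharacter G, charDegree ψ.1 = m * n := by
        rcases (h γ).resolve_left h3 with h5 | h5
        · exact hβ ▸ h5 ▸ exists_mul_deg γ.2 h4 β.2 (by rw [h5, hβ]; exact hcop.symm)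
        · exact mul_comm n m ▸ hα ▸ h5 ▸ exists_mul_deg γ.2 h4 α.2 (by rw [h5, hα]; exact hcop)
      have : 2 * n ≤ m * n := Nat.mul_le_mul_right n (by omega)
      have := h ψ
      omega
    · obtain ⟨r, hr, h4, h5⟩ := h3.exists_prime
      obtain ⟨η, h6⟩ := h3.exists_deg
      have h7 := h3.one_lt
      obtain ⟨f, hf, hf'⟩ : ∃ f, f.Coprime N.index ∧ ∀ χ : IrrCharacter G,
          charDegree χ.1 = 1 ∨ charDegree χ.1 = N.index ∨ charDegree χ.1 = f := by
        rcases (h6 ▸ h η).resolve_left h7.ne' with e | e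
        · exact ⟨n, e ▸ hcop.symm, e ▸ h⟩
        · exact ⟨m, e ▸ hcop, fun χ => e ▸ (h χ).imp_right Or.symm⟩
      refine eq_bot_iff.2 (le_trans ?_ (der_two_sub N (m := f) fun ψ => ?_).le)
      · exact Subgroup.commutator_mono (Subgroup.commutator_mono h3.comm h3.comm)
          (Subgroup.commutator_mono h3.comm h3.comm)
      rcases h3.deg_or_dvd ψ.2 with ⟨χ, h8⟩ | h8
      · rcases h8 ▸ hf' χ with e | e | e
        · exact Or.inl (Nat.eq_one_of_mul_eq_one_left e)
        · exact Or.inl (Nat.eq_of_mul_eq_mul_left (by omega) (e.trans (mul_one _).symm))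
        · exact absurd (Nat.eq_one_of_dvd_one (hf ▸ Nat.dvd_gcd (e ▸ dvd_mul_right _ _) dvd_rfl)) h7.ne'
      · obtain ⟨χ, e, h9, h10, -⟩ := exists_over_mul N ψ
        have h11 : r ∣ charDegree χ.1 := (hr.dvd_of_dvd_pow (h4.trans h8)).trans (h10 ▸ dvd_mul_left _ _)
        have h12 := ((hf' χ).resolve_left fun e => hr.not_dvd_one (e ▸ h11)).resolve_left fun e => h5 (e ▸ h11)
        obtain rfl : e = 1 := Nat.eq_one_of_dvd_one (hf ▸ Nat.dvd_gcd (h12 ▸ h10 ▸ dvd_mul_right _ _) h9)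
        exact Or.inr (by rw [← h12, h10, one_mul])
    · refine absurd (by_contra fun h4 => ?_) h3
      have h5 : ∀ k, ¬ ∀ χ : IrrCharacter (G ⧸ K), charDegree χ.1 = 1 ∨ charDegree χ.1 = k := fun k hk =>
        h3 (comm_comm_le_of_two_deg K hk)
      obtain ⟨α', h6⟩ := not_forall.1 (h5 n)
      obtain ⟨β', h7⟩ := not_forall.1 (h5 m)
      have h8 := h (inflIrr K α')
      have h9 := h (inflIrr K β')
      refine two_of_faithful hmn hcop (fun χ => h (inflIrr K χ)) (fun χ hχ g hg => ?_) α'.2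
        ((h8.resolve_left fun e => h6 (Or.inl e)).resolve_right fun e => h6 (Or.inr e)) hm1 β'.2
        ((h9.resolve_left fun e => h7 (Or.inl e)).resolve_left fun e => h7 (Or.inr e))
      obtain ⟨g, rfl⟩ := QuotientGroup.mk_surjective g
      have hi := (inflIrr K χ).2
      by_contra h10
      refine hχ ((deg_eq_one_iff χ.2.isCharacter).2 ((commutator_le_charKer_iff hi).1 (h2 _ inferInstance
        (lt_of_le_of_ne (fun x hx => hi.isCharacter.mem_charKer.2 ?_) fun e => h10 ?_))))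
      · exact congrArg χ.1 ((QuotientGroup.eq_one_iff x).2 hx)
      · exact (QuotientGroup.eq_one_iff g).2 (e ▸ hi.isCharacter.mem_charKer.2 hg)
  obtain ⟨p, hp, hpm, hpn⟩ := Nat.Prime.not_coprime_iff_dvd.1 hcop
  haveI := Fact.mk hp
  have h1 := thompson_npc (p := p) fun χ hχ => ((h χ).resolve_left hχ).elim (fun e => e ▸ hpm) fun e => e ▸ hpn
  obtain ⟨k, hk⟩ := H03.exists_index_pResidual (G := G) (p := p)
  set L := pResidual p G
  have h2 : ∀ ψ : IrrCharacter L, charDegree ψ.1 = 1 ∨ charDegree ψ.1 = ordCompl[p] m ∨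
      charDegree ψ.1 = ordCompl[p] n := fun ψ => by
    obtain ⟨χ, e, h3, h4, -⟩ := exists_over_mul L ψ
    obtain ⟨j, -, rfl⟩ := (Nat.dvd_prime_pow hp).1 (hk ▸ h3)
    have h5 := Nat.ordCompl_pow_mul_of_not_dvd j hp
      (H03.coprime_iff_not_dvd.1 (h1.coprime_dvd_left ψ.2.charDegree_dvd_card))
    rw [← h5, ← h4]
    rcases h χ with e | e | e <;> simp [e]
  have h3 : ∀ χ : IrrCharacter (G ⧸ ⁅L, L⁆), ordCompl[p] (charDegree χ.1) = 1 := fun χ => by
    obtain ⟨j, -, e⟩ := (Nat.dvd_prime_pow hp).1 (hk ▸ deg_quot_dvd L χ)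
    rw [e, Nat.ordCompl_self_pow hp]
  have h4 : ∀ a b, ordCompl[p] b ≠ 1 → (∀ χ : IrrCharacter G, charDegree χ.1 = 1 ∨ charDegree χ.1 = a ∨
      charDegree χ.1 = b) → (∀ ψ : IrrCharacter L, charDegree ψ.1 = 1 ∨ charDegree ψ.1 = ordCompl[p] b) →
      ⁅⁅commutator G, commutator G⁆, ⁅commutator G, commutator G⁆⁆ = ⊥ := fun a b hb h5 h6 => by
    have := comm_comm_le_of_two_deg ⁅L, L⁆ (m := a) fun χ => (h5 (inflIrr _ χ)).imp_right fun h =>
      h.resolve_right fun e => hb (e ▸ h3 χ)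
    exact eq_bot_iff.2 ((Subgroup.commutator_mono this this).trans (der_two_sub L h6).le)
  by_cases hm' : ordCompl[p] m = 1 <;> by_cases hn' : ordCompl[p] n = 1
  · haveI := comm_of_deg_one fun ψ => by simpa [hm', hn'] using h2 ψ
    haveI := (H03.isPGroup_quotient_pResidual (G := G) (p := p)).isNilpotent
    have h5 : ∀ ψ, IsIrrCharacter G ψ → charDegree ψ = 1 → commutator G ≤ charKer ψ := fun ψ hψ e =>
      (commutator_le_charKer_iff hψ).2 ((deg_eq_one_iff hψ.isCharacter).1 e)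
    have h6 : ∀ ψ, IsIrrCharacter G ψ → charDegree ψ < n → ⁅commutator G, commutator G⁆ ≤ charKer ψ := fun ψ hψ e =>
      taketa_step (isMonomialChar_of_ab_nil L hψ) fun η hη e' => h5 η hη (by have := h ⟨ψ, hψ⟩; have := h ⟨η, hη⟩; have := hη.charDegree_pos; simp only at *; omega)
    exact eq_bot_iff.2 fun g hg => eq_one_of_forall_irr fun χ => χ.2.isCharacter.mem_charKer.1
      (taketa_step (isMonomialChar_of_ab_nil L χ.2) (fun η hη e => h6 η hη (by have := h χ; omega)) hg)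
  · exact h4 m n hn' h fun ψ => by simpa [hm'] using h2 ψ
  · exact h4 n m hm' (fun χ => (h χ).imp_right Or.symm) fun ψ => by have := h2 ψ; omega
  · have h5 := comm_le_of_deg_one ⁅L, L⁆ fun χ => ((h (inflIrr _ χ)).resolve_right fun h =>
      h.elim (fun e => hm' (e ▸ h3 χ)) fun e => hn' (e ▸ h3 χ))
    have h6 := ih _ (hc ▸ lt_of_le_of_ne L.card_le_card_group fun e => H03.coprime_iff_not_dvd.1 h1
      (e ▸ hpm.trans (hα ▸ α.2.charDegree_dvd_card))) L _ _ rfl h2
    have h7 := Subgroup.commutator_mono h5 h5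
    refine eq_bot_iff.2 ((Subgroup.commutator_mono h7 h7).trans (le_of_eq ?_))
    rw [← L.map_subtype_commutator, ← Subgroup.map_commutator, ← Subgroup.map_commutator, h6, Subgroup.map_bot]

theorem der_three_of_card [Finite G] (h : Nat.card {n : ℕ // ∃ χ : IrrCharacter G, charDegree χ.1 = n} = 3) :
    derivedSeries G 3 = ⊥ := by
  obtain ⟨a, b, c, -, -, -, e⟩ := Set.ncard_eq_three.1 (show {n | ∃ χ : IrrCharacter G, charDegree χ.1 = n}.ncard = 3 from h)
  have h1 : ∀ χ : IrrCharacter G, charDegree χ.1 = a ∨ charDegree χ.1 = b ∨ charDegree χ.1 = c := fun χ =>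
    (Set.ext_iff.1 e _).1 ⟨χ, rfl⟩
  have h2 := h1 ⟨_, isIrrCharacter_one⟩
  simp only [charDegree, Pi.one_apply, Complex.one_re, Nat.floor_one] at h2
  rcases h2 with rfl | rfl | rfl
  · exact der_three_aux _ G b c rfl h1
  · exact der_three_aux _ G a c rfl fun χ => by have := h1 χ; omega
  · exact der_three_aux _ G a b rfl fun χ => by have := h1 χ; omega

end H07
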