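import Cfsg.Agent.H07.Real1
import Cfsg.Agent.H06.Mackey

/-! Real characters: orbit counts, coprime action, linear characters versus induced extensions. -/

namespace H07
open Cfsg H05 H06 H01
open scoped ComplexConjugate commutatorElement Pointwise

variable {G : Type*} [Group G] {χ : G → ℂ}

theorem real_of_fs [Fintype G] (hχ : IsIrrCharacter G χ) (h : fsIndicator χ = 1) (g : G) : (χ g).im = 0 := by
  by_contra hh
  rw [hχ.fsIndicator_of_not_real ⟨g, hh⟩] at h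
  exact zero_ne_one h

theorem exists_unique_fs_over [Fintype G] (N : Subgroup G) [N.Normal] [Fintype N] (ho : Odd N.index) {θ : N → ℂ}
    (hθ : IsIrrCharacter N θ) (hr : fsIndicator θ = 1) :
    ∃! χ : IrrCharacter G, fsIndicator χ.1 = 1 ∧ classInner (fun n : N => χ.1 n) θ ≠ 0 := by
  obtain ⟨χ, ⟨h1, h2⟩, h3⟩ := exists_unique_real_over N ho hθ (real_of_fs hθ hr)
  obtain ⟨m, hm, e⟩ := mult_odd N ho χ.2 hθ h2
  exact ⟨χ, ⟨(fs_eq_of_odd N.subtype χ.2 h1 hθ (real_of_fs hθ hr) e hm).trans hr, h2⟩,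
    fun ψ hψ => h3 ψ ⟨real_of_fs ψ.2 hψ.1, hψ.2⟩⟩

theorem card_quot_eq {X Y : Type*} (r : X → X → Prop) (F : X → Y) (hF : Function.Surjective F)
    (h : ∀ a b, F a = F b ↔ r a b) : Nat.card (Quot r) = Nat.card Y :=
  Nat.card_eq_of_bijective (Quot.lift F fun a b hab => (h a b).2 hab)
    ⟨fun x y => by
      obtain ⟨a, rfl⟩ := Quot.mk_surjective x
      obtain ⟨b, rfl⟩ := Quot.mk_surjective y
      exact fun e => Quot.sound ((h a b).1 e), fun y => by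
      obtain ⟨a, rfl⟩ := hF y
      exact ⟨Quot.mk _ a, rfl⟩⟩

theorem real_mem_of_odd (K : Subgroup G) [K.Normal] (ho : Odd K.index) {x : G} (h : IsConj x x⁻¹) :
    ∃ k ∈ K, x ∈ K ∧ k * x * k⁻¹ = x⁻¹ := by
  obtain ⟨g, hg⟩ := isConj_iff.1 h
  have h1 : ∀ j : ℕ, g ^ (2 * j + 1) * x * (g ^ (2 * j + 1))⁻¹ = x⁻¹ := fun j => by
    induction j with
    | zero => simpa using hg
    | succ j ih =>
      have : g * x⁻¹ * g⁻¹ = x := inv_injective (((by group : _ = g * x * g⁻¹)).trans hg)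
      calc _ = g * (g * (g ^ (2 * j + 1) * x * (g ^ (2 * j + 1))⁻¹) * g⁻¹) * g⁻¹ := by group
        _ = _ := by rw [ih, this, hg]
  obtain ⟨j, hj⟩ := ho
  have h2 := K.pow_index_mem g
  have h3 := K.pow_index_mem x
  rw [hj] at h2 h3
  refine ⟨_, h2, ?_, h1 j⟩
  have h4 : x * x ∈ K := by
    have := K.mul_mem (‹K.Normal›.conj_mem _ (K.inv_mem h2) x) h2
    rw [← K.inv_mem_iff]
    have e : (x * x)⁻¹ = x⁻¹ * (g ^ (2 * j + 1) * x * (g ^ (2 * j + 1))⁻¹) := by rw [h1 j]; group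
    rw [e, ← mul_assoc, ← mul_assoc]
    exact K.mul_mem (‹K.Normal›.conj_mem' _ h2 x) (K.inv_mem h2)
  rw [pow_succ, pow_mul, sq] at h3
  exact (K.mul_mem_cancel_left (K.pow_mem h4 j)).1 h3

theorem card_real_orbits [Finite G] (K : Subgroup G) [hK : K.Normal] (ho : Odd K.index) :
    Nat.card (Quot (fun θ η : {θ : IrrCharacter K // ∀ k, (θ.1 k).im = 0} => ∃ g : G, ∀ k k' : K,
      (k' : G) = g * k * g⁻¹ → η.1.1 k' = θ.1.1 k)) =
    Nat.card (Quot (fun x y : {x : K // IsConj x x⁻¹} => ∃ g : G, (y.1 : G) = g * x.1 * g⁻¹)) := by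
  let _ := Fintype.ofFinite G
  let _ := Fintype.ofFinite K
  have h0 : ∀ θ : {θ : IrrCharacter K // ∀ k, (θ.1 k).im = 0}, ∃ χ : IrrCharacter G,
      ((∀ g, (χ.1 g).im = 0) ∧ classInner (fun n : K => χ.1 n) θ.1.1 ≠ 0) ∧ ∀ ψ : IrrCharacter G,
      (∀ g, (ψ.1 g).im = 0) ∧ classInner (fun n : K => ψ.1 n) θ.1.1 ≠ 0 → ψ = χ :=
    fun θ => exists_unique_real_over K ho θ.1.2 θ.2
  choose F hF hu using h0
  rw [card_quot_eq _ (fun θ => (⟨F θ, (hF θ).1⟩ : {χ : IrrCharacter G // ∀ g, (χ.1 g).im = 0})),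
    Cfsg.Agent.S0160.result, card_quot_eq _ (fun x => (⟨ConjClasses.mk (x.1 : G), fun g hg => ?_⟩ :
      {C : ConjClasses G // ∀ g : G, ConjClasses.mk g = C → IsConj g g⁻¹}))]
  · rintro ⟨C, hC⟩
    obtain ⟨x, rfl⟩ := ConjClasses.mk_surjective C
    obtain ⟨k, hk, hx, e⟩ := real_mem_of_odd K ho (hC x rfl)
    exact ⟨⟨⟨x, hx⟩, isConj_iff.2 ⟨⟨k, hk⟩, Subtype.ext e⟩⟩, rfl⟩
  · intro a b
    rw [Subtype.ext_iff, ConjClasses.mk_eq_mk_iff_isConj, isConj_iff]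
    exact exists_congr fun g => eq_comm
  · obtain ⟨c, hc⟩ := isConj_iff.1 (ConjClasses.mk_eq_mk_iff_isConj.1 hg)
    obtain ⟨k, hk⟩ := isConj_iff.1 x.2
    have hk' : (k : G) * x.1 * (k : G)⁻¹ = (x.1 : G)⁻¹ := congrArg Subtype.val hk
    refine isConj_iff.2 ⟨c⁻¹ * k * c, ?_⟩
    calc _ = c⁻¹ * (k * (c * g * c⁻¹) * (k : G)⁻¹) * c := by group
      _ = _ := by rw [hc, hk', ← hc]; group
  · rintro ⟨χ, hχ⟩
    obtain ⟨θ, hθ, h⟩ := exists_irr_under K χ.2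
    exact ⟨⟨⟨θ, hθ⟩, real_of_under K ho χ.2 hχ hθ h⟩,
      Subtype.ext (hu ⟨⟨θ, hθ⟩, real_of_under K ho χ.2 hχ hθ h⟩ χ ⟨hχ, h⟩).symm⟩
  · intro θ η
    rw [Subtype.ext_iff]
    constructor
    · intro e
      obtain ⟨g, hg⟩ := exists_conj_of_constituent K (F θ).2 η.1.2 θ.1.2 (by
        have := (hF η).2; rwa [← show F θ = F η from e] at this) (hF θ).2
      exact ⟨g, fun k k' h => by rw [← hg, conjFun_apply]; exact congrArg _ (Subtype.ext h)⟩
    · rintro ⟨g, hg⟩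
      refine hu η _ ⟨(hF θ).1, ?_⟩
      rw [← classInner_res_conjFun K (F θ).2.isClassFunction g, show conjFun K g η.1.1 = θ.1.1 from
        funext fun k => hg k _ rfl]
      exact (hF θ).2

theorem mult_conj {X C : Type*} [Group X] [Group C] [Finite C] (ι : C →* X) {χ : X → ℂ} {ψ : C → ℂ}
    (hχ : IsCharacter X χ) (hψ : IsCharacter C ψ) :
    mult ι (fun g => conj (χ g)) (fun c => conj (ψ c)) = mult ι χ ψ := by
  let _ := Fintype.ofFinite C
  refine mult_of_eq ?_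
  have := congrArg conj (mult_eq ι hχ hψ)
  rw [map_natCast] at this
  rw [this]
  simp [classInner, map_sum]

theorem card_real_inv [Finite G] {p : ℕ} [hp : Fact p.Prime] {P K : Subgroup G} (hP : IsPGroup p P)
    (hK : ¬ p ∣ Nat.card K) (hPK : P ≤ Subgroup.normalizer (K : Set G)) :
    Nat.card {θ : IrrCharacter K // (∀ k, (θ.1 k).im = 0) ∧
      ∀ x ∈ P, ∀ k k' : K, (k' : G) = x * k * x⁻¹ → θ.1 k' = θ.1 k} =
    Nat.card {c : ConjClasses K // (∀ k : K, ConjClasses.mk k = c → IsConj k k⁻¹) ∧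
      ∀ k : K, ConjClasses.mk k = c → ∀ x ∈ P, ∀ k' : K, (k' : G) = x * k * x⁻¹ → ConjClasses.mk k' = c} ∧
    ∀ k : K, (∀ x ∈ P, ∀ k' : K, (k' : G) = x * k * x⁻¹ → IsConj k' k) →
      ∃ k' : K, IsConj k k' ∧ ∀ x ∈ P, x * (k' : G) * x⁻¹ = k' := by
  let act : MulAction G G := MulAction.compHom G (MulAut.conj : G →* MulAut G)
  have hcop : (Nat.card P).Coprime (Nat.card K) :=
    (coprime_card_of_isPGroup hP ((Nat.coprime_comm.1 (hp.out.coprime_iff_not_dvd.2 hK)))).symm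
  have hsolv : Group.IsSolvable P ∨ Group.IsSolvable K := Or.inl (isSolvable_of_isPGroup hP)
  have hfix : ∀ k : K, (∀ x ∈ P, ∀ k' : K, (k' : G) = x * k * x⁻¹ → IsConj k' k) →
      ∃ k' : K, IsConj k k' ∧ ∀ x ∈ P, x * (k' : G) * x⁻¹ = k' := fun g hg => by
    obtain ⟨k, hk, e⟩ := @glauberman_fixed G _ _ G act P K hPK hcop hsolv g (fun a ha => by
      obtain ⟨y, hy⟩ := isConj_iff.1 (hg a ha (cjA (hPK ha) g) rfl).symm
      exact ⟨y, y.2, (congrArg Subtype.val hy).symm⟩)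
    exact ⟨(⟨k, hk⟩ : K) * g * (⟨k, hk⟩ : K)⁻¹, isConj_iff.2 ⟨_, rfl⟩, fun a ha => e a ha⟩
  refine ⟨?_, hfix⟩
  obtain ⟨C, hC⟩ : ∃ C, C = K ⊓ Subgroup.centralizer (P : Set G) := ⟨_, rfl⟩
  have hCK : C ≤ K := hC ▸ inf_le_left
  have hCP : ∀ c : C, ∀ x ∈ P, x * c * x⁻¹ = c := fun c x hx => by
    rw [((hC ▸ c.2 : (c : G) ∈ K ⊓ Subgroup.centralizer (P : Set G)).2 x hx)]; group
  have h1 := (corr_pgroup hP hPK hK hC hCK)
  have h2 := (h1.restrict (I' := {θ | θ ∈ IrrInv P K ∧ ∀ k, (θ k).im = 0})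
    (J' := {β | IsIrrCharacter C β ∧ ∀ k, (β k).im = 0}) (fun _ h => h.1) (fun _ h => h.1) fun θ hθ β hβ h => by
      have a1 := mult_conj (Subgroup.inclusion hCK) hθ.1.isCharacter hβ.isCharacter
      refine ⟨fun h' => ⟨hβ, (conj_eq_iff_forall_im β).1 (h1.uniq hθ hβ.conj hβ ?_ h)⟩,
        fun h' => ⟨hθ, (conj_eq_iff_forall_im θ).1 (h1.inj _ ⟨hθ.1.conj, ?_⟩ _ hθ β hβ ?_ h)⟩⟩
      · rwa [← a1, (conj_eq_iff_forall_im θ).2 h'.2] at h
      · exact (le_stab_iff hPK).2 fun s hs g g' e => congrArg conj (stab_apply (hθ.2 hs) e)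
      · rwa [← a1, (conj_eq_iff_forall_im β).2 h'.2] at h).card_eq
  have hinj : ∀ c c' : C, IsConj (Subgroup.inclusion hCK c) (Subgroup.inclusion hCK c') → IsConj c c' := by
    intro c c' h
    obtain ⟨y, hy⟩ := isConj_iff.1 h
    have h2 : (y : G) * c * (y : G)⁻¹ = c' := congrArg Subtype.val hy
    obtain ⟨d, hd, e⟩ := @glauberman_trans G _ _ G act P K hPK hcop hsolv c y y.2 (hCP c)
      (fun a ha => show a * (y * c * (y : G)⁻¹) * a⁻¹ = y * c * (y : G)⁻¹ by rw [h2, hCP c' a ha])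
    exact isConj_iff.2 ⟨⟨d, hC ▸ hd⟩, Subtype.ext (e.trans h2)⟩
  have hmk : ∀ c : C, ConjClasses.map (Subgroup.inclusion hCK) (ConjClasses.mk c) =
      ConjClasses.mk (Subgroup.inclusion hCK c) := fun _ => rfl
  refine (Nat.card_congr ⟨fun θ => ⟨θ.1.1, ⟨θ.1.2, (le_stab_iff hPK).2 θ.2.2⟩, θ.2.1⟩,
    fun θ => ⟨⟨θ.1, θ.2.1.1⟩, θ.2.2, (le_stab_iff hPK).1 θ.2.1.2⟩, fun _ => rfl, fun _ => rfl⟩).trans (h2.trans
    ((Nat.card_congr ⟨fun β => ⟨⟨β.1, β.2.1⟩, β.2.2⟩, fun β => ⟨β.1.1, β.1.2, β.2⟩, fun _ => rfl, fun _ => rfl⟩).trans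
    ((Cfsg.Agent.S0160.result (G := C)).trans (Nat.card_eq_of_bijective
      (fun c => ⟨ConjClasses.map (Subgroup.inclusion hCK) c.1, ?_⟩) ⟨fun c c' h => ?_, fun c => ?_⟩))))
  · obtain ⟨c, hc⟩ := c
    obtain ⟨c, rfl⟩ := ConjClasses.mk_surjective c
    simp only [hmk, ConjClasses.mk_eq_mk_iff_isConj]
    refine ⟨fun k hk => ?_, fun k hk x hx k' e => ?_⟩
    · obtain ⟨y, rfl⟩ := isConj_iff.1 hk.symm
      obtain ⟨d, hd⟩ := isConj_iff.1 ((Subgroup.inclusion hCK).map_isConj (hc c rfl))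
      refine isConj_iff.2 ⟨y * d * y⁻¹, ?_⟩
      calc _ = y * (d * Subgroup.inclusion hCK c * d⁻¹) * y⁻¹ := by group
        _ = _ := by rw [hd, map_inv]; group
    · obtain ⟨y, hy⟩ := isConj_iff.1 hk
      refine isConj_iff.2 ⟨cjA (hPK hx) y, Subtype.ext ?_⟩
      have h1 := congrArg Subtype.val hy
      simp only [Subgroup.coe_mul, Subgroup.coe_inv, coe_cjA, e, Subgroup.coe_inclusion] at h1 ⊢
      calc _ = x * (y * k * (y : G)⁻¹) * x⁻¹ := by group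
        _ = _ := by rw [h1, hCP c x hx]
  · obtain ⟨c, hc⟩ := c
    obtain ⟨c', hc'⟩ := c'
    obtain ⟨c, rfl⟩ := ConjClasses.mk_surjective c
    obtain ⟨c', rfl⟩ := ConjClasses.mk_surjective c'
    exact Subtype.ext (ConjClasses.mk_eq_mk_iff_isConj.2 (hinj _ _
      (ConjClasses.mk_eq_mk_iff_isConj.1 (congrArg Subtype.val h))))
  · obtain ⟨c, hc, hc'⟩ := c
    obtain ⟨k, rfl⟩ := ConjClasses.mk_surjective c
    obtain ⟨k', h3, h4⟩ := hfix k fun x hx k' e => ConjClasses.mk_eq_mk_iff_isConj.1 (hc' k rfl x hx k' e)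
    have h5 : (k' : G) ∈ C := hC ▸ ⟨k'.2, fun x hx => mul_inv_eq_iff_eq_mul.1 (h4 x hx)⟩
    refine ⟨⟨ConjClasses.mk ⟨k', h5⟩, fun d hd => hinj _ _ ?_⟩,
      Subtype.ext (ConjClasses.mk_eq_mk_iff_isConj.2 h3.symm)⟩
    exact hc _ (ConjClasses.mk_eq_mk_iff_isConj.2 (((Subgroup.inclusion hCK).map_isConj
      (ConjClasses.mk_eq_mk_iff_isConj.1 hd)).trans h3.symm))

theorem forall_of_card_eq {X : Type*} [Finite X] {A B : X → Prop} (h : Nat.card {x // A x ∧ B x} = Nat.card {x // A x})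
    {x : X} (hx : A x) : B x := by
  have := ((Nat.bijective_iff_injective_and_card (fun x : {x // A x ∧ B x} => (⟨x.1, x.2.1⟩ : {x // A x}))).2
    ⟨fun a b e => Subtype.ext (congrArg (fun z => z.1) e), h⟩).2 ⟨x, hx⟩
  obtain ⟨y, hy⟩ := this
  obtain rfl : y.1 = x := congrArg Subtype.val hy
  exact y.2.2

/-! linear characters versus an induced extension -/

theorem card_le_mul_of_fiber {A B : Type*} [Finite A] [Finite B] (f : A → B) {n : ℕ}
    (h : ∀ b, Nat.card {a // f a = b} ≤ n) : Nat.card A ≤ n * Nat.card B := by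
  let _ := Fintype.ofFinite B
  rw [← Nat.card_congr (Equiv.sigmaFiberEquiv f), Nat.card_sigma, Nat.card_eq_fintype_card (α := B), mul_comm,
    ← smul_eq_mul, ← Finset.card_univ, ← Finset.sum_const]
  exact Finset.sum_le_sum fun b _ => h b

theorem card_lin_le [Finite G] (hχ : IsIrrCharacter G χ) (T : Subgroup G) (P Q : IrrCharacter G → Prop)
    (h1 : ∀ φ ψ : G →* ℂˣ, P ⟨_, isIrrCharacter_monoidHom φ⟩ → P ⟨_, isIrrCharacter_monoidHom ψ⟩ →
      (fun g => χ g * φ g) = (fun g => χ g * ψ g) → ∀ t ∈ T, φ t = ψ t)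
    (h2 : ∀ φ : G →* ℂˣ, P ⟨_, isIrrCharacter_monoidHom φ⟩ → Q ⟨_, hχ.mul_monoidHom φ⟩) :
    Nat.card {ψ : IrrCharacter G // charDegree ψ.1 = 1 ∧ P ψ} ≤ T.index * Nat.card {ψ // Q ψ} := by
  rw [← Nat.card_eq_of_bijective (fun φ : {φ : G →* ℂˣ // P ⟨_, isIrrCharacter_monoidHom φ⟩} =>
    (⟨⟨_, isIrrCharacter_monoidHom φ.1⟩, charDegree_eq_of_apply_one (by simp), φ.2⟩ :
      {ψ : IrrCharacter G // charDegree ψ.1 = 1 ∧ P ψ}))
    ⟨fun a b e => Subtype.ext (monoidHom_coe_injective (congrArg (fun x => x.1.1) e)), fun ⟨⟨ψ, hψ⟩, h3, h4⟩ => by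
      obtain ⟨φ, rfl⟩ := hψ.isCharacter.exists_monoidHom ((deg_eq_one_iff hψ.isCharacter).1 h3)
      exact ⟨⟨φ, h4⟩, rfl⟩⟩]
  refine card_le_mul_of_fiber (fun φ => ⟨⟨_, hχ.mul_monoidHom φ.1⟩, h2 φ.1 φ.2⟩) fun b => ?_
  rcases isEmpty_or_nonempty {a : {φ : G →* ℂˣ // P ⟨_, isIrrCharacter_monoidHom φ⟩} //
    (⟨⟨_, hχ.mul_monoidHom a.1⟩, h2 a.1 a.2⟩ : {ψ // Q ψ}) = b} with h | ⟨⟨a⟩⟩
  · simp
  haveI : (T ⊔ commutator G).Normal := Subgroup.Normal.of_commutator_le G le_sup_right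
  refine (Nat.card_le_card_of_injective (fun x => (⟨(x.1.1 / a.1.1 : G →* ℂˣ), fun w hw => ?_⟩ :
    ann (T ⊔ commutator G))) fun x y e => ?_).trans ?_
  · refine (sup_le (fun t ht => ?_) (Abelianization.commutator_subset_ker _) : _ ≤ (x.1.1 / a.1.1).ker) hw
    rw [MonoidHom.mem_ker, MonoidHom.div_apply, div_eq_one]
    exact h1 _ _ x.1.2 a.1.2 (congrArg (fun z => z.1.1) (x.2.trans a.2.symm)) t ht
  · exact Subtype.ext (Subtype.ext (div_left_injective (congrArg Subtype.val e)))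
  · rw [card_ann]
    exact Subgroup.index_antitone (le_sup_left.trans le_sup_left)

theorem eq_on_inertia [Fintype G] (N : Subgroup G) [N.Normal] {θ : N → ℂ} (hθ : IsIrrCharacter N θ)
    {T : Subgroup G} (hT : T = inertia N θ) (hNT : N ≤ T) {ξ : T → ℂ} (hξ : IsCharacter T ξ)
    (h1 : ∀ n : N, ξ ⟨n, hNT n.2⟩ = θ n) {φ ψ : G →* ℂˣ} (hφ : N ≤ φ.ker) (hψ : N ≤ ψ.ker)
    (h : (fun g => indFun T ξ g * φ g) = fun g => indFun T ξ g * ψ g) : ∀ t ∈ T, φ t = ψ t := by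
  classical
  have h2 : IsIrrCharacter (N.subgroupOf T) fun n => ξ n := by
    convert (isIrr_subgroupOf_iff N T hNT θ).2 hθ using 2 with n
    exact h1 ⟨n, n.2⟩
  have h3 := H05.Cfsg.IsIrrCharacter.of_restrict hξ _ h2
  have h4 : ∀ φ : G →* ℂˣ, N ≤ φ.ker → classInner (fun n : N => ξ ⟨n, hNT n.2⟩ * φ n) θ ≠ 0 := fun φ hφ => by
    rw [show (fun n : N => ξ ⟨n, hNT n.2⟩ * φ n) = θ from funext fun n => by
      rw [h1, MonoidHom.mem_ker.1 (hφ n.2)]; simp, hθ.classInner_self]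
    exact one_ne_zero
  have h5 := clifford_corr_inj' N T hNT hθ hT (h3.mul_monoidHom (φ.comp T.subtype)) (h4 φ hφ)
    (h3.mul_monoidHom (ψ.comp T.subtype)) (h4 ψ hψ) (by
      refine (indFun_mul_res T ξ _ (isCharacter_monoidHom φ).isClassFunction).trans (h.trans ?_)
      exact (indFun_mul_res T ξ _ (isCharacter_monoidHom ψ).isClassFunction).symm)
  have h6 := gallagher_one_inj (N.subgroupOf T) hξ h2 (isIrrCharacter_monoidHom (φ.comp T.subtype))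
    (fun n hn => by simpa using hφ hn) (isIrrCharacter_monoidHom (ψ.comp T.subtype))
    (fun n hn => by simpa using hψ hn) (funext fun t => by
      simpa [mul_comm] using congrFun h5 t)
  exact fun t ht => Units.ext (congrFun h6 ⟨t, ht⟩)

theorem isIrr_ind_ext [Fintype G] (N : Subgroup G) [N.Normal] {θ : N → ℂ} (hθ : IsIrrCharacter N θ)
    {T : Subgroup G} (hT : T = inertia N θ) (hNT : N ≤ T) {ξ : T → ℂ} (hξ : IsCharacter T ξ)
    (h1 : ∀ n : N, ξ ⟨n, hNT n.2⟩ = θ n) :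
    IsIrrCharacter G (indFun T ξ) ∧ charDegree (indFun T ξ) = charDegree θ * T.index := by
  have := isIrr_ind_mul_ext N hθ hT hNT hξ h1 isIrrCharacter_one (fun _ => rfl)
  rw [one_mul, charDegree_eq_of_apply_one (χ := (1 : T → ℂ)) (n := 1) (by simp), one_mul, mul_comm] at this
  exact this

theorem fs_mul_hom [Fintype G] {φ : G →* ℂˣ} (hφ : fsIndicator (fun g => (φ g : ℂ)) = 1) :
    fsIndicator (fun g => χ g * φ g) = fsIndicator χ := by
  have h1 : ∀ g, (φ (g * g) : ℂ) = 1 := fun g => by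
    have := monoidHom_mul_conj φ g
    rwa [Complex.conj_eq_iff_im.2 (real_of_fs (isIrrCharacter_monoidHom φ) hφ g), ← Units.val_mul, ← map_mul] at this
  simp only [fsIndicator, h1, mul_one]

theorem fs_indFun [Fintype G] (T : Subgroup G) [Fintype T] {ξ : T → ℂ} (hξ : IsIrrCharacter T ξ)
    (hr : ∀ t, (ξ t).im = 0) (h : IsIrrCharacter G (indFun T ξ)) : fsIndicator (indFun T ξ) = fsIndicator ξ := by
  refine fs_eq_of_odd T.subtype h (fun g => ?_) hξ hr (m := 1) ?_ odd_one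
  · rw [← Complex.conj_eq_iff_im, ← indFun_conj, (conj_eq_iff_forall_im ξ).2 hr]
  · exact (frobenius_reciprocity_right T ξ _ h.isClassFunction).symm.trans (by rw [h.classInner_self, Nat.cast_one])

theorem le_commutator_of_minimal {N : Subgroup G} [N.Normal] (hmin : ∀ M : Subgroup G, M.Normal → M ≤ N → M = ⊥ ∨ M = N)
    (hna : ¬ IsMulCommutative N) : N ≤ commutator G := by
  rcases hmin ⁅N, N⁆ inferInstance (Subgroup.commutator_le_left _ _) with h | h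
  · exact (hna ⟨⟨fun a b => Subtype.ext (commutatorElement_eq_one_iff_mul_comm.1
      (Subgroup.mem_bot.1 (h ▸ Subgroup.commutator_mem_commutator a.2 b.2)))⟩⟩).elim
  · exact h ▸ Subgroup.commutator_mono le_top le_top

theorem eq_inertia {N : Subgroup G} [N.Normal] {φ : N → ℂ} {I : Subgroup G}
    (hI : ∀ g : G, g ∈ I ↔ ∀ n n' : N, (n' : G) = g * n * g⁻¹ → φ n' = φ n) : I = inertia N φ := by
  ext g
  rw [hI, mem_inertia']
  exact ⟨fun h n => h _ _ rfl, fun h n n' e => by rw [← h n]; exact congrArg φ (Subtype.ext e)⟩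

theorem exists_fs_ind [Fintype G] {N P : Subgroup G} [hN : N.Normal] {q : ℕ} [hq : Fact q.Prime] (hq2 : q ≠ 2)
    (hNel : IsElementaryAbelian q N) (hP : IsPGroup 2 P) (hP1 : P ≠ ⊥) (hdisj : N ⊓ P = ⊥) (hprod : N ⊔ P = ⊤)
    (hmin : N ≠ ⊥ ∧ ∀ M : Subgroup G, M.Normal → M ≠ ⊥ → N ≤ M) :
    ∃ (χ : IrrCharacter G) (T : Subgroup G), fsIndicator χ.1 = 1 ∧ charDegree χ.1 = T.index ∧ 2 ∣ T.index ∧
      ∀ φ ψ : G →* ℂˣ, N ≤ φ.ker → N ≤ ψ.ker → (fun g => χ.1 g * φ g) = (fun g => χ.1 g * ψ g) →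
        ∀ t ∈ T, φ t = ψ t := by
  classical
  haveI := Fact.mk Nat.prime_two
  haveI := hNel.1
  have hab : ∀ a ∈ N, ∀ b ∈ N, a * b = b * a := fun a ha b hb =>
    congrArg Subtype.val (hNel.1.1.1 ⟨a, ha⟩ ⟨b, hb⟩)
  have hdec : ∀ g : G, ∃ n ∈ N, ∃ s ∈ P, n * s = g := fun g =>
    Subgroup.mem_sup_of_normal_left.1 (hprod ▸ Subgroup.mem_top g)
  obtain ⟨z, hzP, hz1, hz2, hzc⟩ : ∃ z ∈ P, z ≠ 1 ∧ z * z = 1 ∧ ∀ s ∈ P, s * z = z * s := by
    haveI := (Subgroup.nontrivial_iff_ne_bot P).2 hP1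
    haveI := hP.center_nontrivial
    obtain ⟨k, hk0, hk⟩ := (hP.to_subgroup (Subgroup.center P)).nontrivial_iff_card.1 inferInstance
    obtain ⟨z, hz⟩ := exists_prime_orderOf_dvd_card' (G := Subgroup.center P) 2 (hk ▸ dvd_pow_self 2 hk0.ne')
    rw [← Subgroup.orderOf_coe, ← Subgroup.orderOf_coe] at hz
    refine ⟨z.1, z.1.2, fun h => by simp [h] at hz, by rw [← sq, ← hz, pow_orderOf_eq_one], fun s hs => ?_⟩
    exact congrArg Subtype.val (Subgroup.mem_center_iff.1 z.2 ⟨s, hs⟩)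
  have hC : N ⊓ Subgroup.centralizer {z} = ⊥ := by
    by_contra hne
    have h1 := hmin.2 (N ⊓ Subgroup.centralizer {z}) ⟨fun x hx g => ⟨hN.conj_mem x hx.1 g, by
      obtain ⟨n, hn, s, hs, rfl⟩ := hdec g
      have a1 : n * s * x * (n * s)⁻¹ = s * x * s⁻¹ := by
        rw [show n * s * x * (n * s)⁻¹ = n * (s * x * s⁻¹) * n⁻¹ by group, hab n hn _ (hN.conj_mem x hx.1 s)]; group
      have a2 := Subgroup.mem_centralizer_singleton_iff.2 (hzc s hs)
      rw [a1]; exact Subgroup.mul_mem _ (Subgroup.mul_mem _ a2 hx.2) (Subgroup.inv_mem _ a2)⟩⟩ hne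
    have h2 : ∀ g, g * z = z * g := fun g => by
      obtain ⟨n, hn, s, hs, rfl⟩ := hdec g
      rw [mul_assoc, hzc s hs, ← mul_assoc, Subgroup.mem_centralizer_singleton_iff.1 (h1 hn).2, mul_assoc]
    have h3 := hmin.2 (Subgroup.zpowers z) ⟨by
      rintro _ ⟨i, rfl⟩ g
      exact ⟨i, by simp only; rw [((show Commute g z from h2 g).zpow_right i).eq]; group⟩⟩ (by simpa using hz1)
    exact hmin.1 (eq_bot_iff.2 (hdisj ▸ le_inf le_rfl (h3.trans (Subgroup.zpowers_le.2 hzP))))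
  have hinv : ∀ n ∈ N, z * n * z⁻¹ = n⁻¹ := fun n hn => by
    have a1 : n * (z * n * z⁻¹) ∈ N ⊓ Subgroup.centralizer {z} := Subgroup.mem_inf.2 ⟨N.mul_mem hn (hN.conj_mem n hn z), by
      rw [Subgroup.mem_centralizer_singleton_iff, ← eq_inv_of_mul_eq_one_left hz2]
      calc _ = n * (z * n) * (z * z) := by group
        _ = (z * z) * n * z * n := by rw [hz2]; group
        _ = z * (z * n * z * n) := by group
        _ = _ := by rw [hab n hn (z * n * z) (by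
          have := hN.conj_mem n hn z; rwa [← eq_inv_of_mul_eq_one_left hz2] at this)]⟩
    rw [hC, Subgroup.mem_bot] at a1
    exact eq_inv_of_mul_eq_one_right a1
  obtain ⟨x, hx⟩ : ∃ x : N, x ≠ 1 := by
    haveI := (Subgroup.nontrivial_iff_ne_bot N).2 hmin.1
    exact exists_ne 1
  obtain ⟨θ, hθ⟩ := exists_hom_apply_ne_one (G := N) (x := x) (by rwa [(commutator_eq_bot_iff N).2 hNel.1])
  obtain ⟨T, hT⟩ : ∃ T, T = inertia N (fun n => (θ n : ℂ)) := ⟨_, rfl⟩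
  have hθi := isIrrCharacter_monoidHom θ
  have hNT : N ≤ T := hT ▸ le_inertia N hθi.isClassFunction
  obtain ⟨a, ha⟩ := hP.exists_card_eq
  have hcq : (2 ^ a).Coprime q := ((Nat.coprime_primes Nat.prime_two hq.out).2 hq2.symm).pow_left a
  have hidx : N.index ∣ 2 ^ a := ha ▸ index_dvd_of_sup hprod
  have hNq : IsPGroup q N := fun n => ⟨1, Subtype.ext (by simpa using hNel.2 n n.2)⟩
  obtain ⟨ξ, hξ, hξ1⟩ := exists_ext_le_of_coprime N hθi hT.le hNT (coprime_card_of_isPGroup hNq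
    (hcq.of_dvd_left ((Subgroup.relIndex_dvd_index_of_normal N T).trans hidx)))
  obtain ⟨φ, rfl⟩ := hξ.isCharacter.exists_monoidHom ((hξ1 1).trans (by simp))
  obtain ⟨m, -, hm⟩ := Nat.exists_mul_mod_eq_one_of_coprime hcq hq.out.one_lt
  have e1 : ∀ n : N, (φ ^ (2 ^ a * m)) ⟨n, hNT n.2⟩ = θ n := fun n => by
    rw [MonoidHom.pow_apply, ← map_pow, pow_eq_pow_mod _ (show (⟨n, hNT n.2⟩ : T) ^ q = 1 from
      Subtype.ext (hNel.2 n n.2)), hm, pow_one]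
    exact Units.ext (hξ1 n)
  have e2 : ∀ t : T, (t : G) ∈ P → (φ ^ (2 ^ a * m)) t = 1 := fun t ht => by
    rw [MonoidHom.pow_apply, ← map_pow, pow_mul, show t ^ 2 ^ a = 1 from Subtype.ext (by
      have := pow_card_eq_one' (x := (⟨t, ht⟩ : P)); rw [ha] at this; exact congrArg (fun x : P => (x : G)) this), one_pow, map_one]
  generalize φ ^ (2 ^ a * m) = μ at e1 e2
  have e1' : ∀ n : N, (μ ⟨n, hNT n.2⟩ : ℂ) = θ n := fun n => by rw [e1]
  obtain ⟨h1, h2⟩ := isIrr_ind_ext N hθi hT hNT (isCharacter_monoidHom μ) e1'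
  rw [charDegree_eq_of_apply_one (χ := fun n => (θ n : ℂ)) (n := 1) (by simp), one_mul] at h2
  have hzT : ∀ t ∈ T, ∃ n ∈ N, ∃ s ∈ P, s ∈ T ∧ n * s = t ∧ z * t * z⁻¹ = n⁻¹ * s := fun t ht => by
    obtain ⟨n, hn, s, hs, rfl⟩ := hdec t
    refine ⟨n, hn, s, hs, (T.mul_mem_cancel_left (hNT hn)).1 ht, rfl, ?_⟩
    rw [← hinv n hn, ← mul_assoc, mul_inv_eq_iff_eq_mul, mul_assoc _ s z, hzc s hs]; group
  have hzT' : ∀ t, t ∈ T ↔ z * t * z⁻¹ ∈ T := by
    have a1 : ∀ t ∈ T, z * t * z⁻¹ ∈ T := fun t ht => by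
      obtain ⟨n, hn, s, -, hs, -, e⟩ := hzT t ht
      exact e ▸ T.mul_mem (T.inv_mem (hNT hn)) hs
    refine fun t => ⟨a1 t, fun h => ?_⟩
    have := a1 _ h
    rwa [show z * (z * t * z⁻¹) * z⁻¹ = (z * z) * t * (z * z)⁻¹ by group, hz2, one_mul, inv_one, mul_one] at this
  refine ⟨⟨_, h1⟩, T, ?_, h2, ?_, fun φ ψ a1 a2 => eq_on_inertia N hθi hT hNT (isCharacter_monoidHom μ) e1' a1 a2⟩
  · refine (fs_eq_of_odd P.subtype h1 (fun g => ?_) isIrrCharacter_one (by simp) (m := 1) ?_ odd_one).trans (by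
      simp [fsIndicator])
    · rw [← Complex.conj_eq_iff_im, ← indFun_conj, ← indFun_conjSubgroup T z T hzT' fun t => (μ t : ℂ)]
      refine congrFun (congrArg _ (funext fun t => ?_)) g
      obtain ⟨n, hn, s, hs, hs', e, e'⟩ := hzT t t.2
      have a1 : t = ⟨n, hNT hn⟩ * ⟨s, hs'⟩ := Subtype.ext e.symm
      have a2 : (⟨z * t * z⁻¹, (hzT' _).1 t.2⟩ : T) = (⟨n, hNT hn⟩ : T)⁻¹ * ⟨s, hs'⟩ := Subtype.ext e'
      rw [a2, map_mul, e2 ⟨s, hs'⟩ hs, mul_one, map_inv, Units.val_inv_eq_inv_val]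
      refine eq_inv_of_mul_eq_one_right ?_
      rw [← monoidHom_mul_conj μ t]
      congr 2
      rw [a1, map_mul, e2 ⟨s, hs'⟩ hs, mul_one]
    · rw [show (fun h : P => indFun T (fun t => (μ t : ℂ)) (P.subtype h)) = indFun (T.subgroupOf P) 1 from
        funext fun k => (mackey_of_mul_eq_top T P (fun g => by
          obtain ⟨s, hs, n, hn, rfl⟩ := Subgroup.mem_sup_of_normal_right.1 ((sup_comm N P ▸ hprod) ▸ Subgroup.mem_top g)
          exact ⟨s, hs, n, hNT hn, rfl⟩) _ (isCharacter_monoidHom μ).isClassFunction k).trans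
          (congrFun (congrArg _ (funext fun y => by rw [e2 _ y.1.2]; rfl)) k),
        frobenius_reciprocity _ _ _ isIrrCharacter_one.isClassFunction, Nat.cast_one]
      exact isIrrCharacter_one.classInner_self
  · obtain ⟨b, -, hb⟩ := (Nat.dvd_prime_pow Nat.prime_two).1 ((Subgroup.index_dvd_of_le hNT).trans hidx)
    rcases b with _ | b
    · have a1 : z ∈ inertia N (fun n => (θ n : ℂ)) := hT ▸ (Subgroup.index_eq_one.1 hb ▸ Subgroup.mem_top z)
      have a2 : θ x⁻¹ = θ x := Units.ext ((congrArg (fun n => (θ n : ℂ)) (Subtype.ext (hinv x x.2).symm)).trans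
        ((mem_inertia' N).1 a1 x))
      have a3 : θ x ^ 2 = 1 := by rw [sq]; nth_rw 1 [← a2]; rw [← map_mul, inv_mul_cancel, map_one]
      have a4 : θ x ^ q = 1 := by rw [← map_pow, show x ^ q = 1 from Subtype.ext (hNel.2 x x.2), map_one]
      exact (hθ (by simpa [((Nat.coprime_primes Nat.prime_two hq.out).2 hq2.symm).gcd_eq_one] using
        pow_gcd_eq_one.2 ⟨a3, a4⟩)).elim
    · exact hb ▸ dvd_pow_self 2 b.succ_ne_zero

end H07
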