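import Cfsg.Agent.H07.Misc1
import Cfsg.Agent.H07.Gagola
import Cfsg.Agent.H07.LinGrp
import Cfsg.Agent.H07.Real2
import Cfsg.Agent.H04.Quat2
import Cfsg.Agent.H04.MaxClass

/-! Involution counts through Frobenius–Schur indicators; groups with prime character degrees. -/

namespace H07
open Cfsg H05 H06 H01
open scoped ComplexConjugate commutatorElement Pointwise

universe u
variable {G : Type*} [Group G] {χ : G → ℂ}

theorem not_dvd_div_of_pow_dvd {n x p : ℕ} (hp : p.Prime) (hn : n ≠ 0) (hx : x ∣ n) (h : p ^ n.factorization p ∣ x) :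
    ¬ p ∣ n / x := fun h' => by
  have := mul_dvd_mul h h'
  rw [Nat.mul_div_cancel' hx, ← pow_succ] at this
  exact Nat.pow_succ_factorization_not_dvd hn hp this

theorem sum_sq_odd [Fintype G] (f : G → ℂ) [DecidablePred fun g : G => Odd (orderOf g)] :
    ∑ g with Odd (orderOf g), f (g * g) = ∑ g with Odd (orderOf g), f g := by
  have hm : ∀ g ∈ Finset.univ.filter fun g : G => Odd (orderOf g),
      g * g ∈ Finset.univ.filter fun g : G => Odd (orderOf g) := fun g hg => by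
    simp only [Finset.mem_filter, Finset.mem_univ, true_and, ← sq] at hg ⊢
    exact hg.of_dvd_nat (orderOf_pow_dvd 2)
  have hi : ∀ a ∈ Finset.univ.filter fun g : G => Odd (orderOf g), ∀ b ∈ Finset.univ.filter fun g : G =>
      Odd (orderOf g), a * a = b * b → a = b := fun a ha b hb e => by
    obtain ⟨k, hk⟩ := (Finset.mem_filter.1 ha).2.mul (Finset.mem_filter.1 hb).2
    have h1 : ∀ c : G, orderOf c ∣ 2 * k + 1 → (c * c) ^ (k + 1) = c := fun c hc => by
      rw [← sq, ← pow_mul, show 2 * (k + 1) = 2 * k + 1 + 1 by ring, pow_succ, orderOf_dvd_iff_pow_eq_one.1 hc, one_mul]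
    rw [← h1 a (hk ▸ dvd_mul_right _ _), e, h1 b (hk ▸ dvd_mul_left _ _)]
  refine Finset.sum_bij (fun g _ => g * g) hm (fun a ha b hb => hi a ha b hb) (fun b hb => ?_) fun _ _ => rfl
  obtain ⟨a, ha, e⟩ := Finset.surj_on_of_inj_on_of_card_le (fun g _ => g * g) hm
    (fun a b ha hb => hi a ha b hb) le_rfl b hb
  exact ⟨a, ha, e.symm⟩

theorem defect_zero_involutions [Fintype G] (heven : Even (Nat.card G)) (hχ : IsIrrCharacter G χ)
    (h2 : 2 ^ (Nat.card G).factorization 2 ∣ charDegree χ)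
    (hp : ∀ p : ℕ, p.Prime → p ≠ 2 → (∃ g : G, orderOf g = 2 * p) → p ^ (Nat.card G).factorization p ∣ charDegree χ) :
    (∀ s t : G, orderOf s = 2 → orderOf t = 2 → IsConj s t) ∧ (∀ s : G, orderOf s = 2 →
      Nat.card (Subgroup.centralizer ({s} : Set G)) = charDegree χ ∧ (Nat.card (Subgroup.centralizer
      ({s} : Set G))).Coprime (Subgroup.centralizer ({s} : Set G)).index) ∧ fsIndicator χ = 1 := by
  classical
  have hG : Nat.card G ≠ 0 := Nat.card_pos.ne'
  have hπ : ∀ p : ℕ, p.Prime → (p ≠ 2 → ∃ g : G, 2 * p ∣ orderOf g) → p ^ (Nat.card G).factorization p ∣ charDegree χ :=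
    fun p hp' h => (em (p = 2)).elim (fun e => e ▸ h2) fun e => hp p hp' e <| by
      obtain ⟨g, k, hk⟩ := h e
      have := orderOf_pos g
      exact ⟨g ^ k, by rw [orderOf_pow_of_dvd (by rintro rfl; omega) (hk ▸ dvd_mul_left _ _), hk,
        Nat.mul_div_cancel _ (Nat.pos_of_ne_zero (by rintro rfl; omega))]⟩
  have h0 : ∀ p : ℕ, p.Prime → (p ≠ 2 → ∃ g : G, 2 * p ∣ orderOf g) → ∀ x, p ∣ orderOf x → χ x = 0 :=
    fun p hp' h x => hχ.apply_eq_zero_of_defect_zero hp'
      (not_dvd_div_of_pow_dvd hp' hG hχ.charDegree_dvd_card (hπ p hp' h))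
  have h1 : χ ≠ 1 := by
    rintro rfl
    haveI := Fact.mk Nat.prime_two
    obtain ⟨x, hx⟩ := exists_prime_orderOf_dvd_card' 2 heven.two_dvd
    exact one_ne_zero (h0 2 Nat.prime_two (fun h => absurd rfl h) x hx.symm.dvd)
  set I := Finset.univ.filter fun g : G => orderOf g = 2
  have h3 : ∑ g, χ (g * g) = I.card * charDegree χ := by
    rw [← Finset.sum_filter_add_sum_filter_not Finset.univ (fun g : G => Odd (orderOf g)), sum_sq_odd,
      Finset.sum_subset (Finset.filter_subset _ _) fun x _ hx => h0 2 Nat.prime_two (fun h => absurd rfl h) x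
        (by simpa [even_iff_two_dvd] using hx), hχ.sum_eq_zero h1, zero_add, ← nsmul_eq_mul, ← Finset.sum_const]
    symm
    refine Finset.sum_subset_zero_on_sdiff (fun x hx => by simp [(Finset.mem_filter.1 hx).2]) (fun x hx => ?_)
      fun x hx => by rw [← sq, ← (Finset.mem_filter.1 hx).2, pow_orderOf_eq_one, hχ.charDegree_eq]
    simp only [I, Finset.mem_sdiff, Finset.mem_filter, Finset.mem_univ, true_and, Nat.not_odd_iff_even] at hx
    obtain ⟨m, hm⟩ := hx.1.two_dvd
    obtain ⟨p, hp', hpm⟩ := Nat.exists_prime_and_dvd (n := m) (by rintro rfl; exact hx.2 hm)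
    refine h0 p hp' (fun _ => ⟨x, hm ▸ mul_dvd_mul_left 2 hpm⟩) _ ?_
    rwa [← sq, orderOf_pow_of_dvd two_ne_zero hx.1.two_dvd, hm, Nat.mul_div_cancel_left _ two_pos]
  have hI : 0 < I.card := by
    haveI := Fact.mk Nat.prime_two
    obtain ⟨x, hx⟩ := exists_prime_orderOf_dvd_card' 2 heven.two_dvd
    exact Finset.card_pos.2 ⟨x, by simpa [I] using hx⟩
  have h4 : Nat.card G * fsIndicator χ = (I.card * charDegree χ : ℕ) := by
    rw [fsIndicator, mul_inv_cancel_left₀ card_ne_zero_complex, h3, Nat.cast_mul]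
  have h5 : fsIndicator χ = 1 := by
    have := Nat.mul_pos hI hχ.charDegree_pos
    rcases hχ.fsIndicator_cases with h | h | h <;> rw [h] at h4
    · have : 0 = I.card * charDegree χ := by exact_mod_cast (mul_zero _).symm.trans h4
      omega
    · exact h
    · have : (I.card * charDegree χ + Nat.card G : ℕ) = 0 := by
        exact_mod_cast (by rw [← h4]; ring : ((I.card * charDegree χ : ℕ) : ℂ) + Nat.card G = 0)
      omega
  have h6 : Nat.card G = I.card * charDegree χ := by rw [h5, mul_one] at h4; exact_mod_cast h4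
  have h7 : ∀ s, orderOf s = 2 → ∀ p : ℕ, p.Prime → p ∣ Nat.card (Subgroup.centralizer ({s} : Set G)) →
      p ≠ 2 → ∃ g : G, 2 * p ∣ orderOf g := fun s hs p hp' h hne => by
    haveI := Fact.mk hp'
    obtain ⟨x, hx⟩ := exists_prime_orderOf_dvd_card' p h
    have hc : Commute s x := (Subgroup.mem_centralizer_singleton_iff.1 x.2).symm
    rw [← Subgroup.orderOf_coe] at hx
    exact ⟨s * x, by rw [hc.orderOf_mul_eq_mul_orderOf_of_coprime (by
      rw [hs, hx]; exact (Nat.coprime_primes Nat.prime_two hp').2 hne.symm), hs, hx]⟩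
  have h8 : ∀ s, orderOf s = 2 → Finset.univ.filter (IsConj s) = I ∧
      Nat.card (Subgroup.centralizer ({s} : Set G)) = charDegree χ := fun s hs => by
    have a1 := card_dvd_deg_of_vanish (hχ.isCharacter.restrict (Subgroup.centralizer {s})) fun g hg => by
      obtain ⟨p, hp', h⟩ := Nat.exists_prime_and_dvd (mt orderOf_eq_one_iff.1 hg)
      exact h0 p hp' (h7 s hs p hp' (h.trans (orderOf_dvd_natCard g))) _ (by rwa [Subgroup.orderOf_coe])
    rw [charDegree_restrict] at a1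
    have a2 : Finset.univ.filter (IsConj s) ⊆ I := fun x hx => by
      obtain ⟨c, rfl⟩ := isConj_iff.1 (Finset.mem_filter.1 hx).2
      simpa [I] using (SemiconjBy.orderOf_eq c (SemiconjBy.conj_mk c s)).symm.trans hs
    have a3 := Finset.card_le_card a2
    have a4 := (Subgroup.centralizer ({s} : Set G)).index_mul_card
    have a5 := Nat.le_of_dvd hχ.charDegree_pos a1
    rw [← card_filter_isConj, h6] at a4
    have a6 := hχ.charDegree_pos
    have a7 : I.card ≤ (Finset.univ.filter (IsConj s)).card := by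
      by_contra h; nlinarith
    exact ⟨Finset.eq_of_subset_of_card_le a2 a7, by nlinarith⟩
  refine ⟨fun s t hs ht => (Finset.mem_filter.1 ((h8 s hs).1.ge (by simpa [I] using ht))).2,
    fun s hs => ⟨(h8 s hs).2, Nat.Coprime.symm ((Nat.coprime_iff_isRelPrime.2 ?_))⟩, h5⟩
  refine Nat.coprime_iff_isRelPrime.1 (Nat.eq_one_iff_not_exists_prime_dvd.2 fun p hp' h => ?_)
  refine not_dvd_div_of_pow_dvd hp' hG hχ.charDegree_dvd_card (hπ p hp' (h7 s hs p hp' (h.trans (Nat.gcd_dvd_right _ _)))) ?_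
  rw [← (h8 s hs).2, ← (Subgroup.centralizer ({s} : Set G)).index_mul_card, Nat.mul_div_cancel _ Nat.card_pos]
  exact h.trans (Nat.gcd_dvd_left _ _)

theorem card_dvd_card_sq [Finite G] (V : Subgroup G) (h : ∀ v ∈ V, v ∈ Subgroup.center G ∧ v * v = 1) :
    Nat.card V ∣ Nat.card {s : G // s * s = 1} := by
  letI : MulAction V {s : G // s * s = 1} :=
    { smul := fun v s => ⟨v * s, by
        rw [mul_assoc, ← mul_assoc s.1, Subgroup.mem_center_iff.1 (h v v.2).1, mul_assoc, s.2, mul_one, (h v v.2).2]⟩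
      one_smul := fun s => Subtype.ext (one_mul _)
      mul_smul := fun a b s => Subtype.ext (mul_assoc _ _ _) }
  have := Nat.card_congr (MulAction.selfEquivOrbitsQuotientProd (G := V) (X := {s : G // s * s = 1})
    fun s => eq_bot_iff.2 fun v hv =>
    Subtype.ext (mul_right_cancel ((congrArg Subtype.val hv).trans (one_mul s.1).symm)))
  rw [this, Nat.card_prod]
  exact dvd_mul_left _ _

theorem central_invol_unique [Finite G] (hG : IsPGroup 2 G) (h : ¬ 4 ∣ Nat.card {s : G // s * s = 1}) {z w : G}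
    (hz : z ∈ Subgroup.center G) (hz2 : z * z = 1) (hz1 : z ≠ 1) (hw : w ∈ Subgroup.center G) (hw2 : w * w = 1)
    (hw1 : w ≠ 1) : z = w := by
  let V : Subgroup G :=
    { carrier := {v | v ∈ Subgroup.center G ∧ v * v = 1}
      mul_mem' := fun {a b} ha hb => ⟨mul_mem ha.1 hb.1, by
        rw [mul_assoc, ← mul_assoc b, Subgroup.mem_center_iff.1 ha.1, mul_assoc, hb.2, mul_one, ha.2]⟩
      one_mem' := ⟨one_mem _, one_mul _⟩
      inv_mem' := fun {a} ha => ⟨inv_mem ha.1, by rw [← mul_inv_rev, ha.2, inv_one]⟩ }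
  haveI := Fact.mk Nat.prime_two
  obtain ⟨n, hn⟩ := H04.card_eq_pow hG V
  have h1 := card_dvd_card_sq V fun _ hv => hv
  by_contra hne
  letI := Fintype.ofFinite V
  have h2 : 2 < Nat.card V := Nat.card_eq_fintype_card (α := V) ▸ Fintype.two_lt_card_iff.2 ⟨1, ⟨z, hz, hz2⟩, ⟨w, hw, hw2⟩,
    fun e => hz1 (congrArg Subtype.val e).symm, fun e => hw1 (congrArg Subtype.val e).symm,
    fun e => hne (congrArg Subtype.val e)⟩
  rw [hn] at h1 h2
  exact h ((pow_dvd_pow 2 (show 2 ≤ n from (Nat.pow_lt_pow_iff_right one_lt_two (n := 1)).1 h2)).trans h1)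

theorem fs_inflIrr [Fintype G] (N : Subgroup G) [N.Normal] [Fintype (G ⧸ N)] (ψ : IrrCharacter (G ⧸ N)) :
    fsIndicator (inflIrr N ψ).1 = fsIndicator ψ.1 := by
  have := sum_comp_of_surjective (QuotientGroup.mk' N) (QuotientGroup.mk'_surjective N) fun x => ψ.1 (x * x)
  rw [fsIndicator, fsIndicator, ← N.card_mul_index, Nat.cast_mul, mul_inv, mul_assoc, mul_left_comm]
  congr 1
  rw [QuotientGroup.ker_mk'] at this
  exact (inv_mul_eq_iff_eq_mul₀ card_ne_zero_complex).2 this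

theorem alperin_feit_thompson (n : ℕ) : ∀ (G : Type*) [Group G] [Finite G], IsPGroup 2 G → Nat.card G = n →
    Nat.card {s : G // s * s = 1} % 4 = 2 → IsCyclic G ∨ (commutator G).index = 4 := by
  induction n using Nat.strong_induction_on with | _ n ih => ?_
  intro G _ _ hG hn hT
  classical
  letI := Fintype.ofFinite G
  haveI := Fact.mk Nat.prime_two
  have hu := @central_invol_unique G _ _ hG (by omega)
  by_cases hab : IsMulCommutative G
  · have hc : ∀ x : G, x ∈ Subgroup.center G := fun x => Subgroup.mem_center_iff.2 fun y => hab.1.1 y x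
    have h1 : ∀ H K : Subgroup G, Nat.card H = 2 → Nat.card K = 2 → H ≤ K := fun H K hH hK x hx => by
      obtain ⟨y, hy, -⟩ := (Nat.card_eq_two_iff' (1 : K)).1 hK
      have h2 : ∀ (L : Subgroup G), Nat.card L = 2 → ∀ a ∈ L, a * a = 1 := fun L hL a ha => by
        have := pow_card_eq_one' (x := (⟨a, ha⟩ : L))
        rw [hL, sq] at this
        exact congrArg Subtype.val this
      by_cases h : x = 1
      · exact h ▸ K.one_mem
      · exact hu (hc y) (h2 K hK _ y.2) (fun e => hy (Subtype.ext e)) (hc x) (h2 H hH _ hx) h ▸ y.2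
    exact (H04.isCyclic_or_dsq_of_unique hG fun H K hH hK => le_antisymm (h1 H K hH hK) (h1 K H hK hH)).imp_right
      fun ⟨_, _, _, h, _⟩ => absurd hab (H04.not_comm_of_lcs_ne_bot h.lcs_ne_bot)
  refine Or.inr ?_
  obtain ⟨z, hz, hz1, hz2, hzc⟩ := H04.exists_mem_center_pow_eq_one_of_normal hG (commutator G) fun h =>
    hab ⟨⟨fun a b => commutatorElement_eq_one_iff_mul_comm.1 (Subgroup.mem_bot.1
      (h ▸ Subgroup.commutator_mem_commutator (Subgroup.mem_top a) (Subgroup.mem_top b)))⟩⟩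
  set Z := Subgroup.zpowers z
  have hZc : Z ≤ Subgroup.center G := Subgroup.zpowers_le_of_mem hzc
  haveI : Z.Normal := ⟨fun n hn g => by rwa [Subgroup.mem_center_iff.1 (hZc hn) g, mul_inv_cancel_right]⟩
  have hZ : Nat.card Z = 2 := by rw [Nat.card_zpowers, orderOf_eq_prime hz2 hz1]
  have hnc : ¬ IsCyclic (G ⧸ Z) := fun h => hab
    ((QuotientGroup.mk' Z).isMulCommutative_of_isCyclic_of_ker_le_center (by rwa [QuotientGroup.ker_mk']))
  by_cases hT' : Nat.card {s : G ⧸ Z // s * s = 1} % 4 = 2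
  · have := (ih _ (by have := hZ ▸ Z.card_mul_index; have := Z.index_ne_zero_of_finite; rw [← Z.index_eq_card]; omega)
      _ (hG.to_quotient Z) rfl hT').resolve_left hnc
    rwa [commutator, ← Subgroup.map_top_of_surjective _ (QuotientGroup.mk'_surjective Z), ← Subgroup.map_commutator,
      Subgroup.index_map, QuotientGroup.ker_mk', QuotientGroup.range_mk', Subgroup.index_top, mul_one,
      sup_eq_left.2 (show Z ≤ ⁅⊤, ⊤⁆ from Subgroup.zpowers_le_of_mem hz)] at this
  have hev : 2 ∣ Nat.card {s : G ⧸ Z // s * s = 1} := by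
    obtain ⟨w, -, hw1, hw2, hwc⟩ := H04.exists_mem_center_pow_eq_one_of_normal (hG.to_quotient Z) ⊤ fun h =>
      hnc (by haveI := Subgroup.subsingleton_iff.1 (subsingleton_of_bot_eq_top h.symm); infer_instance)
    have := card_dvd_card_sq (Subgroup.zpowers w) fun v hv => ⟨Subgroup.zpowers_le_of_mem hwc hv, by
      obtain ⟨k, rfl⟩ := hv
      rw [← (Commute.refl w).mul_zpow, ← sq, hw2, one_zpow]⟩
    rwa [Nat.card_zpowers, orderOf_eq_prime hw2 hw1] at this
  let P : IrrCharacter G → Prop := fun χ => χ.1 z ≠ χ.1 1 ∧ charDegree χ.1 = 2 ∧ ∀ g, (χ.1 g).im = 0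
  have h1 : ∀ χ : IrrCharacter G, ∃ k : ℤ, (if ∀ n ∈ Z, χ.1 n = χ.1 1 then 0 else fsIndicator χ.1 * χ.1 1) =
      ((2 * (if P χ then 1 else 0 : ℕ) + 4 * k : ℤ) : ℂ) := fun χ => by
    have e : (∀ n ∈ Z, χ.1 n = χ.1 1) ↔ χ.1 z = χ.1 1 := ⟨fun h => h z (Subgroup.mem_zpowers z), fun h n hn =>
      χ.2.isCharacter.mem_charKer.1 (Subgroup.zpowers_le_of_mem (χ.2.isCharacter.mem_charKer.2 h) hn)⟩
    by_cases h : χ.1 z = χ.1 1
    · exact ⟨0, by simp [e, P, h]⟩
    rw [if_neg (mt e.1 h), congrArg (_ * ·) χ.2.charDegree_eq.symm]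
    by_cases hr : ∀ g, (χ.1 g).im = 0
    · obtain ⟨ε, hε, e1⟩ : ∃ ε : ℤ, (ε = 1 ∨ ε = -1) ∧ fsIndicator χ.1 = ε :=
        (χ.2.fsIndicator_of_real hr).elim (fun h => ⟨1, Or.inl rfl, by simpa⟩) fun h => ⟨-1, Or.inr rfl, by simpa⟩
      obtain ⟨b, hb⟩ := IsPGroup.iff_card.1 hG
      obtain ⟨i, -, hi⟩ := (Nat.dvd_prime_pow Nat.prime_two).1 (hb ▸ χ.2.charDegree_dvd_card)
      rcases i with _ | _ | i
      · exact absurd (χ.2.isCharacter.mem_charKer.1 ((commutator_le_charKer_iff χ.2).2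
          ((deg_eq_one_iff χ.2.isCharacter).1 hi) hz)) h
      · refine ⟨(ε - 1) / 2, ?_⟩
        rw [e1, if_pos ⟨h, hi, hr⟩, hi]
        rcases hε with rfl | rfl <;> norm_num
      · refine ⟨ε * 2 ^ i, ?_⟩
        rw [e1, if_neg fun h' => by have := h'.2.1; rw [hi, pow_succ, pow_succ] at this; omega, hi]
        push_cast; ring
    · exact ⟨0, by rw [χ.2.fsIndicator_of_not_real (not_forall.1 hr), if_neg fun h' => hr h'.2.2]; simp⟩
  choose k hk using h1
  have h2 : (Nat.card {s : G // s * s = 1} : ℤ) = Nat.card {s : G ⧸ Z // s * s = 1} +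
      (2 * (∑ χ, if P χ then 1 else 0 : ℕ) + 4 * ∑ χ, k χ) := by
    have a1 := card_sqrt_eq_sum (1 : G)
    have a2 := card_sqrt_eq_sum (1 : G ⧸ Z)
    have a3 := sum_irr_ker Z fun χ => fsIndicator χ.1 * χ.1 1
    simp only [fs_inflIrr] at a3
    have : (Nat.card {s : G // s * s = 1} : ℂ) = Nat.card {s : G ⧸ Z // s * s = 1} +
        ∑ χ, ((2 * (if P χ then 1 else 0 : ℕ) + 4 * k χ : ℤ) : ℂ) := by
      rw [a1, a2.trans a3.symm, ← Finset.sum_add_distrib]
      refine Finset.sum_congr rfl fun χ _ => ?_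
      rw [← hk]
      split_ifs <;> simp
    rw [Nat.cast_sum, Finset.mul_sum, Finset.mul_sum, ← Finset.sum_add_distrib]
    exact_mod_cast this
  let C : Subgroup (G →* ℂˣ) :=
    { carrier := {c | c ^ 2 = 1}
      mul_mem' := fun {a b} (ha : a ^ 2 = 1) (hb : b ^ 2 = 1) => show _ = _ by rw [mul_pow, ha, hb]; exact one_mul (1 : G →* ℂˣ)
      one_mem' := one_pow 2
      inv_mem' := fun {a} (ha : a ^ 2 = 1) => show _ = _ by rw [inv_pow, ha]; exact inv_one (G := G →* ℂˣ) }
  letI : MulAction C (IrrCharacter G) := MulAction.compHom _ ((mulP G).comp C.subtype)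
  have hC : ∀ (c : C) g, (c.1 g : ℂ) = 1 ∨ (c.1 g : ℂ) = -1 := fun c g => sq_eq_one_iff.1 (by
    simpa using congrArg (fun f : G →* ℂˣ => (f g : ℂ)) c.2)
  obtain ⟨χ, hχ, hP⟩ : ∃ χ : IrrCharacter G, (∀ c : C, c • χ = χ) ∧ P χ := by
    by_contra hh
    have := dvd_sum_of_fixed (P := C) (p := 2) (H04.isPGroup_of_pow_eq_one fun c => Subtype.ext c.2)
      (fun χ : IrrCharacter G => if P χ then 1 else 0) (fun c χ => if_congr ?_ rfl rfl)
      fun χ h => by rw [if_neg fun h' => hh ⟨χ, h, h'⟩]; simp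
    · omega
    have e : (c • χ).1 = fun g => χ.1 g * c.1 g := rfl
    have e1 : c.1 z = 1 := Abelianization.commutator_subset_ker c.1 hz
    simp only [P, e, e1, map_one, Units.val_one, mul_one, charDegree]
    refine and_congr_right fun _ => and_congr_right fun _ => forall_congr' fun g => ?_
    rcases hC c g with h | h <;> simp [h]
  have h3 : ∀ g, g ∉ frattini G → χ.1 g = 0 := fun g hg => by
    obtain ⟨M, hM, hgM⟩ : ∃ M : Subgroup G, IsCoatom M ∧ g ∉ M := by simpa [H02.mem_frattini_iff] using hg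
    have hi := H04.index_eq_of_isCoatom hG hM
    let c : G →* ℂˣ := MonoidHom.mk' (fun g => if g ∈ M then 1 else -1) fun a b => by
      by_cases ha : a ∈ M <;> by_cases hb : b ∈ M <;> simp [Subgroup.mul_mem_iff_of_index_two hi, ha, hb]
    have : χ.1 g * c g = χ.1 g := congrFun (congrArg Subtype.val (hχ ⟨c, MonoidHom.ext fun x => by
      by_cases h : x ∈ M <;> simp [c, h]⟩)) g
    simp only [c, MonoidHom.mk'_apply, if_neg hgM, Units.val_neg, Units.val_one, mul_neg, mul_one] at this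
    exact self_eq_neg.1 this.symm
  have hK : ∀ g, χ.1 g = χ.1 1 → g = 1 := fun g hg => by
    by_contra hg1
    obtain ⟨w, hw, hw1, hw2, hwc⟩ := H04.exists_mem_center_pow_eq_one_of_normal hG (charKer χ.1)
      fun h => hg1 (Subgroup.mem_bot.1 (h ▸ χ.2.isCharacter.mem_charKer.2 hg))
    exact hP.1 (hu hwc (sq w ▸ hw2) hw1 hzc (sq z ▸ hz2) hz1 ▸ χ.2.isCharacter.mem_charKer.1 hw)
  have h4 : 4 ≤ (frattini G).index := by
    obtain ⟨i, hi⟩ := hG.index (frattini G)
    by_contra h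
    refine hnc (isCyclic_of_surjective (hH := H04.isCyclic_of_index_frattini_le hG ?_) _
      (QuotientGroup.mk'_surjective Z))
    rcases i with _ | _ | i <;> omega
  have h5 : ∑ x : frattini G, ‖χ.1 x‖ ^ 2 = (frattini G).index * Nat.card (frattini G) := by
    have := congrArg Complex.re ((norm_res_eq_index_iff _ χ.2).2 h3)
    rwa [H05.classInner_self_re, inv_mul_eq_iff_eq_mul₀ (by exact_mod_cast Nat.card_pos.ne'), mul_comm] at this
  have h6 : ∀ x, ‖χ.1 x‖ ^ 2 ≤ 4 := fun x => by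
    have := χ.2.isCharacter.norm_le x
    rw [hP.2.1] at this
    push_cast at this
    nlinarith [norm_nonneg (χ.1 x)]
  have h7 : ∑ x : frattini G, (4 : ℝ) = 4 * Nat.card (frattini G) := by simp [mul_comm]
  have h8 : (0 : ℝ) < Nat.card (frattini G) := by exact_mod_cast Nat.card_pos
  have h9 := Finset.sum_le_sum fun (x : frattini G) (_ : x ∈ Finset.univ) => h6 x
  have h10 : (frattini G).index = 4 := le_antisymm
    (by exact_mod_cast le_of_mul_le_mul_right (h5 ▸ h7 ▸ h9) h8) h4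
  have h11 := (Finset.sum_eq_sum_iff_of_le fun (x : frattini G) (_ : x ∈ Finset.univ) => h6 x).1
    (by rw [h5, h7, h10]; simp)
  have h12 : ∀ x ∈ frattini G, x ≠ 1 → χ.1 x = -2 := fun x hx hx1 => by
    have a1 := h11 ⟨x, hx⟩ (Finset.mem_univ _)
    have a2 : χ.1 x = (χ.1 x).re := Complex.ext rfl (hP.2.2 x)
    rw [a2, Complex.norm_real, Real.norm_eq_abs, sq_abs, show (4 : ℝ) = 2 ^ 2 by norm_num] at a1
    rcases sq_eq_sq_iff_eq_or_eq_neg.1 a1 with h | h
    · exact absurd (hK x (by rw [a2, h, ← χ.2.charDegree_eq, hP.2.1]; simp)) hx1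
    · rw [a2, h]; simp
  haveI := hG.isNilpotent
  have h13 := H02.commutator_le_frattini_of_isNilpotent G
  rw [← h10, le_antisymm h13 fun x hx => ?_]
  by_cases hx1 : x = 1
  · exact hx1 ▸ one_mem _
  have := hK (z * x) (by
    rw [χ.2.apply_mul_of_mem_center hzc, h12 z (h13 hz) hz1, h12 x hx hx1, ← χ.2.charDegree_eq, hP.2.1]; norm_num)
  exact eq_inv_of_mul_eq_one_right this ▸ inv_mem hz

theorem solvable_of_deg (D : ℕ → Prop) (hD : ∀ m n, n ≠ 0 → m ∣ n → D n → D m)
    (hs : ∀ (S : Type u) [Group S] [Finite S] [IsSimpleGroup S], (∀ χ : IrrCharacter S, D (charDegree χ.1)) →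
      Group.IsSolvable S) (G : Type u) [Group G] [Finite G] (hG : ∀ χ : IrrCharacter G, D (charDegree χ.1)) :
    Group.IsSolvable G := by
  induction hn : Nat.card G using Nat.strong_induction_on generalizing G with | _ n ih => ?_
  rcases subsingleton_or_nontrivial G with h | h
  · infer_instance
  by_cases hsimple : IsSimpleGroup G
  · exact hs G hG
  obtain ⟨N, hN, h1, h2⟩ : ∃ N : Subgroup G, N.Normal ∧ N ≠ ⊥ ∧ N ≠ ⊤ := by
    by_contra H
    exact hsimple ⟨fun N hN => by_contra fun h => H ⟨N, hN, fun e => h (Or.inl e), fun e => h (Or.inr e)⟩⟩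
  have h3 := N.card_mul_index
  have h4 : 1 < Nat.card N := (Subgroup.one_lt_card_iff_ne_bot N).2 h1
  have h5 : 1 < N.index := Subgroup.one_lt_index_of_ne_top h2
  rw [Group.isSolvable_iff_subgroup_quotient N]
  refine ⟨ih _ (by rw [← hn, ← h3]; nlinarith) N (fun θ => ?_) rfl,
    ih _ (by rw [← hn, ← h3, ← Subgroup.index]; nlinarith) (G ⧸ N) (fun ψ => hG (inflIrr N ψ)) rfl⟩
  obtain ⟨χ, h⟩ := exists_over_dvd N θ
  exact hD _ _ χ.2.charDegree_pos.ne' h (hG χ)

theorem invol_val [Finite G] (hG : commutator G = ⊤) (hχ : IsCharacter G χ) {t : G} (ht : orderOf t = 2) :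
    ∃ k : ℕ, 2 * k ≤ charDegree χ ∧ χ t = charDegree χ - 4 * k := by
  classical
  obtain ⟨ω, h1, h2⟩ := hχ.exists_roots t
  have h3 := detHom_eq_prod hχ t ω h2
  rw [show detHom χ t = 1 from Abelianization.commutator_subset_ker _ (hG ▸ Subgroup.mem_top t)] at h3
  have h4 : ∀ i, ω i = if ω i = -1 then -1 else 1 := fun i => by
    rcases sq_eq_one_iff.1 (ht ▸ h1 i) with h | h <;> simp [h, one_ne_zero, show (1 : ℂ) ≠ -1 by norm_num]
  rw [Finset.prod_congr rfl fun i _ => h4 i, Finset.prod_ite, Finset.prod_const, Finset.prod_const, one_pow,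
    mul_one] at h3
  obtain ⟨k, hk⟩ := (neg_one_pow_eq_one_iff_even (by norm_num)).1 h3.symm
  have h5 := Finset.card_filter_add_card_filter_not (s := Finset.univ) fun i => ω i = -1
  rw [Finset.card_univ, Fintype.card_fin] at h5
  refine ⟨k, by omega, ?_⟩
  have h6 := h2 1
  simp only [pow_one] at h6
  rw [h6, Finset.sum_congr rfl fun i _ => h4 i, Finset.sum_ite, Finset.sum_const, Finset.sum_const,
    ← congrArg (Nat.cast : ℕ → ℂ) h5, hk]
  simp; ring

section simple
variable [Finite G] [IsSimpleGroup G] (hG : ¬ Group.IsSolvable G)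
include hG

theorem simple_comm_top : commutator G = ⊤ := (Subgroup.Normal.eq_bot_or_eq_top inferInstance).resolve_left fun h =>
  hG ⟨⟨1, h⟩⟩

theorem simple_center : Subgroup.center G = ⊥ := (Subgroup.Normal.eq_bot_or_eq_top inferInstance).resolve_right fun h =>
  hG (Group.isSolvable_of_comm fun a b => Subgroup.mem_center_iff.1 (h ▸ Subgroup.mem_top b) a)

theorem simple_deg_ne_one (hχ : IsIrrCharacter G χ) (h1 : χ ≠ 1) : charDegree χ ≠ 1 := fun h => h1
  (hχ.charKer_eq_top_iff.1 (top_le_iff.1 (simple_comm_top hG ▸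
    (commutator_le_charKer_iff hχ).2 ((deg_eq_one_iff hχ.isCharacter).1 h))))

theorem simple_norm_ne (hχ : IsIrrCharacter G χ) (h1 : χ ≠ 1) {g : G} (hg : g ≠ 1) : ‖χ g‖ ≠ charDegree χ := fun h =>
  hg (by simpa [H06.charCenter_eq_center (hχ.charKer_eq_bot_of_simple h1), simple_center hG]
    using hχ.mem_charCenter.2 h)

theorem simple_invol_val (hχ : IsIrrCharacter G χ) (h1 : χ ≠ 1) {t : G} (ht : orderOf t = 2) :
    ∃ k : ℕ, 0 < k ∧ 2 * k < charDegree χ ∧ χ t = charDegree χ - 4 * k := by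
  obtain ⟨k, h2, h3⟩ := invol_val (simple_comm_top hG) hχ.isCharacter ht
  have h4 := simple_norm_ne hG hχ h1 (g := t) (by rintro rfl; simp at ht)
  refine ⟨k, Nat.pos_of_ne_zero ?_, lt_of_le_of_ne h2 fun e => h4 ?_, h3⟩
  · rintro rfl
    exact h4 (by simp [h3])
  · rw [h3, ← e, show ((2 * k : ℕ) : ℂ) - 4 * k = -(2 * k : ℕ) by push_cast; ring, norm_neg, Complex.norm_natCast]

theorem simple_deg_ne_two (hχ : IsIrrCharacter G χ) : charDegree χ ≠ 2 := fun h => by
  haveI := Fact.mk Nat.prime_two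
  obtain ⟨t, ht⟩ := exists_prime_orderOf_dvd_card' 2 (h ▸ hχ.charDegree_dvd_card)
  obtain ⟨k, h1, h2, -⟩ := simple_invol_val hG hχ (by rintro rfl; simp [charDegree] at h) ht
  omega

theorem simple_exists_five : ∃ χ : IrrCharacter G, 5 ≤ charDegree χ.1 := by
  by_contra hh
  push Not at hh
  have h0 : ∀ g, g ≠ 1 → ∃ χ, IsIrrCharacter G χ ∧ χ ≠ 1 ∧ χ g ≠ 0 ∧ charDegree χ = 4 := fun g hg => by
    obtain ⟨χ, h1, h2, h3, h4⟩ := exists_irr_not_dvd_degree hg Nat.prime_three
    have := hh ⟨χ, h1⟩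
    have := simple_deg_ne_one hG h1 h2
    have := simple_deg_ne_two hG h1
    exact ⟨χ, h1, h2, h3, by simp only at *; omega⟩
  obtain ⟨g, hg⟩ := exists_ne (1 : G)
  obtain ⟨χ, h1, -, -, h2⟩ := h0 g hg
  haveI := Fact.mk Nat.prime_two
  obtain ⟨t, ht⟩ := exists_prime_orderOf_dvd_card' 2 (Dvd.dvd.trans (by rw [h2]; norm_num) h1.charDegree_dvd_card)
  obtain ⟨ψ, h3, h4, h5, h6⟩ := h0 t (by rintro rfl; simp at ht)
  obtain ⟨k, h7, h8, h9⟩ := simple_invol_val hG h3 h4 ht
  obtain rfl : k = 1 := by omega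
  exact h5 (by rw [h9, h6]; norm_num)

end simple

theorem solvable_of_deg_le_four [Finite G] (h : ∀ χ : IrrCharacter G, charDegree χ.1 ≤ 4) : Group.IsSolvable G :=
  solvable_of_deg (· ≤ 4) (fun _ _ h0 h h' => (Nat.le_of_dvd (Nat.pos_of_ne_zero h0) h).trans h')
    (fun S _ _ _ h => by_contra fun hS => (simple_exists_five hS).elim fun χ h' => by have := h χ; omega) G h

theorem solvable_of_prime_deg [Finite G] (h : ∀ χ : IrrCharacter G, charDegree χ.1 ≠ 1 → (charDegree χ.1).Prime) :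
    Group.IsSolvable G := by
  refine solvable_of_deg (fun n => n ≠ 1 → n.Prime) (fun m n _ h h' h1 => ?_) (fun S _ _ _ h => ?_) G h
  · have := h' (by rintro rfl; exact h1 (Nat.dvd_one.1 h))
    rwa [((Nat.dvd_prime this).1 h).resolve_left h1]
  by_contra hS
  obtain ⟨g, hg⟩ := exists_ne (1 : S)
  obtain ⟨χ, h1, h2⟩ := (measure fun χ : IrrCharacter S => charDegree χ.1).wf.has_min {χ | χ.1 ≠ 1}
    ((exists_irr_not_dvd_degree hg Nat.prime_two).elim fun χ h => ⟨⟨χ, h.1⟩, h.2.1⟩)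
  have hp := h χ (simple_deg_ne_one hS χ.2 h1)
  obtain ⟨A, a1, a2, a3⟩ := blichfeldt χ.2.isCharacter fun g hg => Subgroup.mem_bot.1
    (χ.2.charKer_eq_bot_of_simple h1 ▸ χ.2.isCharacter.mem_charKer.2 hg)
  have h3 : ∀ g, g ≠ 1 → ∃ ψ, IsIrrCharacter S ψ ∧ ψ ≠ 1 ∧ ψ g ≠ 0 ∧ (charDegree ψ).Prime ∧
      ¬ charDegree ψ ∣ A.index := fun g hg => by
    obtain ⟨ψ, b1, b2, b3, b4⟩ := exists_irr_not_dvd_degree hg hp
    have b5 := h ⟨ψ, b1⟩ (simple_deg_ne_one hS b1 b2)
    refine ⟨ψ, b1, b2, b3, b5, fun b6 => ?_⟩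
    have b7 : charDegree ψ ≤ _ := a3 _ b5 b6
    have b8 : charDegree χ.1 ≤ charDegree ψ := not_lt.1 (h2 ⟨ψ, b1⟩ b2)
    have b9 : charDegree ψ ≠ charDegree χ.1 := fun e => b4 (e ▸ dvd_rfl)
    have := simple_deg_ne_two hS χ.2
    have := simple_deg_ne_two hS b1
    have := hp.eq_two_or_odd
    have : charDegree ψ = 2 ∨ charDegree ψ % 2 = 1 := b5.eq_two_or_odd
    omega
  obtain ⟨ψ, b1, -, -, b2, b3⟩ := h3 g hg
  obtain ⟨y, hy⟩ := Subgroup.ne_bot_iff_exists_ne_one.1 (show A ≠ ⊥ by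
    rintro rfl
    exact b3 (by rw [Subgroup.index_bot]; exact b1.charDegree_dvd_card))
  have hy' : (y : S) ≠ 1 := fun e => hy (Subtype.ext e)
  obtain ⟨η, c1, c2, c3, c4, c5⟩ := h3 y hy'
  exact (c1.eq_zero_or_norm_eq_of_coprime y (c4.coprime_iff_not_dvd.2 fun e => c5 (e.trans (Subgroup.index_dvd_of_le
    fun x hx => Subgroup.mem_centralizer_singleton_iff.2 (a1 x hx y y.2))))).elim c3 (simple_norm_ne hS c1 c2 hy')

end H07
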