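import Cfsg.Agent.H07.Real2
import Cfsg.Agent.H07.Deg4
import Cfsg.Agent.H07.Glb6
import Cfsg.Agent.H26.Syl
import Cfsg.Agent.H02.MinNormal
import Cfsg.Agent.H04.Frattini

/-! Groups whose real irreducible characters have degree prime to `p` (Isaacs–Navarro). -/

namespace H07
open Cfsg H05 H06 H01
open scoped ComplexConjugate commutatorElement Pointwise

variable {G : Type*} [Group G] {χ : G → ℂ}

theorem exists_fixed_odd {X : Type*} [Fintype X] (σ : X → X) (hσ : ∀ x, σ (σ x) = x) (f : X → ℕ)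
    (hf : ∀ x, f (σ x) = f x) (h : Odd (∑ x, f x)) : ∃ x, σ x = x ∧ Odd (f x) := by
  by_contra h1
  push Not at h1
  rw [← ZMod.natCast_ne_zero_iff_odd, Nat.cast_sum] at h
  exact h (Finset.sum_ninvolution σ (fun x => by rw [hf]; exact CharTwo.add_self_eq_zero _)
    (fun x hx e => h1 x e (ZMod.natCast_ne_zero_iff_odd.1 hx)) (fun _ => Finset.mem_univ _) hσ)

theorem exists_real_odd [Finite G] (f : (G → ℂ) → ℕ)
    (hf : ∀ χ, IsIrrCharacter G χ → f (fun g => conj (χ g)) = f χ) (h : Odd (∑ χ : IrrCharacter G, f χ.1)) :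
    ∃ χ : IrrCharacter G, (∀ g, (χ.1 g).im = 0) ∧ Odd (f χ.1) :=
  (exists_fixed_odd conjIrr conjIrr_conjIrr (fun χ => f χ.1) (fun χ => hf _ χ.2) h).imp fun _ h =>
    ⟨(conj_eq_iff_forall_im _).1 (congrArg Subtype.val h.1), h.2⟩

theorem exists_real_over [Finite G] (N S : Subgroup G) [hN : N.Normal] (hd : N ⊓ S = ⊥) {m : ℕ}
    (hm : S.index = m * Nat.card N) (ho : Odd m) (φ : Hat N) {g : G} (hg : cjH N g φ = φ⁻¹) :
    ∃ χ : IrrCharacter G, (∀ g, (χ.1 g).im = 0) ∧ mult N.subtype χ.1 (fun n => φ n) ≠ 0 := by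
  classical
  letI := Fintype.ofFinite G
  have hφ : IsIrrCharacter N fun n => (φ n : ℂ) := isIrrCharacter_monoidHom φ
  have hγ := isCharacter_indFun_one S
  have e : (fun n => conj (φ n : ℂ)) = conjFun N g fun n => φ n := funext fun n => by
    refine Eq.trans ?_ (congrArg (fun ψ : Hat N => (ψ n : ℂ)) hg).symm
    exact (hφ.isCharacter.apply_inv n).symm.trans (congrArg Units.val (map_inv φ n))
  obtain ⟨χ, h1, h2⟩ := exists_real_odd
    (fun χ => mult (MonoidHom.id G) (indFun S fun _ => 1) χ * mult N.subtype χ fun n => φ n) (fun χ hχ => by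
      rw [← mult_conj _ hγ hχ.isCharacter, ← mult_conj _ hχ.conj.isCharacter hφ.isCharacter, e]
      congr 1
      · exact mult_congr_left fun x => (by simpa using (indFun_conj S (fun _ => 1) x))
      · refine mult_of_eq ?_
        simp only [Complex.conj_conj]
        exact (classInner_res_conjFun N hχ.isClassFunction g _).trans
          (mult_sub_eq N hχ.isCharacter hφ.isCharacter).symm) (by
      rw [← mult_comp (MonoidHom.id G) N.subtype hγ hφ.isCharacter, mult_of_eq (m := m)]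
      · exact ho
      rw [H05.classInner_def, Finset.sum_eq_single 1 (fun n _ hn => ?_) (by simp)]
      · have := natCard_ne_zero N
        simp [indFun_one, hm]; field_simp
      · exact mul_eq_zero_of_left (indFun_eq_zero_of_forall S _ _ fun x hx => absurd (Subtype.ext
          (conj_eq_one_iff.1 (by simpa using hd.le ⟨hN.conj_mem' _ n.2 x, hx⟩ : x⁻¹ * n * x⁻¹⁻¹ = 1))) hn) _)
  exact ⟨χ, h1, fun e => by simp [e] at h2⟩

/-- the subgroup generated by the `p`-elements -/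
abbrev pGen (p : ℕ) (G : Type*) [Group G] : Subgroup G := Subgroup.closure {g : G | ∃ k : ℕ, orderOf g = p ^ k}

theorem pGen_map_le {H : Type*} [Group H] (f : G →* H) {p : ℕ} (hp : p.Prime) : (pGen p G).map f ≤ pGen p H := by
  rw [MonoidHom.map_closure, Subgroup.closure_le]
  rintro _ ⟨g, ⟨k, hk⟩, rfl⟩
  exact Subgroup.subset_closure (((Nat.dvd_prime_pow hp).1 (hk ▸ orderOf_map_dvd f g)).imp fun _ h => h.2)

theorem pGen_normal {p : ℕ} (hp : p.Prime) : (pGen p G).Normal :=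
  ⟨fun _ hn g => pGen_map_le (MulAut.conj g).toMonoidHom hp ⟨_, hn, rfl⟩⟩

theorem le_pGen {p : ℕ} [Fact p.Prime] {P : Subgroup G} (hP : IsPGroup p P) : P ≤ pGen p G := fun x hx =>
  Subgroup.subset_closure ((IsPGroup.iff_orderOf.1 hP ⟨x, hx⟩).imp fun _ h => (Subgroup.orderOf_coe (⟨x, hx⟩ : P)).trans h)

theorem not_dvd_index_pGen [Finite G] {p : ℕ} [Fact p.Prime] : ¬ p ∣ (pGen p G).index := fun h => by
  obtain ⟨P⟩ : Nonempty (Sylow p G) := inferInstance
  exact P.not_dvd_index (h.trans (Subgroup.index_dvd_of_le (le_pGen P.2)))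

theorem inv_div_cjH {N : Subgroup G} [N.Normal] {t : G} {ψ : Hat N} (h : t * t ∈ inH N ψ) :
    cjH N t (cjH N t ψ / ψ) = (cjH N t ψ / ψ)⁻¹ := by
  rw [map_div, ← cjH_mul, mem_inH.1 h, inv_div]

universe u in
theorem syl_normal_of_real {p : ℕ} [hp : Fact p.Prime] (c : ℕ) : ∀ (G : Type u) [Group G] [Finite G], Nat.card G = c →
    (∀ χ : IrrCharacter G, (∀ g, (χ.1 g).im = 0) → ¬ p ∣ charDegree χ.1) →
    ∀ (L U R : Subgroup G) [L.Normal] [Group.IsSolvable L] [U.Normal], R ≤ L →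
    (∀ u ∈ U, ∃ a, u ^ p ^ a ∈ pGen 2 G) → H26.IsSyl p R U → ⊤ ≤ Subgroup.normalizer (R : Set G) := by
  induction c using Nat.strong_induction_on with | _ c ih => ?_
  intro G _ _ hc hr L U R _ _ hU hL h2 hR
  have h0 : ∀ N : Subgroup G, N.Normal → N ≠ ⊥ → (R ⊔ N).Normal ∧ True := fun N _ hN => by
    let π := QuotientGroup.mk' N
    have hπ := QuotientGroup.mk'_surjective N
    haveI := H02.isSolvable_map π L
    haveI := Subgroup.Normal.map ‹L.Normal› π hπ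
    haveI := hU.map π hπ
    have := ih _ (hc ▸ card_quotient_lt N hN) (G ⧸ N) rfl (fun χ hχ => hr (inflIrr N χ) fun g => hχ _)
      (L.map π) (U.map π) (R.map π) (Subgroup.map_mono hL) (by
        rintro _ ⟨u, hu, rfl⟩
        exact (h2 u hu).imp fun a h => pGen_map_le π Nat.prime_two ⟨_, h, map_pow ..⟩) (hR.map π)
    simpa only [Subgroup.comap_map_eq, π, QuotientGroup.ker_mk', and_true] using (H26.normal_of_top_le this).comap π
  have h1 : ∀ M : Subgroup G, M.Normal → R ≤ M → ∀ g, ∃ n ∈ M ⊓ U, ∃ y ∈ Subgroup.normalizer (R : Set G), g = n * y :=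
    fun M _ h g => (hR.mono (le_inf h hR.le) inf_le_right).frattini (H := ⊤) (le_normalizer_of_normal _ _) trivial
  by_contra hn
  have h3 : ∀ M : Subgroup G, M.Normal → R ≤ M → ¬ M ⊓ U ≤ Subgroup.normalizer (R : Set G) := fun M hM h h' =>
    hn fun g _ => by
      obtain ⟨n, hn, y, hy, rfl⟩ := h1 M hM h g
      exact Subgroup.mul_mem _ (h' hn) hy
  obtain ⟨N, hN, hN1, -, hmin, hab, q, hq, hNq⟩ := H02.exists_normal_elementary_le L fun e =>
    hn (eq_bot_iff.2 (hL.trans e.le) ▸ le_normalizer_of_normal _ _)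
  haveI hM := (h0 N hN hN1).1
  haveI := Fact.mk hq
  have hNq' := H02.isPGroup_of_pow_eq_one hNq
  set H := Subgroup.normalizer (R : Set G)
  have h4 : ∀ g, ∃ n ∈ N, ∃ y ∈ H, g = n * y := fun g => by
    obtain ⟨m, hm, y, hy, rfl⟩ := h1 _ hM le_sup_left g
    obtain ⟨r, hr, n, hn, rfl⟩ := Subgroup.mem_sup_of_normal_right.1 hm.1
    exact ⟨_, hN.conj_mem n hn r, r * y, H.mul_mem (Subgroup.le_normalizer hr) hy, by group⟩
  have h5 : ¬ N ≤ H := fun h => h3 _ hM le_sup_left (inf_le_left.trans (sup_le Subgroup.le_normalizer h))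
  have h6 : ∀ Y : Subgroup G, N ≤ Subgroup.centralizer (Y : Set G) → H ≤ Subgroup.normalizer (Y : Set G) →
      ⊤ ≤ Subgroup.normalizer (Y : Set G) := fun Y h h' g _ => by
    obtain ⟨n, hn, y, hy, rfl⟩ := h4 g
    exact Subgroup.mul_mem _ (Subgroup.centralizer_le_normalizer _ (h hn)) (h' hy)
  have h7 : N ⊓ H = ⊥ := (hmin _ (H26.normal_of_top_le (h6 (N ⊓ H) (fun n hn y hy => congrArg Subtype.val
    (hab.1.1 ⟨y, hy.1⟩ ⟨n, hn⟩)) (le_normalizer_inf (le_normalizer_of_normal _ _) Subgroup.le_normalizer))) inf_le_left).resolve_right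
    fun e => h5 (e.ge.trans inf_le_right)
  have h8 : H ⊓ Subgroup.centralizer (N : Set G) = ⊥ := by
    by_contra h
    exact h3 _ (h0 _ (H26.normal_of_top_le (h6 _ (fun n hn y hy => (hy.2 n hn).symm) (le_normalizer_inf
      Subgroup.le_normalizer (le_normalizer_of_normal _ _)))) h).1 le_sup_left (inf_le_left.trans (sup_le Subgroup.le_normalizer inf_le_left))
  have h9 : H.index = Nat.card N := (Subgroup.IsComplement'.index_eq_card (Subgroup.isComplement'_of_disjoint_and_mul_eq_univ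
    (disjoint_iff.2 h7) (Set.eq_univ_of_forall fun g => by
      obtain ⟨n, hn, y, hy, rfl⟩ := h4 g
      exact ⟨n, hn, y, hy, rfl⟩)))
  obtain ⟨φ, hφ, g, hg⟩ : ∃ φ : Hat N, φ ≠ 1 ∧ ∃ g, cjH N g φ = φ⁻¹ := by
    by_cases h10 : q = 2
    · obtain ⟨⟨x, hx⟩, hx1⟩ := Subgroup.ne_bot_iff_exists_ne_one.1 hN1
      obtain ⟨φ, hφ⟩ := exists_hom_apply_ne_one (x := (⟨x, hx⟩ : N)) (by rwa [(commutator_eq_bot_iff N).2 hab])
      refine ⟨φ, fun e => hφ (e ▸ rfl), 1, (mem_inH.1 (one_mem _)).trans (DFunLike.ext _ _ fun n => ?_)⟩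
      exact eq_inv_of_mul_eq_one_left ((map_mul φ n n).symm.trans (by
        rw [← sq, ← h10, show n ^ q = 1 from Subtype.ext (hNq n n.2), map_one]))
    by_cases h11 : 2 ∣ Nat.card H
    · haveI := Fact.mk Nat.prime_two
      obtain ⟨t, ht, ht2⟩ := H26.exists_mem_orderOf_eq h11
      obtain ⟨ψ, hψ⟩ := not_forall.1 (mt (mem_centralizer_of_inH (A := N) (g := t)) fun h => by
        rw [Subgroup.mem_bot.1 (h8.le ⟨ht, h⟩)] at ht2; simp at ht2)
      exact ⟨_, fun e => hψ (mem_inH.2 (div_eq_one.1 e)), t,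
        inv_div_cjH (by rw [← sq, ← ht2, pow_orderOf_eq_one]; exact one_mem _)⟩
    refine absurd (inf_le_right.trans ((hR.max U ?_ hR.le le_rfl).le.trans Subgroup.le_normalizer))
      (h3 ⊤ inferInstance le_top)
    obtain ⟨k, hk⟩ := hNq'.exists_card_eq
    have h12 : ¬ 2 ∣ Nat.card G := by
      rw [← H.index_mul_card, h9, hk, Nat.prime_two.dvd_mul, not_or]
      exact ⟨fun h => h10 ((Nat.prime_dvd_prime_iff_eq Nat.prime_two hq).1 (Nat.prime_two.dvd_of_dvd_pow h)).symm, h11⟩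
    have h13 : pGen 2 G ≤ ⊥ := (Subgroup.closure_le _).2 fun x ⟨j, hj⟩ => orderOf_eq_one_iff.1 (by
      rcases j with _ | j
      · exact hj
      · exact absurd ((hj ▸ dvd_pow_self 2 j.succ_ne_zero).trans (orderOf_dvd_natCard x)) h12)
    exact H26.isPGroup_iff_mem.2 fun u hu => (h2 u hu).imp fun a h => h13 h
  obtain ⟨χ, h10, h11⟩ := exists_real_over N H h7 (h9.trans (one_mul _).symm) odd_one φ hg
  classical
  letI := Fintype.ofFinite N
  have hφ' : IsIrrCharacter N fun n => (φ n : ℂ) := isIrrCharacter_monoidHom φ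
  obtain ⟨k, hk⟩ : ∃ k, N.relIndex (R ⊔ N) = p ^ k := by
    rw [Subgroup.relIndex_sup_right]
    exact IsPGroup.iff_card.1 (hR.pg.to_quotient _)
  have h12 := le_inertia_of_not_dvd hp.out hk hφ'.isClassFunction fun h => hr χ h10 (h.trans ((dvd_mul_right _ _).trans
    (index_inertia_dvd N χ.2 hφ' ((mult_sub_ne_zero N χ.2.isCharacter hφ'.isCharacter).1 h11))))
  rcases hmin ⁅R ⊔ N, N⁆ inferInstance (Subgroup.commutator_le_right _ _) with h13 | h13
  · exact h5 (((Subgroup.commutator_eq_bot_iff_le_centralizer.1 (Subgroup.commutator_comm _ N ▸ h13)).trans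
      (Subgroup.centralizer_le (le_sup_left : R ≤ R ⊔ N))).trans (Subgroup.centralizer_le_normalizer _))
  · refine hφ (DFunLike.ext _ _ fun n => ?_)
    have : ⁅R ⊔ N, N⁆ ≤ (MonoidHom.ker φ).map N.subtype := Subgroup.commutator_le.2 fun a ha b hb =>
      ⟨MulAut.conjNormal a ⟨b, hb⟩ * (⟨b, hb⟩ : N)⁻¹, (map_mul_inv φ _ _).trans
        (mul_inv_eq_one.2 (DFunLike.congr_fun (mem_inH.1 (h12 ha)) ⟨b, hb⟩)), rfl⟩
    obtain ⟨m, hm, e⟩ := this (h13.ge n.2)
    exact Subtype.ext e ▸ hm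

theorem exists_hom_of_not_dvd {P : Type*} [Group P] [Finite P] {p : ℕ} [hp : Fact p.Prime] (hP : IsPGroup p P)
    {η : P → ℂ} (hη : IsIrrCharacter P η) (h : ¬ p ∣ charDegree η) : ∃ ν : P →* ℂˣ, η = fun x => (ν x : ℂ) := by
  obtain ⟨k, hk⟩ := IsPGroup.iff_card.1 hP
  exact hη.isCharacter.exists_monoidHom ((deg_eq_one_iff hη.isCharacter).1 (Nat.Coprime.eq_one_of_dvd
    ((hp.out.coprime_iff_not_dvd.2 h).symm.pow_right k) (hk ▸ hη.charDegree_dvd_card)))

theorem exists_lin_of_not_dvd {P : Type*} [Group P] [Finite P] {p : ℕ} [hp : Fact p.Prime] (hP : IsPGroup p P)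
    (ι : P →* G) (hχ : IsCharacter G χ) (h : ¬ p ∣ charDegree χ) :
    ∃ ν : P →* ℂˣ, ¬ p ∣ mult ι χ fun x => ν x := by
  obtain ⟨η, h1⟩ := not_forall.1 (mt (fun h => degree_eq_sum_mult ι hχ ▸ Finset.dvd_sum fun η _ => h η) h)
  obtain ⟨ν, e⟩ := exists_hom_of_not_dvd hP η.2 fun h => h1 (h.mul_left _)
  exact ⟨ν, fun h => h1 ((e ▸ h).mul_right _)⟩

theorem pGen_le_centralizer [Finite G] {p : ℕ} [hp : Fact p.Prime] (hp2 : p ≠ 2)
    (hr : ∀ χ : IrrCharacter G, (∀ g, (χ.1 g).im = 0) → ¬ p ∣ charDegree χ.1) (P : Sylow p G) (M : Subgroup G)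
    [M.Normal] (hM : M ≤ ⁅(P : Subgroup G), (P : Subgroup G)⁆) : pGen 2 G ≤ Subgroup.centralizer (M : Set G) := by
  classical
  letI := Fintype.ofFinite G
  haveI := Fact.mk Nat.prime_two
  have hMP : M ≤ P := hM.trans (commutator_le_left_of_le_normalizer Subgroup.le_normalizer)
  have hMp := P.2.to_le hMP
  have hc : ∀ {S : Subgroup G}, IsPGroup 2 S → (Nat.card S).Coprime (Nat.card M) := fun h =>
    IsPGroup.coprime_card_of_ne 2 p hp2.symm _ _ h hMp
  have key : ∀ (φ : Hat M) g, cjH M g φ = φ⁻¹ → φ = 1 := fun φ g hg => by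
    obtain ⟨S⟩ : Nonempty (Sylow 2 G) := inferInstance
    obtain ⟨m, hm⟩ := (hc S.2).symm.dvd_of_dvd_mul_right ((S : Subgroup G).index_mul_card ▸ M.card_subgroup_dvd_card)
    obtain ⟨χ, h1, h2⟩ := exists_real_over M S (Subgroup.disjoint_of_coprime_natCard (hc S.2).symm).eq_bot (hm.trans (mul_comm _ _))
      (Nat.not_even_iff_odd.1 fun h => S.not_dvd_index (hm ▸ h.two_dvd.mul_left _)) φ hg
    obtain ⟨ν, h3⟩ := exists_lin_of_not_dvd P.2 (P : Subgroup G).subtype χ.2.isCharacter (hr χ h1)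
    have h4 := mult_trans (ι := M.subtype) (ι₂ := Subgroup.inclusion hMP) χ.2.isCharacter (isIrrCharacter_monoidHom ν)
      isCharacter_one' (fun e => h3 (e ▸ dvd_zero _)) ((mult_of_comp_eq isIrrCharacter_one' fun c =>
        congrArg Units.val (Abelianization.commutator_subset_ker ν (show Subgroup.inclusion hMP c ∈ _ from
          (Subgroup.mem_map_iff_mem (Subgroup.subtype_injective _)).1
          ((Subgroup.map_subtype_commutator _).ge (hM c.2))))).trans_ne one_ne_zero)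
    exact DFunLike.ext _ _ fun n : M => Units.ext ((apply_eq_of_mult χ.2.isCharacter (isIrrCharacter_monoidHom φ) h2
      ((res_inner_one_ne_zero_iff M χ.2).1 ((mult_sub_ne_zero M χ.2.isCharacter isCharacter_one').1 h4) n n.2)).trans
      (congrArg Units.val (map_one φ)))
  have h1 : ∀ (k : ℕ) (t : G), t ^ 2 ^ k = 1 → ∀ ψ : Hat M, t ∈ inH M ψ := fun k => by
    induction k with
    | zero => exact fun t ht ψ => (by simpa using ht : t = 1) ▸ one_mem _
    | succ k ih => exact fun t ht ψ => mem_inH.2 (div_eq_one.1 (key _ t (inv_div_cjH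
        (ih _ (by rw [← sq, ← pow_mul, ← pow_succ', ht]) ψ))))
  refine (Subgroup.closure_le _).2 fun t ⟨k, hk⟩ => ?_
  have h2 : t ^ 2 ^ k = 1 := hk ▸ pow_orderOf_eq_one t
  refine le_centralizer_of_frattini (A := Subgroup.zpowers t) (le_normalizer_of_normal _ _)
    ((hc (H26.isPGroup_zpowers ⟨k, h2⟩)).coprime_dvd_right (Subgroup.card_subgroup_dvd_card _))
    (Subgroup.commutator_le.2 fun a ha b hb => ⟨⟨a, ha⟩ * (MulAut.conjNormal b (⟨a, ha⟩ : M))⁻¹,
      H04.commutator_le_frattini hMp (by_contra fun h => ?_), by simp [commutatorElement_def, mul_assoc]⟩)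
    (Subgroup.mem_zpowers t)
  obtain ⟨ψ, hψ⟩ := exists_hom_apply_ne_one h
  exact hψ ((map_mul_inv ψ _ _).trans (mul_inv_eq_one.2
    (DFunLike.congr_fun (mem_inH.1 (Subgroup.zpowers_le.2 (h1 k t h2 ψ) hb)) ⟨a, ha⟩).symm))

theorem mult_eq_one_of_real [Finite G] (N : Subgroup G) [N.Normal] (ho : Odd N.index) {θ : N → ℂ}
    (hθ : IsIrrCharacter N θ) (hχ : IsIrrCharacter G χ) (hr' : ∀ g, (χ g).im = 0)
    (h : mult N.subtype χ θ ≠ 0) : charDegree χ = (stab θ).index * charDegree θ := by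
  classical
  letI := Fintype.ofFinite G
  have h' := (mult_sub_ne_zero N hχ.isCharacter hθ.isCharacter).1 h
  have hr := real_of_under N ho hχ hr' hθ h'
  have h1 := fs_eq_sum (indFun_isClassFunction N θ)
  have h0 : fsIndicator θ ≠ 0 := by rcases hθ.fsIndicator_of_real hr with h | h <;> simp [h]
  let m : IrrCharacter G → ℕ := fun χ => if ∀ g, (χ.1 g).im = 0 then mult N.subtype χ.1 θ else 0
  rw [fs_indFun_of_odd N ho, Finset.sum_congr rfl (g := fun χ => m χ * fsIndicator θ) (fun χ _ => by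
    rw [frobenius_reciprocity N θ _ χ.2.isClassFunction, hθ.isCharacter.classInner_comm (χ.2.isCharacter.restrict N)]
    simp only [m]
    split_ifs with h
    · rw [mult_sub_eq N χ.2.isCharacter hθ.isCharacter]
      by_cases h2 : classInner (fun n : N => χ.1 n) θ = 0
      · simp [h2]
      · obtain ⟨k, hk, e⟩ := mult_odd N ho χ.2 hθ h2
        rw [fs_eq_of_odd N.subtype χ.2 h hθ hr e hk]
    · rw [χ.2.fsIndicator_of_not_real (not_forall.1 h)]; simp), ← Finset.sum_mul, eq_comm, mul_eq_right₀ h0] at h1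
  have h2 : ∑ χ, m χ = 1 := by exact_mod_cast h1
  have h3 := h2 ▸ Finset.single_le_sum (f := m) (fun _ _ => Nat.zero_le _) (Finset.mem_univ (⟨χ, hχ⟩ : IrrCharacter G))
  simp only [m, if_pos hr'] at h3
  have h4 := clifford_degree N hχ hθ h'
  rw [← mult_sub_eq N hχ.isCharacter hθ.isCharacter, show mult N.subtype χ θ = 1 by omega, ← hχ.charDegree_eq,
    ← hθ.charDegree_eq, ← stab_eq_inertia, Nat.cast_one, one_mul] at h4
  exact_mod_cast h4

theorem index_modEq_relIndex [Finite G] {p : ℕ} [Fact p.Prime] (P : Sylow p G) {T : Subgroup G} (h : P ≤ T) :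
    (T.index : ZMod p) = T.relIndex (Subgroup.normalizer ((P : Subgroup G) : Set G)) := by
  set N := Subgroup.normalizer ((P : Subgroup G) : Set G)
  have h1 : (N.index : ZMod p) = 1 := by
    rw [← Nat.cast_one, ZMod.natCast_eq_natCast_iff]
    exact P.card_eq_index_normalizer ▸ card_sylow_modEq_one p G
  have h2 : (N.relIndex T : ZMod p) = 1 := by
    rw [Subgroup.relIndex, Subgroup.subgroupOf_normalizer_eq h, ← Nat.cast_one, ZMod.natCast_eq_natCast_iff]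
    exact (P.subtype h).card_eq_index_normalizer ▸ card_sylow_modEq_one p T
  have h3 := (Subgroup.relIndex_mul_index (inf_le_left : T ⊓ N ≤ T)).trans
    (Subgroup.relIndex_mul_index (inf_le_right : T ⊓ N ≤ N)).symm
  rw [Subgroup.inf_relIndex_left, Subgroup.inf_relIndex_right] at h3
  simpa [h1, h2] using congrArg (Nat.cast : ℕ → ZMod p) h3

theorem real_rel [Finite G] {C N : Subgroup G} (h : C ≤ N) (hN : N ≤ Subgroup.normalizer (C : Set G))
    (ho : Odd (C.relIndex N)) {η : C → ℂ} (hη : IsIrrCharacter C η) :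
    ((∀ c, (η c).im = 0) → ∃ ξ, IsIrrCharacter N ξ ∧ (∀ n, (ξ n).im = 0) ∧ mult (Subgroup.inclusion h) ξ η ≠ 0) ∧
    ∀ ξ, IsIrrCharacter N ξ → (∀ n, (ξ n).im = 0) → mult (Subgroup.inclusion h) ξ η ≠ 0 →
      (∀ c, (η c).im = 0) ∧ charDegree ξ = (stab η).relIndex N * charDegree η ∧
      ∀ ξ', IsIrrCharacter N ξ' → (∀ n, (ξ' n).im = 0) → mult (Subgroup.inclusion h) ξ' η ≠ 0 → ξ' = ξ := by
  classical
  letI := Fintype.ofFinite G
  haveI := normal_subgroupOf hN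
  let e := Subgroup.subgroupOfEquivOfLe h
  have h1 : IsIrrCharacter _ fun n => η (e n) := hη.comp_of_surjective e.toMonoidHom e.surjective
  have h2 : ∀ ξ, IsIrrCharacter N ξ → (mult (Subgroup.inclusion h) ξ η ≠ 0 ↔
      classInner (fun n : C.subgroupOf N => ξ n) (fun n => η (e n)) ≠ 0) := fun ξ hξ => by
    rw [← mult_subgroupOf h, mult_sub_ne_zero _ hξ.isCharacter h1.isCharacter]
  refine ⟨fun hr => ?_, fun ξ hξ hr h3 => ?_⟩
  · obtain ⟨ξ, ⟨h3, h4⟩, -⟩ := exists_unique_real_over _ ho h1 fun n => hr _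
    exact ⟨ξ.1, ξ.2, h3, (h2 _ ξ.2).2 h4⟩
  have h4 := real_of_under _ ho hξ hr h1 ((h2 _ hξ).1 h3)
  refine ⟨fun c => e.apply_symm_apply c ▸ h4 _, ?_, fun ξ' hξ' hr' h5 => congrArg Subtype.val
    ((exists_unique_real_over _ ho h1 h4).unique (y₁ := ⟨ξ', hξ'⟩) (y₂ := ⟨ξ, hξ⟩) ⟨hr', (h2 _ hξ').1 h5⟩
      ⟨hr, (h2 _ hξ).1 h3⟩)⟩
  rw [mult_eq_one_of_real _ ho h1 hξ hr (mult_subgroupOf h ξ η ▸ h3), Subgroup.relIndex]
  congr 1
  congr 1
  · ext x
    rw [Subgroup.mem_subgroupOf, mem_stab' (le_normalizer_of_normal ⊤ _ trivial), mem_stab' (hN x.2)]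
    exact ⟨fun h g g' e' => h (e.symm g) (e.symm g') (Subtype.ext e'), fun h g g' e' => h _ _ (congrArg Subtype.val e')⟩

theorem exists_norm_cjA [Finite G] {p : ℕ} [Fact p.Prime] (P : Sylow p G) {K : Subgroup G} {θ : K → ℂ}
    (hθ : (P : Subgroup G) ≤ stab θ) {g : G} (hg : g ∈ Subgroup.normalizer (K : Set G))
    (h : (P : Subgroup G) ≤ stab fun k => θ (cjA hg k)) : ∃ n ∈ Subgroup.normalizer ((P : Subgroup G) : Set G),
      ∃ hn : n ∈ Subgroup.normalizer (K : Set G), (fun k => θ (cjA hn k)) = fun k => θ (cjA hg k) := by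
  obtain ⟨t, ht, e⟩ := (((H26.isSyl_top P).cj_of_mem (Subgroup.mem_top g)).mono (K := stab θ) (H26.cj_le_iff.2
    fun x hx => (mem_stab' (Subgroup.mul_mem _ (Subgroup.mul_mem _ hg (h hx).1) (Subgroup.inv_mem _ hg))).2
      fun a b e => by
        have := stab_apply (h hx) (g := cjA (inv_mem hg) a) (g' := cjA (inv_mem hg) b) (by simp [e, mul_assoc])
        refine (congrArg θ (Subtype.ext ?_)).trans (this.trans (congrArg θ (Subtype.ext ?_))) <;> simp [mul_assoc])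
    le_top).exists_cj_eq (H26.isSyl_of_le P hθ)
  exact ⟨t * g, H26.cj_eq_iff.1 (H26.cj_cj t g _ ▸ e), Subgroup.mul_mem _ ht.1 hg, funext fun k =>
    stab_apply ht (by simp [mul_assoc])⟩

theorem exists_cj_le_of_not_dvd [Finite G] {p : ℕ} [Fact p.Prime] (P : Sylow p G) {T X : Subgroup G}
    (hX : (P : Subgroup G) ≤ X) (h : ¬ p ∣ T.relIndex X) : ∃ g ∈ X, ∀ x ∈ P, g * x * g⁻¹ ∈ T := by
  obtain ⟨S, hS⟩ := H26.exists_isSyl p (T ⊓ X)
  obtain ⟨g, hg, e⟩ := (H26.isSyl_of_le P hX).exists_cj_eq (H26.isSyl_of_not_dvd (hS.le.trans inf_le_right) hS.pg (by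
    rw [← Subgroup.relIndex_mul_relIndex S _ X hS.le inf_le_right, Subgroup.inf_relIndex_right,
      (Fact.out : p.Prime).dvd_mul, not_or]
    exact ⟨hS.not_dvd, h⟩))
  exact ⟨g, hg, fun x hx => (hS.le (e ▸ H26.conj_mem_cj hx)).1⟩

theorem Corr.real_iff [Finite G] {p : ℕ} {S K C : Subgroup G} {h : C ≤ K}
    (hc : Corr p (mult (Subgroup.inclusion h)) (IrrInv S K) (IrrInv S C)) {θ : K → ℂ} (hθ : θ ∈ IrrInv S K)
    {β : C → ℂ} (hβ : β ∈ IrrInv S C) (h1 : ¬ p ∣ mult (Subgroup.inclusion h) θ β) :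
    (∀ k, (θ k).im = 0) ↔ ∀ c, (β c).im = 0 := by
  have a1 := mult_conj (Subgroup.inclusion h) hθ.1.isCharacter hβ.1.isCharacter
  have a2 : ∀ {X : Subgroup G} {φ : X → ℂ}, φ ∈ IrrInv S X → (fun x => conj (φ x)) ∈ IrrInv S X := fun h =>
    ⟨h.1.conj, fun s hs => ⟨(h.2 hs).1, fun g => congrArg conj ((h.2 hs).2 g)⟩⟩
  refine ⟨fun h' => (conj_eq_iff_forall_im β).1 (hc.uniq hθ (a2 hβ) hβ ?_ h1),
    fun h' => (conj_eq_iff_forall_im θ).1 (hc.inj _ (a2 hθ) _ hθ β hβ ?_ h1)⟩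
  · rwa [← a1, (conj_eq_iff_forall_im θ).2 h'] at h1
  · rwa [← a1, (conj_eq_iff_forall_im β).2 h'] at h1

theorem real_bij [Finite G] {p : ℕ} [hp : Fact p.Prime] (P : Sylow p G) (K : Subgroup G) [hK : K.Normal]
    (ho : Odd K.index) (hQ : K ≤ Subgroup.normalizer (((P : Subgroup G) ⊓ K : Subgroup G) : Set G))
    (hr : ∀ χ : IrrCharacter G, (∀ g, (χ.1 g).im = 0) → ¬ p ∣ charDegree χ.1) {N : Subgroup G}
    (hN : N = Subgroup.normalizer ((P : Subgroup G) : Set G)) : ∃ R : (G → ℂ) → (N → ℂ) → Prop,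
    Bij R {χ | IsIrrCharacter G χ ∧ ∀ g, (χ g).im = 0}
      {ξ | IsIrrCharacter N ξ ∧ (∀ g, (ξ g).im = 0) ∧ ¬ p ∣ charDegree ξ} ∧
    ∀ χ ξ, R χ ξ → (charDegree ξ : ZMod p) = charDegree χ ∨ (charDegree ξ : ZMod p) = -charDegree χ := by
  have nK : ∀ X : Subgroup G, X ≤ Subgroup.normalizer (K : Set G) := fun X => le_normalizer_of_normal X K
  have hPN : (P : Subgroup G) ≤ N := hN ▸ Subgroup.le_normalizer
  have hCK : N ⊓ K ≤ K := inf_le_right
  have hCN : N ⊓ K ≤ N := inf_le_left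
  have nC : N ≤ Subgroup.normalizer ((N ⊓ K : Subgroup G) : Set G) := le_normalizer_inf Subgroup.le_normalizer (nK _)
  have hc := corr_rel P.2 (nK _) (le_normalizer_inf Subgroup.le_normalizer (nK _)) inf_le_right hQ P.2.to_inf_left
    ((H26.isSyl_top P).inf_of_le le_top (nK _)).not_dvd hCK fun c => ⟨fun h => ⟨h.2, fun s hs =>
      ⟨by rw [mul_assoc, mul_assoc, ← mul_assoc c]
          exact mul_mem hs (conj_mem_of_le_normalizer hN.le h.1 (inv_mem hs)),
        K.mul_mem (hK.conj_mem c h.2 s) (K.inv_mem h.2)⟩⟩, fun h => ⟨hN ▸ H26.mem_normalizer_of_cj_le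
      (H26.cj_le_iff.2 fun s hs => by simpa [mul_assoc] using mul_mem hs (h.2 _ (inv_mem hs)).1), h.1⟩⟩
  have hG := fun {θ : K → ℂ} (h : IsIrrCharacter K θ) => real_rel le_top (nK ⊤) (K.relIndex_top_right ▸ ho) h
  have hC := fun {η : (N ⊓ K : Subgroup G) → ℂ} (h : IsIrrCharacter _ η) => real_rel hCN nC
    (Subgroup.inf_relIndex_left N K ▸ ho.of_dvd_nat (K.relIndex_dvd_index_of_normal N)) h
  have hT : ∀ {χ : G → ℂ}, IsIrrCharacter G χ → IsIrrCharacter (⊤ : Subgroup G) fun x => χ x := fun h =>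
    h.comp_of_surjective (⊤ : Subgroup G).subtype fun x => ⟨⟨x, trivial⟩, rfl⟩
  let R : (G → ℂ) → (N → ℂ) → Prop := fun χ ξ => IsIrrCharacter G χ ∧ (∀ g, (χ g).im = 0) ∧ IsIrrCharacter N ξ ∧
    (∀ g, (ξ g).im = 0) ∧ ∃ θ ∈ IrrInv P K, ∃ η ∈ IrrInv P (N ⊓ K),
      mult (Subgroup.inclusion le_top) (fun x : (⊤ : Subgroup G) => χ x) θ ≠ 0 ∧
      mult (Subgroup.inclusion hCN) ξ η ≠ 0 ∧ ¬ p ∣ mult (Subgroup.inclusion hCK) θ η
  have hd : ∀ χ ξ, R χ ξ → (charDegree ξ : ZMod p) = charDegree χ ∨ (charDegree ξ : ZMod p) = -charDegree χ := by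
    rintro χ ξ ⟨h1, h2, h3, h4, θ, hθ, η, hη, h5, h6, h7⟩
    have h8 : (stab θ).relIndex N = (stab η).relIndex N := congrArg Subgroup.index (Subgroup.ext fun x =>
      hc.mem_stab_iff (nK ⊤ trivial) (nC x.2) (hN.le x.2) (hN.le x.2) hθ hη h7)
    rw [((hC hη.1).2 ξ h3 h4 h6).2.1, show charDegree χ = _ from ((hG hθ.1).2 _ (hT h1) (fun _ => h2 _) h5).2.1,
      Subgroup.relIndex_top_right, Nat.cast_mul, Nat.cast_mul, index_modEq_relIndex P hθ.2, ← hN, h8,
      hc.degree P.2 (hPN.trans nC) hθ hη h7]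
    rcases hc.pm hθ hη h7 with h | h <;> simp [h]
  refine ⟨R, ⟨fun χ hχ => ?_, fun ξ hξ => ?_, ?_, ?_⟩, hd⟩
  · obtain ⟨θ, h1, h2⟩ := exists_mult_under (Subgroup.inclusion (le_top : K ≤ ⊤)) (hT hχ.1)
    obtain ⟨g, -, hg⟩ := exists_cj_le_of_not_dvd P (T := stab θ) le_top fun h => hr ⟨χ, hχ.1⟩ hχ.2
      (h.trans (Dvd.intro _ ((hG h1).2 _ (hT hχ.1) (fun _ => hχ.2 _) h2).2.1.symm))
    have h3 : (fun k => θ (cjA (nK ⊤ (Subgroup.mem_top g)) k)) ∈ IrrInv P K :=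
      ⟨h1.comp_of_surjective (cjA (nK ⊤ (Subgroup.mem_top g))).toMonoidHom (cjA _).surjective, fun x hx => mem_stab_cjA _ (hg x hx)⟩
    rw [← mult_cjA_right le_top (le_stab_self (hT hχ.1).isClassFunction (Subgroup.mem_top g)) (nK ⊤ trivial)] at h2
    obtain ⟨η, hη, h4⟩ := hc.ex' h3
    obtain ⟨ξ, h5, h6, h7⟩ := (hC hη.1).1 ((hc.real_iff h3 hη h4).1 ((hG h3.1).2 _ (hT hχ.1) (fun _ => hχ.2 _) h2).1)
    have h8 : R χ ξ := ⟨hχ.1, hχ.2, h5, h6, _, h3, η, hη, h2, h7, h4⟩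
    refine ⟨ξ, ⟨h5, h6, fun h => hr ⟨χ, hχ.1⟩ hχ.2 ?_⟩, h8⟩
    have := hd _ _ h8
    rwa [(ZMod.natCast_eq_zero_iff _ _).2 h, zero_eq_neg, eq_comm, or_self, ZMod.natCast_eq_zero_iff] at this
  · obtain ⟨η, h1, h2⟩ := exists_mult_under (Subgroup.inclusion hCN) hξ.1
    obtain ⟨h3, h4, -⟩ := (hC h1).2 ξ hξ.1 hξ.2.1 h2
    obtain ⟨g, hg, h5⟩ := exists_cj_le_of_not_dvd P (T := stab η) hPN fun h => hξ.2.2 (h.trans (Dvd.intro _ h4.symm))
    have hη : η ∈ IrrInv P (N ⊓ K) := ⟨h1, fun x hx => by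
      simpa [mul_assoc] using h5 _ (conj_mem_of_le_normalizer' hN.le hg hx)⟩
    obtain ⟨θ, hθ, h6⟩ := hc.surj η hη
    obtain ⟨χ, h7, h8, h9⟩ := (hG hθ.1).1 ((hc.real_iff hθ hη h6).2 h3)
    have h10 := h7.comp_of_surjective (Subgroup.topEquiv (G := G)).symm.toMonoidHom Subgroup.topEquiv.symm.surjective
    exact ⟨_, ⟨h10, fun _ => h8 _⟩, h10, fun _ => h8 _, hξ.1, hξ.2.1, θ, hθ, η, hη, h9, h2, h6⟩
  · rintro χ - χ' - ξ - ⟨h1, h2, h3, -, θ, hθ, η, hη, h5, h6, h7⟩ ⟨h1', h2', -, -, θ', hθ', η', hη', h5', h6', h7'⟩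
    obtain ⟨n, hn, rfl⟩ := exists_cjA_of_under hCN nC h3 hη.1 hη'.1 h6 h6'
    obtain rfl := hc.inj _ (irrInv_cjA (nK ⊤ trivial) (hN.le hn) hθ) _ hθ' _ hη' (by rwa [mult_cjA]) h7'
    rw [mult_cjA_right le_top (le_stab_self (hT h1').isClassFunction (Subgroup.mem_top n))] at h5'
    exact funext fun x => congrFun (((hG hθ.1).2 _ (hT h1') (fun _ => h2' _) h5').2.2 _ (hT h1) (fun _ => h2 _) h5)
      ⟨x, trivial⟩
  · rintro χ - ξ - ξ' - ⟨h1, -, h3, h4, θ, hθ, η, hη, h5, h6, h7⟩ ⟨-, -, h3', h4', θ', hθ', η', hη', h5', h6', h7'⟩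
    obtain ⟨g, hg, rfl⟩ := exists_cjA_of_under le_top (nK ⊤) (hT h1) hθ.1 hθ'.1 h5 h5'
    obtain ⟨n, hn, hn', e⟩ := exists_norm_cjA P hθ.2 _ hθ'.2
    obtain rfl := hc.uniq hθ' (irrInv_cjA (nC (hN.ge hn)) hn hη) hη' (by rwa [← e, mult_cjA]) h7'
    rw [mult_cjA_right hCN (le_stab_self h3'.isClassFunction (hN.ge hn))] at h6'
    exact ((hC hη.1).2 _ h3' h4' h6').2.2 _ h3 h4 h6

theorem exists_conj_mem_normalizer_aux [Finite G] {p : ℕ} [hp : Fact p.Prime] (P : Sylow p G) (K : Subgroup G)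
    [hK : K.Normal] (ho : Odd K.index) (hQ : (P : Subgroup G) ⊓ K = ⊥)
    (hr : ∀ χ : IrrCharacter G, (∀ g, (χ.1 g).im = 0) → ¬ p ∣ charDegree χ.1) {x : G} (hx : IsConj x x⁻¹) :
    ∃ y ∈ Subgroup.normalizer ((P : Subgroup G) : Set G), IsConj x y := by
  obtain ⟨N, hN⟩ : ∃ N, N = Subgroup.normalizer ((P : Subgroup G) : Set G) := ⟨_, rfl⟩
  obtain ⟨R, h1, -⟩ := real_bij P K ho (hQ ▸ le_normalizer_of_normal _ _) hr hN
  have hre : ∀ {X : Type _} [Group X] {a b : X}, IsConj a a⁻¹ → IsConj b a → IsConj b b⁻¹ := fun {X} _ {a b} h h' => by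
    obtain ⟨c, rfl⟩ := isConj_iff.1 h'
    exact h'.trans (h.trans (isConj_iff.2 ⟨c⁻¹, by group⟩))
  have hC : ∀ a : N, IsConj a a⁻¹ → ∀ s ∈ (P : Subgroup G), s * a = a * s := fun a ha s hs => by
    obtain ⟨-, -, h, -⟩ := real_mem_of_odd K ho (N.subtype.map_isConj ha)
    refine commutatorElement_eq_one_iff_mul_comm.1 (hQ.le ⟨?_, K.mul_mem (hK.conj_mem _ h s) (K.inv_mem h)⟩)
    rw [commutatorElement_def, mul_assoc, mul_assoc, ← mul_assoc (a : G)]
    exact mul_mem hs (conj_mem_of_le_normalizer hN.le a.2 (inv_mem hs))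
  let F : {C : ConjClasses N // ∀ g, ConjClasses.mk g = C → IsConj g g⁻¹} →
      {C : ConjClasses G // ∀ g, ConjClasses.mk g = C → IsConj g g⁻¹} := fun C =>
    ⟨ConjClasses.map N.subtype C.1, fun g hg => by
      obtain ⟨C, hC⟩ := C
      obtain ⟨a, rfl⟩ := ConjClasses.mk_surjective C
      exact hre (N.subtype.map_isConj (hC a rfl)) (ConjClasses.mk_eq_mk_iff_isConj.1 hg)⟩
  have hF : Function.Injective F := by
    rintro ⟨C, h2⟩ ⟨D, h3⟩ e
    obtain ⟨a, rfl⟩ := ConjClasses.mk_surjective C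
    obtain ⟨b, rfl⟩ := ConjClasses.mk_surjective D
    obtain ⟨g, hg⟩ := isConj_iff.1 (ConjClasses.mk_eq_mk_iff_isConj.1 (congrArg Subtype.val e))
    replace hg : g * a * g⁻¹ = b := hg
    obtain ⟨t, ht, e⟩ := (((H26.isSyl_top P).cj_of_mem (Subgroup.mem_top g)).mono (K := Subgroup.centralizer {(b : G)})
      (H26.cj_le_iff.2 fun s hs => Subgroup.mem_centralizer_singleton_iff.2 (by
        rw [← hg]
        calc _ = g * (s * a) * g⁻¹ := by group
          _ = _ := by rw [hC a (h2 a rfl) s hs]; group)) le_top).exists_cj_eq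
      (H26.isSyl_of_le P fun s hs => Subgroup.mem_centralizer_singleton_iff.2 (hC b (h3 b rfl) s hs))
    refine Subtype.ext (ConjClasses.mk_eq_mk_iff_isConj.2 (isConj_iff.2
      ⟨⟨t * g, hN ▸ H26.cj_eq_iff.1 (H26.cj_cj t g _ ▸ e)⟩, Subtype.ext ?_⟩))
    calc _ = t * (g * a * g⁻¹) * t⁻¹ := by simp [mul_assoc]
      _ = _ := by rw [hg, Subgroup.mem_centralizer_singleton_iff.1 ht, mul_inv_cancel_right]
  obtain ⟨⟨C, h2⟩, e⟩ := (hF.bijective_of_nat_card_le (by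
    rw [← Cfsg.Agent.S0160.result, ← Cfsg.Agent.S0160.result]
    refine ((Nat.card_congr ⟨fun χ => ⟨χ.1.1, χ.1.2, χ.2⟩, fun χ => ⟨⟨χ.1, χ.2.1⟩, χ.2.2⟩, fun _ => rfl,
      fun _ => rfl⟩).trans h1.card_eq).trans_le (Nat.card_le_card_of_injective
      (fun ξ => ⟨⟨ξ.1, ξ.2.1⟩, ξ.2.2.1⟩) fun a b e => Subtype.ext (congrArg (·.1.1) e)))).2
    ⟨ConjClasses.mk x, fun g hg => hre hx (ConjClasses.mk_eq_mk_iff_isConj.1 hg)⟩
  obtain ⟨a, rfl⟩ := ConjClasses.mk_surjective C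
  exact ⟨a, hN ▸ a.2, (ConjClasses.mk_eq_mk_iff_isConj.1 (congrArg Subtype.val e)).symm⟩

theorem odd_index_pGen [Finite G] : Odd (pGen 2 G).index :=
  haveI := Fact.mk Nat.prime_two
  Nat.not_even_iff_odd.1 fun h => not_dvd_index_pGen h.two_dvd

theorem syl_normal_of_real' [Finite G] {p : ℕ} [hp : Fact p.Prime] (hs : Group.IsSolvable (pGen p G))
    (hr : ∀ χ : IrrCharacter G, (∀ g, (χ.1 g).im = 0) → ¬ p ∣ charDegree χ.1) {U R : Subgroup G} [U.Normal] {a : ℕ}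
    (hU : (pGen 2 G).relIndex U = p ^ a) (hR : H26.IsSyl p R U) : R.Normal :=
  haveI := pGen_normal (G := G) hp.out
  haveI := pGen_normal (G := G) Nat.prime_two
  H26.normal_of_top_le (syl_normal_of_real _ G rfl hr (pGen p G) U R (le_pGen hR.pg)
    (fun _ hu => ⟨a, hU ▸ Subgroup.pow_relIndex_mem _ hu⟩) hR)

theorem sylow_inf_normal [Finite G] {p : ℕ} [hp : Fact p.Prime] (hs : Group.IsSolvable (pGen p G))
    (hr : ∀ χ : IrrCharacter G, (∀ g, (χ.1 g).im = 0) → ¬ p ∣ charDegree χ.1) (P : Sylow p G) :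
    ((P : Subgroup G) ⊓ pGen 2 G).Normal :=
  haveI := pGen_normal (G := G) Nat.prime_two
  syl_normal_of_real' hs hr (a := 0) (Subgroup.relIndex_self _)
    ((H26.isSyl_top P).inf_of_le le_top (le_normalizer_of_normal _ _))

theorem exists_conj_mem_normalizer [Finite G] {p : ℕ} [hp : Fact p.Prime] (hs : Group.IsSolvable (pGen p G))
    (hr : ∀ χ : IrrCharacter G, (∀ g, (χ.1 g).im = 0) → ¬ p ∣ charDegree χ.1) (P : Sylow p G) {x : G}
    (hx : IsConj x x⁻¹) : ∃ y ∈ Subgroup.normalizer ((P : Subgroup G) : Set G), IsConj x y := by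
  haveI := sylow_inf_normal hs hr P
  haveI := pGen_normal (G := G) Nat.prime_two
  let π := QuotientGroup.mk' ((P : Subgroup G) ⊓ pGen 2 G)
  have hπ : Function.Surjective π := QuotientGroup.mk'_surjective _
  have h1 : π.ker ≤ _ := (QuotientGroup.ker_mk' _).le
  haveI := this.map π hπ
  obtain ⟨y, hy, h2⟩ := exists_conj_mem_normalizer_aux (P.mapSurjective hπ) ((pGen 2 G).map π)
    ((pGen 2 G).index_map_eq hπ (h1.trans inf_le_right) ▸ odd_index_pGen) (by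
      refine Subgroup.comap_injective hπ ?_
      rw [Sylow.coe_mapSurjective, Subgroup.comap_inf, Subgroup.comap_map_eq_self (h1.trans inf_le_left),
        Subgroup.comap_map_eq_self (h1.trans inf_le_right), MonoidHom.comap_bot, QuotientGroup.ker_mk'])
    (fun χ hχ => hr (inflIrr _ χ) fun g => hχ _) (π.map_isConj hx)
  obtain ⟨g, rfl⟩ := isConj_iff.1 h2
  obtain ⟨g, rfl⟩ := hπ g
  refine ⟨g * x * g⁻¹, ?_, isConj_iff.2 ⟨g, rfl⟩⟩
  rw [← Subgroup.comap_map_eq_self (h1.trans inf_le_left), ← Subgroup.comap_normalizer_eq_of_surjective _ hπ]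
  exact hy

end H07
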