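import Cfsg.Agent.H07.MinNA
import Cfsg.Agent.H07.Glb1
import Cfsg.Agent.H07.Det
import Cfsg.Prelude.Def_DegreeGraph

/-! Relative degree sets `cd(G|N)` (Isaacs): `RD.Ov`, `RD.caseA`, `RD.near_base`, `RD.near_two`;
`na_cases_solv`. -/

namespace H07
open Cfsg H05 H06 H01
open scoped ComplexConjugate commutatorElement Pointwise

theorem na_cases_solv {G : Type*} [Group G] [Finite G] [Group.IsSolvable G] (hG : ¬ IsMulCommutative G) :
    (∃ β : IrrCharacter G, charDegree β.1 ≠ 1 ∧ commutator G ≤ charCenter β.1) ∨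
      ∃ (K N : Subgroup G) (_ : K.Normal) (_ : N.Normal), FSec K N := by
  obtain ⟨K, _, h1, h2, h3 | ⟨N, _, h3⟩ | h3⟩ := na_cases hG
  · exact Or.inl h3
  · exact Or.inr ⟨K, N, ‹_›, ‹_›, h3⟩
  exfalso
  have h4 := h2 (K ⊔ ⁅commutator G, commutator G⁆) inferInstance (left_lt_sup.2 h3)
  let π := QuotientGroup.mk' K
  have h5 : (commutator G).map π ≠ ⊥ := fun e => h1 (by
    rwa [Subgroup.map_eq_bot_iff, QuotientGroup.ker_mk'] at e)
  refine (Group.IsSolvable.commutator_lt_of_ne_bot h5).not_ge ?_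
  refine (Subgroup.map_mono h4).trans ?_
  rw [Subgroup.map_sup, Subgroup.map_commutator, (Subgroup.map_eq_bot_iff _).2 (QuotientGroup.ker_mk' K).ge,
    bot_sup_eq]

theorem card_comp_le_two {V : Type*} (Γ : SimpleGraph V) (P : V → Prop)
    (h1 : ∀ a b, P a → P b → Γ.Reachable a b) (h2 : ∀ a b, ¬ P a → ¬ P b → Γ.Reachable a b) :
    Nat.card Γ.ConnectedComponent ≤ 2 := by
  classical
  have := Nat.card_le_card_of_injective (fun c : Γ.ConnectedComponent => decide (P c.out)) fun c d e => by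
    rw [← c.out_eq, ← d.out_eq]
    refine SimpleGraph.ConnectedComponent.sound ?_
    by_cases h : P c.out
    · exact h1 _ _ h (by simpa [h] using e)
    · exact h2 _ _ h (by simpa [h] using e)
  simpa using this

theorem relIndex_comm {G : Type*} [Group G] (N : Subgroup G) : ⁅N, N⁆.relIndex N = (commutator N).index := by
  rw [← N.map_subtype_commutator, Subgroup.relIndex, Subgroup.subgroupOf,
    Subgroup.comap_map_eq_self_of_injective N.subtype_injective]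

namespace RD
variable {G : Type*} [Group G] [Finite G] {N : Subgroup G} [N.Normal] {θ : N → ℂ} {d e p : ℕ}

/-- `d` is the degree of an irreducible character over `θ` -/
def Ov (N : Subgroup G) (θ : N → ℂ) (d : ℕ) : Prop :=
  ∃ χ, IsIrrCharacter G χ ∧ mult N.subtype χ θ ≠ 0 ∧ charDegree χ = d

omit [N.Normal] in
theorem exists_ov (hθ : IsIrrCharacter N θ) : ∃ d, Ov N θ d := by
  obtain ⟨χ, h1, h2⟩ := exists_mult_over N.subtype_injective hθ
  exact ⟨_, χ, h1, h2, rfl⟩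

theorem deg_eq {χ : G → ℂ} (hχ : IsIrrCharacter G χ) (hθ : IsIrrCharacter N θ)
    (h : mult N.subtype χ θ ≠ 0) :
    charDegree χ = mult N.subtype χ θ * ((inertia N θ).index * charDegree θ) := by
  classical
  letI := Fintype.ofFinite G
  have h1 := clifford_degree N hχ hθ ((mult_ne_zero_iff _ hχ.isCharacter hθ.isCharacter).1 h)
  have h2 := mult_eq N.subtype hχ.isCharacter hθ.isCharacter
  refine charDegree_eq_of_apply_one ?_
  push_cast
  rw [h1, h2, hθ.charDegree_eq, mul_assoc]; rfl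

theorem Ov.dvd (h : Ov N θ d) (hθ : IsIrrCharacter N θ) : (inertia N θ).index * charDegree θ ∣ d := by
  obtain ⟨χ, h1, h2, rfl⟩ := h
  rw [deg_eq h1 hθ h2]; exact Dvd.intro_left _ rfl

omit [N.Normal] in
theorem Ov.mem (h : Ov N θ d) (hθ : IsIrrCharacter N θ) (h1 : θ ≠ 1) : d ∈ relCharDegrees N := by
  obtain ⟨χ, h2, h3, rfl⟩ := h
  refine ⟨⟨χ, h2⟩, ?_, rfl⟩
  by_contra h4
  push Not at h4
  exact h1 (hθ.charKer_eq_top_iff.1 (eq_top_iff.2 fun x _ => hθ.isCharacter.mem_charKer.2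
    (apply_eq_of_mult h2.isCharacter hθ h3 (h4 x x.2))))

theorem exists_ov_of_mem (hd : d ∈ relCharDegrees N) : ∃ θ, IsIrrCharacter N θ ∧ θ ≠ 1 ∧ Ov N θ d := by
  classical
  letI := Fintype.ofFinite G
  obtain ⟨χ, h1, rfl⟩ := hd
  obtain ⟨θ, h2, h3, h4⟩ := exists_irr_under_ne_one N χ.2 h1
  exact ⟨θ, h2, h3, χ.1, χ.2, (mult_ne_zero_iff _ χ.2.isCharacter h2.isCharacter).2 h4, rfl⟩

/-- the determinant as an element of `Hat` -/
noncomputable def dH {A : Type*} [Group A] (θ : A → ℂ) : Hat A := detHom θ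

omit [N.Normal] in
theorem det_res (hNG : N ≤ commutator G) {χ : G → ℂ} (hχ : IsCharacter G χ) :
    dH (fun n : N => χ n) = 1 := by
  refine (detHom_restrict hχ N).trans (MonoidHom.ext fun n => ?_)
  exact Abelianization.commutator_subset_ker (detHom χ) (hNG n.2)

theorem dH_mul {A : Type*} [Group A] [Finite A] {θ : A → ℂ} (hθ : IsCharacter A θ) (φ : Hat A) :
    dH (fun n => θ n * φ n) = dH θ * φ ^ charDegree θ := detHom_mul_hom hθ φ

theorem dH_smul {A : Type*} [Group A] [Finite A] {θ : A → ℂ} (hθ : IsCharacter A θ) (n : ℕ) :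
    dH ((n : ℂ) • θ) = dH θ ^ n := detHom_smul hθ n

theorem dH_conj (hθ : IsCharacter N θ) (g : G) : dH (conjFun N g θ) = cjH N g (dH θ) :=
  detHom_comp hθ (MulAut.conjNormal g : MulAut N).toMonoidHom

/-- the linear character as a function -/
abbrev lf (φ : Hat N) : N → ℂ := fun n => (φ n : ℂ)

omit [Finite G] [N.Normal] in
theorem lf_irr (φ : Hat N) : IsIrrCharacter N (lf φ) := isIrrCharacter_monoidHom φ

omit [Finite G] [N.Normal] in
theorem lf_ne {φ : Hat N} (h : φ ≠ 1) : lf φ ≠ 1 := fun e =>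
  h (DFunLike.ext _ _ fun n => Units.ext (congrFun e n))

omit [Finite G] [N.Normal] in
theorem lf_deg (φ : Hat N) : charDegree (lf φ) = 1 := charDegree_eq_of_apply_one (by simp)

omit [Finite G] [N.Normal] in
theorem deg_mul (φ : Hat N) : charDegree (fun n => θ n * φ n) = charDegree θ := by simp [charDegree]

theorem Ov.index_dvd {φ : Hat N} (h : Ov N (lf φ) d) : (inH N φ).index ∣ d :=
  (Dvd.intro _ rfl).trans (h.dvd (lf_irr φ))

theorem exists_lin {φ : Hat N} (h : φ ≠ 1) : ∃ d ∈ relCharDegrees N, (inH N φ).index ∣ d := by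
  obtain ⟨d, hd⟩ := exists_ov (lf_irr φ)
  exact ⟨d, hd.mem (lf_irr φ) (lf_ne h), hd.index_dvd⟩

omit [Finite G] in
theorem inH_le_pow (φ : Hat N) (k : ℕ) : inH N φ ≤ inH N (φ ^ k) := fun g hg => by
  rw [mem_inH] at hg ⊢
  rw [map_pow, hg]

omit [Finite G] in
theorem inertia_mul {φ : Hat N} (h : inH N φ = ⊤) (g : G) :
    conjFun N g (fun n => θ n * φ n) = fun n => conjFun N g θ n * φ n := by
  have := mem_inH.1 (h.ge (Subgroup.mem_top g))
  funext n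
  rw [← congrArg (fun ψ : Hat N => (ψ n : ℂ)) this]; rfl

theorem inv_dvd (hNG : N ≤ commutator G) {φ : Hat N} (h : inH N φ = ⊤) (hp : p.Prime) (h1 : φ ^ p = 1)
    (h2 : φ ≠ 1) (hθ : IsIrrCharacter N θ) (hd : Ov N θ d) (he : Ov N (fun n => θ n * φ n) e)
    (h3 : ¬ p ∣ d) : p ∣ e := by
  classical
  letI := Fintype.ofFinite G
  obtain ⟨χ, a1, a2, rfl⟩ := hd
  obtain ⟨ψ, b1, b2, rfl⟩ := he
  have hθ' : IsIrrCharacter N fun n => θ n * φ n := hθ.mul_monoidHom φ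
  have c1 := clifford_avg N a1 hθ ((mult_ne_zero_iff _ a1.isCharacter hθ.isCharacter).1 a2)
  have c2 := clifford_avg N b1 hθ' ((mult_ne_zero_iff _ b1.isCharacter hθ'.isCharacter).1 b2)
  have c3 : inertia N (fun n => θ n * φ n) = inertia N θ := by
    ext g
    rw [mem_inertia, mem_inertia, inertia_mul h]
    exact ⟨fun e => funext fun n => mul_right_cancel₀ (φ n).ne_zero (congrFun e n), fun e => by rw [e]⟩
  have m1 : (mult N.subtype χ θ : ℂ) = classInner (fun n : N => χ n) θ :=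
    mult_eq _ a1.isCharacter hθ.isCharacter
  have m2 : (mult N.subtype ψ (fun n => θ n * φ n) : ℂ) =
      classInner (fun n : N => ψ n) fun n => θ n * φ n := mult_eq _ b1.isCharacter hθ'.isCharacter
  rw [← m1] at c1
  rw [← m2, c3] at c2
  have c4 : (mult N.subtype ψ (fun n => θ n * φ n) : ℂ) • (fun n : N => χ n * φ n) =
      (mult N.subtype χ θ : ℂ) • fun n : N => ψ n := by
    funext n
    have d1 := congrFun c1 n
    have d2 := congrFun c2 n
    simp only [Pi.smul_apply, Finset.sum_apply, smul_eq_mul] at d1 d2 ⊢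
    have d3 : ∑ g : G, conjFun N g (fun n => θ n * φ n) n = (∑ g : G, conjFun N g θ n) * φ n := by
      rw [Finset.sum_mul]; exact Finset.sum_congr rfl fun g _ => by rw [inertia_mul h]
    rw [d3] at d2
    refine mul_left_cancel₀ (Nat.cast_ne_zero.2 (Nat.card_pos (α := inertia N θ)).ne') ?_
    linear_combination (mult N.subtype ψ (fun n => θ n * φ n) : ℂ) * (φ n : ℂ) * d1 -
      (mult N.subtype χ θ : ℂ) * d2
  have c5 := congrArg dH c4
  have c7 : IsCharacter N fun n : N => χ n * φ n :=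
    (a1.isCharacter.restrict N).mul (isCharacter_monoidHom φ)
  rw [dH_smul c7, dH_smul (b1.isCharacter.restrict N), det_res hNG b1.isCharacter, one_pow,
    dH_mul (a1.isCharacter.restrict N), det_res hNG a1.isCharacter, one_mul, ← pow_mul] at c5
  haveI := Fact.mk hp
  have c6 : p ∣ _ := orderOf_eq_prime h1 h2 ▸ orderOf_dvd_of_pow_eq_one (x := φ) c5
  rw [deg_eq b1 hθ' b2]
  exact (((Nat.Prime.dvd_mul hp).1 c6).resolve_left h3).mul_right _

theorem pow_eq_one (hNG : N ≤ commutator G) {φ : Hat N} (h : inH N φ = ⊤) (hd : Ov N (lf φ) d) :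
    φ ^ d = 1 := by
  classical
  letI := Fintype.ofFinite G
  obtain ⟨χ, a1, a2, rfl⟩ := hd
  have c1 := clifford_invariant N a1 (lf_irr φ) ((mult_ne_zero_iff _ a1.isCharacter
    (lf_irr φ).isCharacter).1 a2) fun g => h.ge (Subgroup.mem_top g)
  have c2 := deg_eq a1 (lf_irr φ) a2
  rw [lf_deg, show inertia N (lf φ) = ⊤ from h, Subgroup.index_top, mul_one, mul_one] at c2
  erw [← mult_eq N.subtype a1.isCharacter (lf_irr φ).isCharacter, ← c2] at c1
  have c5 := congrArg dH c1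
  rw [det_res hNG a1.isCharacter, dH_smul (lf_irr φ).isCharacter,
    show dH (lf φ) = φ from detHom_hom φ] at c5
  exact c5.symm

omit [N.Normal] in
theorem exists_prime_pow {φ : Hat N} (h : φ ≠ 1) : ∃ q k : ℕ, q.Prime ∧ (φ ^ k) ^ q = 1 ∧ φ ^ k ≠ 1 := by
  obtain ⟨q, hq, k, hk⟩ := Nat.exists_prime_and_dvd (mt orderOf_eq_one_iff.1 h)
  refine ⟨q, k, hq, by rw [← pow_mul, mul_comm, ← hk, pow_orderOf_eq_one], fun e => ?_⟩
  have h1 := orderOf_pos φ
  have h2 := Nat.le_of_dvd (Nat.pos_of_ne_zero (by rintro rfl; omega)) (orderOf_dvd_of_pow_eq_one e)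
  have := hq.two_le
  nlinarith

/-- an invariant nontrivial linear character makes the graph connected -/
theorem caseA (hNG : N ≤ commutator G) {φ : Hat N} (h : inH N φ = ⊤) (h2 : φ ≠ 1) :
    ∃ p : ℕ, p.Prime ∧ ∀ a ∈ relCharDegrees N, ∃ d ∈ relCharDegrees N, ¬ a.Coprime d ∧ p ∣ d := by
  obtain ⟨p, k, hp, h1, h3⟩ := exists_prime_pow h2
  have h4 : inH N (φ ^ k) = ⊤ := eq_top_iff.2 (h.ge.trans (inH_le_pow φ k))
  generalize φ ^ k = φ at h1 h3 h4
  refine ⟨p, hp, fun a ha => ?_⟩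
  by_cases h5 : p ∣ a
  · exact ⟨a, ha, fun c => hp.one_lt.ne' (Nat.eq_one_of_dvd_coprimes c h5 h5), h5⟩
  obtain ⟨θ, hθ, h6, h7⟩ := exists_ov_of_mem ha
  have hθ' := hθ.mul_monoidHom φ
  obtain ⟨e, he⟩ := exists_ov hθ'
  have h8 := inv_dvd hNG h4 hp h1 h3 hθ h7 he h5
  refine ⟨e, he.mem hθ' fun c => hp.not_dvd_one (inv_dvd hNG h4 hp h1 h3 hθ h7 ?_ h5), fun c => ?_, h8⟩
  · erw [c]
    exact ⟨1, isIrrCharacter_one, by rw [mult_of_comp_eq isIrrCharacter_one fun _ => rfl]; simp,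
      charDegree_eq_of_apply_one (by simp)⟩
  have c3 : inertia N θ ≤ inertia N (fun n => θ n * φ n) := fun g hg => by
    rw [mem_inertia] at hg ⊢
    rw [inertia_mul h4, hg]
  have c4 : inertia N (fun n => θ n * φ n) ≤ inertia N θ := fun g hg => by
    rw [mem_inertia] at hg ⊢
    rw [inertia_mul h4] at hg
    exact funext fun n => mul_right_cancel₀ (φ n).ne_zero (congrFun hg n)
  have c5 := he.dvd hθ'
  erw [le_antisymm c4 c3, deg_mul] at c5
  have c6 := Nat.eq_one_of_dvd_coprimes c (h7.dvd hθ) c5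
  obtain ⟨μ, rfl⟩ := hθ.isCharacter.exists_monoidHom
    (by rw [← hθ.charDegree_eq, (mul_eq_one.1 c6).2, Nat.cast_one])
  have c7 : inH N μ = ⊤ := Subgroup.index_eq_one.1 (mul_eq_one.1 c6).1
  have c8 := pow_eq_one (φ := μ) hNG c7 h7
  let μ' : Hat N := μ
  have c9 := pow_eq_one (φ := μ' * φ) hNG (eq_top_iff.2 (c7.ge.trans c3)) he
  obtain ⟨j, rfl⟩ := h8
  rw [mul_pow, pow_mul φ, h1, one_pow, mul_one] at c9
  have c10 : μ' = 1 := orderOf_eq_one_iff.1 (Nat.eq_one_of_dvd_coprimes c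
    (orderOf_dvd_of_pow_eq_one c8) (orderOf_dvd_of_pow_eq_one c9))
  exact h6 (funext fun n => congrArg (fun ψ : Hat N => (ψ n : ℂ)) c10)

omit [Finite G] in
theorem mem_inH_of_pow {φ : Hat N} {k : ℕ} (h1 : φ ^ p = 1) (hk : k.Coprime p) {g : G}
    (h : g ∈ inH N (φ ^ k)) : g ∈ inH N φ := by
  rw [mem_inH] at h ⊢
  rw [← div_eq_one, ← orderOf_eq_one_iff]
  refine Nat.eq_one_of_dvd_coprimes hk (orderOf_dvd_of_pow_eq_one ?_) (orderOf_dvd_of_pow_eq_one ?_)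
  · rw [div_pow, ← map_pow, h, div_self']
  · rw [div_pow, ← map_pow, h1, map_one, div_one]

theorem T1 (hp : p.Prime) (hθ : IsIrrCharacter N θ) (h : ¬ p ∣ charDegree θ) (h0 : charDegree θ ≠ 1)
    {φ : Hat N} (h1 : φ ^ p = 1) :
    ∃ d ∈ relCharDegrees N, charDegree θ ∣ d ∧ (inH N φ).index ∣ d := by
  set δ : Hat N := dH θ with hδ
  obtain ⟨k, n, hn, e⟩ := Nat.exists_eq_pow_mul_and_not_dvd (orderOf_pos δ).ne' p hp.ne_one
  obtain ⟨j, hj⟩ : ∃ j, p ^ k ∣ 1 + j * charDegree θ := by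
    obtain ⟨j, -, hj⟩ := Nat.exists_mul_mod_eq_of_coprime (p ^ k - 1)
      (((Nat.Prime.coprime_iff_not_dvd hp).2 h).symm.pow_right k) (pow_pos hp.pos k).ne'
    refine ⟨j, (Nat.modEq_zero_iff_dvd).1 ?_⟩
    have h2 : 1 + j * charDegree θ ≡ 1 + (p ^ k - 1) [MOD p ^ k] :=
      Nat.ModEq.add_left 1 (by rw [mul_comm]; exact hj)
    rw [Nat.add_sub_cancel' (pow_pos hp.pos k)] at h2
    exact h2.trans (Nat.modEq_zero_iff_dvd.2 dvd_rfl)
  have hθ' : IsIrrCharacter N fun n => θ n * (δ ^ j * φ) n := hθ.mul_monoidHom (δ ^ j * φ : Hat N)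
  obtain ⟨d, hd⟩ := exists_ov hθ'
  have h2 := hd.dvd hθ'
  erw [deg_mul] at h2
  refine ⟨d, hd.mem hθ' fun c => h0 ?_, (Dvd.intro_left _ rfl).trans h2,
    (Subgroup.index_dvd_of_le fun g hg => ?_).trans ((Dvd.intro _ rfl).trans h2)⟩
  · have := congrArg charDegree c
    erw [deg_mul] at this
    rw [this]; exact charDegree_eq_of_apply_one (by simp)
  have h3 : g ∈ inH N (δ * (δ ^ j * φ) ^ charDegree θ) := by
    have h4 := congrArg dH ((mem_inertia N).1 hg)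
    rw [dH_conj hθ'.isCharacter, dH_mul hθ.isCharacter] at h4
    exact mem_inH.2 h4
  have h4 := inH_le_pow _ n h3
  have h5 : (δ * (δ ^ j * φ) ^ charDegree θ) ^ n = φ ^ (charDegree θ * n) := by
    obtain ⟨t, ht⟩ := hj
    rw [mul_pow (δ ^ j), ← mul_assoc, ← pow_mul, ← pow_succ', add_comm, ht, mul_pow, ← pow_mul, ← pow_mul,
      mul_right_comm, ← e, pow_mul, pow_orderOf_eq_one, one_pow, one_mul]
  rw [h5] at h4
  exact mem_inH_of_pow h1 (Nat.Coprime.mul_left ((Nat.Prime.coprime_iff_not_dvd hp).2 h).symm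
    ((Nat.Prime.coprime_iff_not_dvd hp).2 hn).symm) h4

theorem T3 {q : ℕ} (hp : p.Prime) (hq : q.Prime) (hpq : p ≠ q) {φ ψ : Hat N} (h1 : φ ^ p = 1) (h2 : φ ≠ 1)
    (h3 : ψ ^ q = 1) : ∃ d ∈ relCharDegrees N, (inH N φ).index ∣ d ∧ (inH N ψ).index ∣ d := by
  have hc := (Nat.coprime_primes hp hq).2 hpq
  have h4 : (φ * ψ) ^ q = φ ^ q := by rw [mul_pow, h3, mul_one]
  have h5 : (φ * ψ) ^ p = ψ ^ p := by rw [mul_pow, h1, one_mul]
  obtain ⟨d, h6, h7⟩ := exists_lin (φ := φ * ψ) fun e => h2 (orderOf_eq_one_iff.1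
    (Nat.eq_one_of_dvd_coprimes hc (orderOf_dvd_of_pow_eq_one h1)
      (orderOf_dvd_of_pow_eq_one (by rw [← h4, e, one_pow]))))
  exact ⟨d, h6, (Subgroup.index_dvd_of_le fun g hg =>
      mem_inH_of_pow h1 hc.symm (h4 ▸ inH_le_pow _ q hg)).trans h7,
    (Subgroup.index_dvd_of_le fun g hg => mem_inH_of_pow h3 hc (h5 ▸ inH_le_pow _ p hg)).trans h7⟩

/-- the conjugation action on linear characters -/
@[reducible] noncomputable def act (N : Subgroup G) [N.Normal] : MulAction G (Hat N) where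
  smul g φ := cjH N g⁻¹ φ
  one_smul φ := DFunLike.ext _ _ fun a => by
    change cjH N (1 : G)⁻¹ φ a = _
    simp [cjH_apply]
  mul_smul g h φ := by
    change cjH N (g * h)⁻¹ φ = cjH N g⁻¹ (cjH N h⁻¹ φ)
    rw [mul_inv_rev, cjH_mul]

theorem ncard_orbit (φ : Hat N) : (Set.range fun g => cjH N g φ).ncard = (inH N φ).index := by
  letI := act N
  have h1 : MulAction.stabilizer G φ = inH N φ := by
    ext g
    rw [← (inH N φ).inv_mem_iff, mem_inH]; rfl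
  rw [← h1, MulAction.index_stabilizer]
  congr 1
  ext ψ
  exact ⟨fun ⟨g, hg⟩ => ⟨g⁻¹, by rw [← hg]; exact congrArg (fun x => cjH N x φ) (inv_inv g)⟩,
    fun ⟨g, hg⟩ => ⟨g⁻¹, hg⟩⟩

theorem T5 (hp : p.Prime) {φ ψ : Hat N} (h3 : ψ ^ p = 1) (h4 : inH N ψ ≠ ⊤) (h5 : ¬ p ∣ (inH N φ).index)
    (h6 : (inH N φ).index.Coprime (inH N ψ).index) :
    ¬ (inH N (φ * ψ)).index.Coprime (inH N ψ).index := by
  classical
  intro h7
  obtain ⟨τ, hτ⟩ : ∃ τ, τ ∉ inH N ψ := by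
    by_contra h; push Not at h; exact h4 (eq_top_iff.2 fun g _ => h g)
  set c := cjH N τ ψ / ψ with hc
  have hO : (Set.range fun g => cjH N g φ).Finite := Set.toFinite _
  have h8 : ∀ x ∈ hO.toFinset, x * c ∈ hO.toFinset := by
    intro x hx
    obtain ⟨h, rfl⟩ := hO.mem_toFinset.1 hx
    obtain ⟨σ, hσ, σ', hσ', e⟩ := H27.exists_mul_of_coprime_index h6 (h * τ⁻¹)
    obtain ⟨u, hu, v, hv, e'⟩ := H27.exists_mul_of_coprime_index h7 (σ' * τ)
    have e1 : cjH N (σ' * τ) φ = cjH N h φ := by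
      rw [show h = σ * (σ' * τ) by rw [← mul_assoc, ← e, inv_mul_cancel_right], cjH_mul σ, mem_inH.1 hσ]
    have e2 : cjH N (σ' * τ) ψ = cjH N τ ψ := by rw [cjH_mul, mem_inH.1 hσ']
    have e3 : cjH N (σ' * τ) (φ * ψ) = cjH N v φ * ψ := by
      rw [e', cjH_mul, mem_inH.1 hu, map_mul, mem_inH.1 hv]
    rw [map_mul, e1, e2] at e3
    exact hO.mem_toFinset.2 ⟨v, by rw [hc, ← mul_div_assoc, e3, mul_div_cancel_right]⟩
  have h9 : ∏ x ∈ hO.toFinset, x * c = ∏ x ∈ hO.toFinset, x := by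
    refine Finset.prod_bij (fun x _ => x * c) h8 (fun _ _ _ _ e => mul_right_cancel e) ?_ fun _ _ => rfl
    intro y hy
    obtain ⟨x, hx, e⟩ := Finset.surj_on_of_inj_on_of_card_le (fun x _ => x * c) h8
      (fun _ _ _ _ e => mul_right_cancel e) le_rfl y hy
    exact ⟨x, hx, e.symm⟩
  rw [Finset.prod_mul_distrib, Finset.prod_const, mul_eq_left, ← Set.ncard_eq_toFinset_card _ hO,
    ncard_orbit] at h9
  have h10 : c = 1 := orderOf_eq_one_iff.1 (Nat.eq_one_of_dvd_coprimes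
    ((Nat.Prime.coprime_iff_not_dvd hp).2 h5) (orderOf_dvd_of_pow_eq_one (by
      rw [hc, div_pow, ← map_pow, h3, map_one, div_one])) (orderOf_dvd_of_pow_eq_one h9))
  exact hτ (mem_inH.2 (div_eq_one.1 h10))

theorem T4 (hB : ∀ φ : Hat N, φ ≠ 1 → inH N φ ≠ ⊤) (hp : p.Prime) {φ ψ : Hat N} (h1 : φ ^ p = 1)
    (h2 : φ ≠ 1) (h3 : ψ ^ p = 1) (h4 : ψ ≠ 1) (h5 : ¬ p ∣ (inH N φ).index) (h6 : ¬ p ∣ (inH N ψ).index) :
    ∃ d ∈ relCharDegrees N, ¬ (inH N φ).index.Coprime d ∧ ¬ (inH N ψ).index.Coprime d := by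
  by_cases hc : (inH N φ).index.Coprime (inH N ψ).index
  · have h7 := T5 hp h3 (hB ψ h4) h5 hc
    have h8 := T5 hp h1 (hB φ h2) h6 hc.symm
    rw [mul_comm] at h8
    obtain ⟨d, h9, h10⟩ := exists_lin (φ := φ * ψ) fun e => h7 (by
      rw [e, show inH N 1 = ⊤ from eq_top_iff.2 fun g _ => mem_inH.2 (map_one _), Subgroup.index_top]
      exact Nat.coprime_one_left _)
    exact ⟨d, h9, fun c => h8 (c.coprime_dvd_right h10).symm, fun c => h7 (c.coprime_dvd_right h10).symm⟩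
  · obtain ⟨d, h9, h10⟩ := exists_lin h2
    exact ⟨d, h9, fun c => hB φ h2 (Subgroup.index_eq_one.1 (c.eq_one_of_dvd h10)),
      fun c => hc (c.coprime_dvd_right h10).symm⟩

theorem exists_base (hp : p.Prime) (h : p ∣ ⁅N, N⁆.relIndex N) :
    ∃ φ : Hat N, φ ^ p = 1 ∧ φ ≠ 1 ∧ ¬ p ∣ (inH N φ).index := by
  classical
  haveI := Fact.mk hp
  have h1 : p ∣ Nat.card (Hat N) := by
    rwa [card_hat, ← relIndex_comm]
  letI := act N
  obtain ⟨P⟩ : Nonempty (Sylow p G) := inferInstance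
  let X : SubMulAction G (Hat N) :=
    { carrier := (powMonoidHom p : Hat N →* Hat N).ker
      smul_mem' := fun g φ (hφ : φ ^ p = 1) => show cjH N g⁻¹ φ ^ p = 1 by rw [← map_pow, hφ, map_one] }
  have h2 : p ∣ Nat.card X := by
    obtain ⟨φ, hφ⟩ := exists_prime_orderOf_dvd_card' p h1
    exact hφ ▸ Subgroup.orderOf_dvd_natCard (powMonoidHom p : Hat N →* Hat N).ker
      (show φ ^ p = 1 from hφ ▸ pow_orderOf_eq_one φ)
  obtain ⟨φ, h3, h4⟩ := P.2.exists_fixed_point_of_prime_dvd_card_of_fixed_point X h2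
    (a := ⟨1, one_pow p⟩) fun g => Subtype.ext (map_one (cjH N (g : G)⁻¹))
  refine ⟨φ, φ.2, fun e => h4 (Subtype.ext e.symm), fun c => P.not_dvd_index
    (c.trans (Subgroup.index_dvd_of_le fun g hg => ?_))⟩
  exact mem_inH.2 (by
    have := congrArg Subtype.val (h3 ⟨g⁻¹, inv_mem hg⟩)
    rwa [← inv_inv g])

theorem near_base (hB : ∀ φ : Hat N, φ ≠ 1 → inH N φ ≠ ⊤) (hp : p.Prime) {φ : Hat N} (h1 : φ ^ p = 1)
    (h2 : φ ≠ 1) (h3 : ¬ p ∣ (inH N φ).index) {a : ℕ} (ha : a ∈ relCharDegrees N) (h4 : ¬ p ∣ a) :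
    ∃ d ∈ relCharDegrees N, ¬ a.Coprime d ∧ ¬ (inH N φ).index.Coprime d := by
  have hn : ∀ ψ : Hat N, ψ ≠ 1 → ∀ d, (inH N ψ).index ∣ d → ¬ (inH N ψ).index.Coprime d :=
    fun ψ h d hd c => hB ψ h (Subgroup.index_eq_one.1 (c.eq_one_of_dvd hd))
  obtain ⟨θ, hθ, h5, h6⟩ := exists_ov_of_mem ha
  have h7 := (Dvd.intro_left _ rfl).trans (h6.dvd hθ)
  by_cases h0 : charDegree θ = 1
  · obtain ⟨μ, rfl⟩ := hθ.isCharacter.exists_monoidHom (by rw [← hθ.charDegree_eq, h0, Nat.cast_one])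
    obtain ⟨q, k, hq, h8, h9⟩ := exists_prime_pow (N := N) (φ := μ) fun e => h5
      (funext fun n => congrArg (fun ψ : Hat N => (ψ n : ℂ)) e)
    have h10 := (Subgroup.index_dvd_of_le (inH_le_pow (N := N) μ k)).trans (Ov.index_dvd (φ := μ) h6)
    by_cases hpq : q = p
    · subst hpq
      obtain ⟨d, e1, e2, e3⟩ := T4 hB hq h8 h9 h1 h2 (fun c => h4 (c.trans h10)) h3
      exact ⟨d, e1, fun c => e2 (c.coprime_dvd_left h10), e3⟩
    · obtain ⟨d, e1, e2, e3⟩ := T3 hq hp hpq h8 h9 h1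
      exact ⟨d, e1, fun c => hn _ h9 d e2 (c.coprime_dvd_left h10), hn φ h2 d e3⟩
  · obtain ⟨d, e1, e2, e3⟩ := T1 hp hθ (fun c => h4 (c.trans h7)) h0 h1
    exact ⟨d, e1, fun c => h0 ((c.coprime_dvd_left h7).eq_one_of_dvd e2), hn φ h2 d e3⟩

omit [Finite G] [N.Normal] in
theorem reach {D : Set ℕ} {a b : ℕ} (ha : a ∈ D) (hb : b ∈ D) (h : ¬ a.Coprime b) (h0 : b ≠ 0) :
    (commonDivisorGraph.induce D).Reachable ⟨a, ha⟩ ⟨b, hb⟩ := by
  by_cases e : a = b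
  · subst e; rfl
  · exact SimpleGraph.Adj.reachable ⟨e, lt_of_le_of_ne (Nat.gcd_pos_of_pos_right a (Nat.pos_of_ne_zero h0))
      (Ne.symm h)⟩

omit [Finite G] [N.Normal] in
theorem ne_zero {a : ℕ} (ha : a ∈ relCharDegrees N) : a ≠ 0 := by
  obtain ⟨χ, -, rfl⟩ := ha
  exact χ.2.charDegree_pos.ne'

omit [Finite G] [N.Normal] in
theorem reach' {a b : ℕ} (ha : a ∈ relCharDegrees N) (hb : b ∈ relCharDegrees N) (h : ¬ a.Coprime b) :
    (commonDivisorGraph.induce (relCharDegrees N)).Reachable ⟨a, ha⟩ ⟨b, hb⟩ := reach ha hb h (ne_zero hb)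

theorem not_cop {a b : ℕ} (hp : p.Prime) (ha : p ∣ a) (hb : p ∣ b) : ¬ a.Coprime b :=
  fun c => hp.one_lt.ne' (Nat.eq_one_of_dvd_coprimes c ha hb)

theorem preconn_of_inv (hNG : N ≤ commutator G) {φ : Hat N} (h : inH N φ = ⊤) (h2 : φ ≠ 1) :
    (commonDivisorGraph.induce (relCharDegrees N)).Preconnected := by
  obtain ⟨p, hp, h3⟩ := caseA hNG h h2
  rintro ⟨a, ha⟩ ⟨b, hb⟩
  obtain ⟨d, e1, e2, e3⟩ := h3 a ha
  obtain ⟨d', f1, f2, f3⟩ := h3 b hb
  exact ((reach' ha e1 e2).trans (reach' e1 f1 (not_cop hp e3 f3))).trans (reach' hb f1 f2).symm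

theorem reach_of_not_dvd (hB : ∀ φ : Hat N, φ ≠ 1 → inH N φ ≠ ⊤) {q a b : ℕ} (hp : p.Prime) (hq : q.Prime)
    (h1 : p ∣ ⁅N, N⁆.relIndex N) (h2 : q ∣ ⁅N, N⁆.relIndex N) (ha : a ∈ relCharDegrees N)
    (hb : b ∈ relCharDegrees N) (h3 : ¬ p ∣ a) (h4 : ¬ q ∣ b) :
    (commonDivisorGraph.induce (relCharDegrees N)).Reachable ⟨a, ha⟩ ⟨b, hb⟩ := by
  obtain ⟨φ, a1, a2, a3⟩ := exists_base hp h1
  obtain ⟨ψ, b1, b2, b3⟩ := exists_base hq h2
  obtain ⟨d, c1, c2, c3⟩ := near_base hB hp a1 a2 a3 ha h3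
  obtain ⟨d', d1, d2, d3⟩ := near_base hB hq b1 b2 b3 hb h4
  obtain ⟨e, e1, e2, e3⟩ : ∃ e ∈ relCharDegrees N, ¬ (inH N φ).index.Coprime e ∧
      ¬ (inH N ψ).index.Coprime e := by
    by_cases hpq : p = q
    · subst hpq; exact T4 hB hp a1 a2 b1 b2 a3 b3
    · obtain ⟨e, e1, e2, e3⟩ := T3 hp hq hpq a1 a2 b1
      exact ⟨e, e1, fun c => hB φ a2 (Subgroup.index_eq_one.1 (c.eq_one_of_dvd e2)),
        fun c => hB ψ b2 (Subgroup.index_eq_one.1 (c.eq_one_of_dvd e3))⟩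
  obtain ⟨f, f1, f2⟩ := exists_lin a2
  obtain ⟨g, g1, g2⟩ := exists_lin b2
  exact (((reach' ha c1 c2).trans (reach' f1 c1 fun c => c3 (c.coprime_dvd_left f2)).symm).trans
    (reach' f1 e1 fun c => e2 (c.coprime_dvd_left f2))).trans
    (((reach' g1 e1 fun c => e3 (c.coprime_dvd_left g2)).symm.trans
      (reach' g1 d1 fun c => d3 (c.coprime_dvd_left g2))).trans (reach' hb d1 d2).symm)

/-- two relative degrees prime to `|N : N'|` have a common neighbour or one of them is near a degree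
not prime to `|N : N'|` -/
theorem near_two [Group.IsSolvable N] (hB : ∀ φ : Hat N, φ ≠ 1 → inH N φ ≠ ⊤) {a b : ℕ}
    (ha : a ∈ relCharDegrees N) (hb : b ∈ relCharDegrees N) (h1 : a.Coprime (⁅N, N⁆.relIndex N))
    (h2 : b.Coprime (⁅N, N⁆.relIndex N)) :
    (∃ d ∈ relCharDegrees N, ¬ a.Coprime d ∧ ¬ b.Coprime d) ∨
    (∃ d ∈ relCharDegrees N, ¬ a.Coprime d ∧ ¬ d.Coprime (⁅N, N⁆.relIndex N)) ∨
    (∃ d ∈ relCharDegrees N, ¬ b.Coprime d ∧ ¬ d.Coprime (⁅N, N⁆.relIndex N)) := by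
  have hm : ⁅N, N⁆.relIndex N = (commutator N).index := relIndex_comm N
  have lin : ∀ {a b : ℕ} (μ : Hat N), μ ≠ 1 → Ov N (lf μ) a → b ∈ relCharDegrees N →
      a.Coprime (⁅N, N⁆.relIndex N) → b.Coprime (⁅N, N⁆.relIndex N) →
      ∃ d ∈ relCharDegrees N, ¬ a.Coprime d ∧ ¬ b.Coprime d := by
    intro a b μ h3 h4 hb h1 h2
    obtain ⟨q, k, hq, h8, h9⟩ := exists_prime_pow h3
    haveI := Fact.mk hq
    have h10 := (Subgroup.index_dvd_of_le (inH_le_pow μ k)).trans h4.index_dvd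
    have h11 : q ∣ ⁅N, N⁆.relIndex N := by
      rw [hm, ← card_hat, ← orderOf_eq_prime h8 h9]; exact orderOf_dvd_natCard _
    obtain ⟨d, e1, e2, e3⟩ := near_base hB hq h8 h9 (fun c => not_cop hq (c.trans h10) h11 h1) hb
      fun c => not_cop hq c h11 h2
    exact ⟨d, e1, fun c => e3 (c.coprime_dvd_left h10), e2⟩
  obtain ⟨θ, hθ, a1, a2⟩ := exists_ov_of_mem ha
  obtain ⟨η, hη, b1, b2⟩ := exists_ov_of_mem hb
  by_cases h3 : charDegree θ = 1
  · obtain ⟨μ, rfl⟩ := hθ.isCharacter.exists_monoidHom (by rw [← hθ.charDegree_eq, h3, Nat.cast_one])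
    exact Or.inl (lin μ (fun e => a1 (funext fun n => congrArg (fun ψ : Hat N => (ψ n : ℂ)) e)) a2 hb h1 h2)
  by_cases h4 : charDegree η = 1
  · obtain ⟨μ, rfl⟩ := hη.isCharacter.exists_monoidHom (by rw [← hη.charDegree_eq, h4, Nat.cast_one])
    obtain ⟨d, e1, e2, e3⟩ :=
      lin μ (fun e => b1 (funext fun n => congrArg (fun ψ : Hat N => (ψ n : ℂ)) e)) b2 ha h2 h1
    exact Or.inl ⟨d, e1, e3, e2⟩
  have a3 := (Dvd.intro_left _ rfl).trans (a2.dvd hθ)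
  have b3 := (Dvd.intro_left _ rfl).trans (b2.dvd hη)
  have up : ∀ {a : ℕ} {θ : N → ℂ} (f : ℕ) (ψ : IrrCharacter N), charDegree θ ≠ 1 → charDegree θ ∣ a → f ≠ 1 →
      ¬ f.Coprime (⁅N, N⁆.relIndex N) → charDegree ψ.1 = f * charDegree θ →
      ∃ d ∈ relCharDegrees N, ¬ a.Coprime d ∧ ¬ d.Coprime (⁅N, N⁆.relIndex N) := by
    intro a θ f ψ c1 c2 c3 c4 c5
    obtain ⟨d, hd⟩ := exists_ov ψ.2
    have c6 := (Dvd.intro_left _ rfl).trans (hd.dvd ψ.2)
    rw [c5] at c6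
    refine ⟨d, hd.mem ψ.2 fun c => c3 ?_, fun c => c1 ((c.coprime_dvd_left c2).eq_one_of_dvd
      ((Dvd.intro_left _ rfl).trans c6)), fun c => c4 (c.coprime_dvd_left ((Dvd.intro _ rfl).trans c6))⟩
    rw [c, show charDegree (1 : N → ℂ) = 1 from charDegree_eq_of_apply_one (by simp)] at c5
    exact (mul_eq_one.1 c5.symm).1
  obtain ⟨β, c1, c2⟩ | ⟨K, L, _, _, c1⟩ := na_cases_solv (G := N) fun c => h3 (deg_eq_one_of_comm hθ)
  · have c3 : charDegree β.1 ∣ ⁅N, N⁆.relIndex N := by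
      rw [hm]
      exact (Dvd.intro _ ((sq _).symm.trans (deg_sq_eq_index β.2 c2))).trans (Subgroup.index_dvd_of_le c2)
    obtain ⟨ψ, c4⟩ := exists_mul_deg β.2 c2 hθ ((h1.coprime_dvd_left a3).coprime_dvd_right c3)
    exact Or.inr (Or.inl (up _ ψ h3 a3 c1 (fun c => c1 (c.eq_one_of_dvd c3)) c4))
  have c3 : L.index ∣ ⁅N, N⁆.relIndex N := hm ▸ Subgroup.index_dvd_of_le c1.comm
  have c4 := c1.one_lt.ne'
  obtain ⟨r, hr, c5, -⟩ := c1.exists_prime
  have key : ∀ {a : ℕ} {θ : N → ℂ}, IsIrrCharacter N θ → charDegree θ ≠ 1 → charDegree θ ∣ a →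
      a.Coprime (⁅N, N⁆.relIndex N) →
      (∃ d ∈ relCharDegrees N, ¬ a.Coprime d ∧ ¬ d.Coprime (⁅N, N⁆.relIndex N)) ∨ r ∣ a := by
    intro a θ hθ h3 a3 h1
    obtain ⟨ψ, f, d1, d2⟩ := exists_under_mul L hθ
    have d3 : f = 1 := Nat.eq_one_of_dvd_coprimes h1 ((Dvd.intro _ d2.symm).trans a3) (d1.trans c3)
    rw [d3, one_mul] at d2
    rcases c1.deg_or_dvd ψ.2 with ⟨χ, d4⟩ | d4
    · exact Or.inl (up _ χ h3 a3 c4 (fun c => c4 (c.eq_one_of_dvd c3)) (d2 ▸ d4))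
    · exact Or.inr ((d2 ▸ hr.dvd_of_dvd_pow (c5.trans d4) : r ∣ charDegree θ).trans a3)
  rcases key hθ h3 a3 h1 with d1 | d1
  · exact Or.inr (Or.inl d1)
  rcases key hη h4 b3 h2 with d2 | d2
  · exact Or.inr (Or.inr d2)
  exact Or.inl ⟨a, ha, not_cop hr d1 d1, not_cop hr d2 d1⟩

end RD
end H07
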