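import Cfsg.Agent.L.Jf0
import Cfsg.Agent.S3344
import Cfsg.Agent.H07.S7X
import Cfsg.Agent.H14.P24
import Cfsg.Agent.H09.SLBasic
import Cfsg.Agent.H02.PCore

/-! Part `X` of S5572. -/

set_option autoImplicit false
open Cfsg BG Subgroup

namespace H07.S5X
universe u

theorem s3 {G : Type*} [Group G] [Finite G] (c : Nat.card G = 6) (h : ∀ N : Subgroup G, N.Normal → Nat.card N ≠ 2) :
    Nonempty (G ≃* Equiv.Perm (Fin 3)) := by
  classical
  haveI : Fact (Nat.Prime 2) := ⟨Nat.prime_two⟩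
  obtain ⟨t, ot⟩ := exists_prime_orderOf_dvd_card' (G := G) 2 (by rw [c]; omega)
  have ct : Nat.card (zpowers t) = 2 := by rw [Nat.card_zpowers, ot]
  have i : Nat.card (G ⧸ zpowers t) = 3 := by
    have := card_mul_index (zpowers t)
    rw [ct, c, index_eq_card] at this; omega
  have k : (MulAction.toPermHom G (G ⧸ zpowers t)).ker = ⊥ := by
    rw [← normalCore_eq_ker]
    exact Subgroup.card_eq_one.1 (((Nat.dvd_prime Nat.prime_two).1 (ct ▸ card_dvd_of_le (normalCore_le _))).resolve_right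
      (h _ inferInstance))
  have := Fintype.ofFinite (G ⧸ zpowers t)
  exact ⟨(MulEquiv.ofBijective _ ((Nat.bijective_iff_injective_and_card _).2 ⟨(MonoidHom.ker_eq_bot_iff _).1 k, by
    rw [c, Nat.card_perm, i]; rfl⟩)).trans (Equiv.permCongrHom (Finite.equivFinOfCardEq i))⟩

theorem x : L.Jf.XStmt.{u} := by
  intro X _ _ Q z δ hz c192 lo h n9 W
  haveI : Fact (Nat.Prime 2) := ⟨Nat.prime_two⟩
  haveI : Fact (Nat.Prime 3) := ⟨Nat.prime_three⟩
  haveI nQ : (Q.subgroupOf C_[z]).Normal := (normal_subgroupOf_iff_le_normalizer lo.QL).2 lo.nQ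
  have cQ : Nat.card (Q.subgroupOf C_[z]) = 32 := (Nat.card_congr (subgroupOfEquivOfLe lo.QL).toEquiv).trans lo.cQ
  have le : Q.subgroupOf C_[z] ≤ pCore 2 C_[z] := H02.le_pCore (IsPGroup.of_card (n := 5) cQ)
  haveI nO : (pCore 2 C_[z]).Normal := inferInstance
  obtain ⟨w, wL, hw⟩ := lo.iv
  have o3 : orderOf (⟨δ, lo.δL⟩ : C_[z]) = 3 := by rw [← orderOf_coe]; exact lo.δ3
  have big : ∀ N : Subgroup C_[z], N.Normal → Nat.card N ≠ 64 := fun N _ c => by
    have i := N.card_mul_index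
    rw [c, c192] at i
    have i3 : Nat.card (C_[z] ⧸ N) = 3 := by rw [← index_eq_card]; omega
    haveI := isCyclic_of_prime_card i3
    letI := IsCyclic.commGroup (α := C_[z] ⧸ N)
    have e : (QuotientGroup.mk' N) (⟨w, wL⟩ * ⟨δ, lo.δL⟩ * ⟨w, wL⟩⁻¹) = (QuotientGroup.mk' N) ⟨δ, lo.δL⟩ := by
      rw [map_mul, map_mul, map_inv, mul_inv_cancel_comm]
    rw [show (⟨w, wL⟩ * ⟨δ, lo.δL⟩ * ⟨w, wL⟩⁻¹ : C_[z]) = ⟨δ, lo.δL⟩⁻¹ from Subtype.ext hw] at e
    have m : (⟨δ, lo.δL⟩ : C_[z]) * ⟨δ, lo.δL⟩ ∈ N := by simpa using QuotientGroup.eq.1 e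
    have := orderOf_dvd_natCard _ m
    rw [← pow_two, (Nat.Coprime.orderOf_pow (by rw [o3]; decide)), o3, c] at this
    exact absurd this (by decide)
  have eO : Q.subgroupOf C_[z] = pCore 2 C_[z] := by
    obtain ⟨k, hk⟩ := (H02.pCore_isPGroup 2 C_[z]).exists_card_eq
    have d1 := card_dvd_of_le le
    have d2 := card_subgroup_dvd_card (pCore 2 C_[z])
    have d3 := big _ nO
    refine eq_of_le_of_card_ge le ?_
    rw [hk] at *
    rw [cQ] at *
    rw [c192] at d2
    have : k ≤ 6 := (Nat.pow_dvd_pow_iff_le_right (x := 2) (by decide)).1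
      (Nat.Coprime.dvd_of_dvd_mul_right (k := 2 ^ k) (n := 3) (m := 2 ^ 6) (Nat.Coprime.pow_left _ (by decide)) d2)
    interval_cases k <;> omega
  have c6 : Nat.card (C_[z] ⧸ pCore 2 C_[z]) = 6 := by
    have i := (pCore 2 C_[z]).card_mul_index
    rw [← eO, cQ, c192, eO, index_eq_card] at i; omega
  obtain ⟨e⟩ := s3 c6 fun N _ c => big (N.comap (QuotientGroup.mk' _)) inferInstance (by
    have i := (N.comap (QuotientGroup.mk' (pCore 2 C_[z]))).card_mul_index
    have j := N.card_mul_index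
    rw [index_comap_of_surjective _ (QuotientGroup.mk'_surjective _), c192] at i
    rw [c, c6] at j
    rw [show N.index = 3 by omega] at i; omega)
  let P : Sylow 3 C_[z] := Sylow.ofCard (zpowers (⟨δ, lo.δL⟩ : C_[z])) (by
    rw [Nat.card_zpowers, o3, c192]; decide +kernel)
  obtain ⟨r, rQ, rz, r2, hr⟩ := W Q z δ hz c192 lo
  obtain ⟨g, hg⟩ := isConj_iff.1 ((h r r2).resolve_left hr)
  have zz := H07.S7X.o2.1 hz
  rcases Cfsg.Agent.S3344.result z hz _ rfl Q (by rw [← eO, map_subgroupOf_eq_of_le lo.QL]) lo.ex lo.cQ e P (by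
    refine le_antisymm ?_ (zpowers_le.2 ⟨lo.zQ, mem_centralizer_iff.2 ?_⟩)
    · rintro a ⟨i, j⟩
      rcases lo.fp a i (mem_cent1.2 (j δ ⟨_, mem_zpowers _, rfl⟩).symm) with rfl | rfl
      exacts [one_mem _, mem_zpowers _]
    · rintro _ ⟨a, -, rfl⟩; exact mem_cent1.1 a.2) ⟨g, hg ▸ rQ, hg ▸ rz⟩ with ⟨E, nE, ab, e2, c8, ⟨φ⟩⟩ | ⟨⟨φ⟩⟩ | ⟨⟨φ⟩⟩ | ⟨⟨φ⟩⟩
  · have h1 : center (Matrix.SpecialLinearGroup (Fin 3) (ZMod 2)) = ⊥ := Subgroup.card_eq_one.1 (by rw [H09.card_center_SL]; simp)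
    let ψ := φ.trans ((QuotientGroup.quotientMulEquivOfEq h1).trans QuotientGroup.quotientBot)
    refine ⟨E, nE, ⟨ab, e2⟩, c8, ⟨ψ⟩, fun K cK => ?_⟩
    have cS : Nat.card (Matrix.SpecialLinearGroup (Fin 3) (ZMod 2)) = 168 := by
      rw [Nat.card_eq_fintype_card]; decide +kernel
    have cK' : Nat.card K = 168 := by rw [← cK.symm.index_eq_card, index_eq_card, Nat.card_congr ψ.toEquiv, cS]
    obtain ⟨T, hT⟩ := Sylow.exists_subgroup_card_pow_prime (G := K) 2 (n := 3) (by rw [cK']; decide)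
    have pT : IsPGroup 2 T := IsPGroup.of_card hT
    haveI : Nontrivial T := pT.nontrivial_iff_card.2 ⟨3, by decide, hT⟩
    haveI := pT.center_nontrivial
    obtain ⟨k, k0, hk⟩ := (pT.to_subgroup (center _)).nontrivial_iff_card.1 inferInstance
    obtain ⟨t0, ht⟩ := exists_prime_orderOf_dvd_card' (G := center T) 2 (hk ▸ dvd_pow_self 2 k0.ne')
    rw [← orderOf_coe, ← orderOf_coe, ← orderOf_coe] at ht
    have tK : (t0.1.1 : X) ∈ K := t0.1.1.2
    have Tt : ∀ a : T, (a.1 : X) ∈ C_[(t0.1.1 : X)] := fun a =>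
      mem_cent1.2 (congrArg (fun b : T => (b.1 : X)) (mem_center_iff.1 t0.2 a))
    generalize (t0.1.1 : X) = t at ht tK Tt
    obtain ⟨t2, t1⟩ := H07.S7X.o2.1 ht
    have ti := eq_inv_of_mul_eq_one_left t2
    rcases h t ht with l | l
    · have cm : ∀ a ∈ E, ∀ b ∈ E, a * b = b * a := fun a i b j => congrArg Subtype.val (ab.1.1 ⟨a, i⟩ ⟨b, j⟩)
      let f : E →* E := MonoidHom.mk' (fun a => ⟨a * (t * a * t⁻¹), mul_mem a.2 (nE.conj_mem _ a.2 _)⟩) fun a b => Subtype.ext (by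
        show (a * b : X) * (t * (a * b) * t⁻¹) = a * (t * a * t⁻¹) * (b * (t * b * t⁻¹))
        rw [mul_assoc (a : X) (_ * _ * _), ← mul_assoc (t * a * t⁻¹), ← cm _ b.2 _ (nE.conj_mem _ a.2 t)]; group)
      let F := C_[t].subgroupOf E
      have k1 : f.ker ≤ F := fun a i => mem_cent1.2 (by
        have : (a : X) * (t * a * t⁻¹) = 1 := congrArg Subtype.val i
        have b : (a : X) * a = 1 := (pow_two _).symm.trans (e2 _ a.2)
        exact (mul_inv_eq_iff_eq_mul.1 (mul_left_cancel (this.trans b.symm))).symm)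
      have k2 : f.range ≤ F := by
        rintro _ ⟨a, rfl⟩
        refine mem_cent1.2 ?_
        show (a : X) * (t * a * t⁻¹) * t = t * (a * (t * a * t⁻¹))
        rw [cm _ a.2 _ (nE.conj_mem _ a.2 t)]
        conv_rhs => rw [← cm _ a.2 _ (nE.conj_mem _ a.2 t)]
        rw [← ti]; simp only [mul_assoc]
      have i := f.ker.card_mul_index
      rw [index_ker, c8] at i
      have l1 := card_le_of_le k1
      have l2 := card_le_of_le k2
      have F3 : 3 ≤ Nat.card F := by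
        by_contra! q
        have := Nat.mul_le_mul (l1.trans (Nat.le_of_lt_succ q)) (l2.trans (Nat.le_of_lt_succ q))
        omega
      have inj := Nat.card_le_card_of_injective (fun p : F × T => (⟨p.1.1 * p.2.1, mul_mem p.1.2 (Tt _)⟩ : C_[t])) fun p q e => by
        have := cK.1 (a₁ := (p.1.1, p.2.1)) (a₂ := (q.1.1, q.2.1)) (congrArg Subtype.val e)
        exact Prod.ext (Subtype.ext (congrArg Prod.fst this)) (Subtype.ext (congrArg Prod.snd this))
      rw [Nat.card_prod, hT] at inj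
      have := Nat.le_of_dvd (by decide) l
      omega
    · obtain ⟨g, rfl⟩ := isConj_iff.1 l
      obtain ⟨y, y3, y1, c⟩ := H07.S7X.three (w := g * z * g⁻¹) (by rw [← show _ = Nat.card C_[g * z * g⁻¹] from H07.S7X.cj (MulAut.conj g) z, c192]; decide)
      generalize g * z * g⁻¹ = t at tK t2 t1 c
      have c' : Commute y t := c
      have a2 : y * t * (y * t) = y * y := by rw [c'.symm.mul_mul_mul_comm, t2, mul_one]
      have a3 : y * t * (y * t) * (y * t) = t := by rw [a2, ← mul_assoc, y3, one_mul]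
      have := H07.S7X.n3 (ψ (QuotientGroup.mk' E (y * t)))
      simp only [← map_mul, a3, t2, map_one, map_eq_one_iff ψ ψ.injective] at this
      rcases this trivial with q | q
      · rw [a2] at q
        have := e2 _ ((QuotientGroup.eq_one_iff _).1 q)
        rw [pow_two, ← mul_assoc, y3, one_mul] at this
        exact y1 this
      · exact t1 (disjoint_def.1 cK.disjoint ((QuotientGroup.eq_one_iff _).1 q) tK)
  · exact (n9 (by rw [Nat.card_congr φ.toEquiv, nat_card_alternatingGroup]; simp; decide)).elim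
  · exact (n9 (by rw [Nat.card_congr φ.toEquiv, nat_card_alternatingGroup]; simp; decide)).elim
  · exact (n9 (by rw [Nat.card_congr φ.toEquiv, H14.card_M12]; decide)).elim

end H07.S5X
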