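import Cfsg.Agent.H07.Dih
import Cfsg.Agent.H18.Prim
import Cfsg.Agent.H18.Basic

/-!
# Schur's theorem: a cyclic group of composite order is a B-group
-/

namespace H07.Schur
open Finset MonoidAlgebra H07.Dih

variable {K : Type*} [CommGroup K] [Fintype K] [DecidableEq K]

/-- primitive Schur partition given as a relation -/
structure SR (r : K → K → Prop) : Prop where
  eqv : Equivalence r
  one : ∀ c, r 1 c → c = 1
  inv : ∀ c d, r c d → r c⁻¹ d⁻¹
  mul : ∀ c d, r c d → ∃ σ : Equiv.Perm K, ∀ u, r u (σ u) ∧ r (u⁻¹ * c) ((σ u)⁻¹ * d)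
  prim : ∀ D : Subgroup K, (∀ c d, r c d → c ∈ D → d ∈ D) → D = ⊥ ∨ D = ⊤

variable {r : K → K → Prop}

omit [Fintype K] [DecidableEq K] in
theorem SR.top (h : SR r) {D : Subgroup K} {u : K} (hu : u ≠ 1) (hD : ∀ v, r u v → v ∈ D) : D = ⊤ := by
  let D' : Subgroup K :=
    { carrier := {x | ∀ v, r x v → v ∈ D}
      one_mem' := fun v hv => h.one v hv ▸ D.one_mem
      inv_mem' := fun {x} hx v hv => by simpa using hx v⁻¹ (by simpa using h.inv _ _ hv)
      mul_mem' := fun {x y} hx hy v hv => by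
        obtain ⟨σ, hσ⟩ := h.mul _ _ hv
        have := D.mul_mem (hx _ (hσ x).1) (hy _ (by simpa using (hσ x).2))
        rwa [mul_inv_cancel_left] at this }
  rcases h.prim D' (fun c d hcd hc v hv => hc v (h.eqv.trans hcd hv)) with h1 | h1
  · exact (hu ((Subgroup.eq_bot_iff_forall _).1 h1 u hD)).elim
  · exact top_le_iff.1 fun x _ => (h1.ge (Subgroup.mem_top x) : x ∈ D') x (h.eqv.refl x)

omit [DecidableEq K] in
theorem SR.not_inv (h : SR r) {u y : K} (hu : u ≠ 1) (hy : y ≠ 1) : ∃ v, r u v ∧ ¬ r u (v * y) := by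
  by_contra! h1
  let M : Submonoid K :=
    { carrier := {x | ∀ v, r u v → r u (v * x)}
      one_mem' := fun v => by simp
      mul_mem' := fun {x y} hx hy v hv => by rw [← mul_assoc]; exact hy _ (hx v hv) }
  let D : Subgroup K :=
    { M with
      inv_mem' := fun {x} hx => by
        rw [inv_eq_of_mul_eq_one_right
          ((mul_pow_sub_one (orderOf_pos x).ne' x).trans (pow_orderOf_eq_one x))]
        exact M.pow_mem hx _ }
  have h2 : D = ⊤ := h.top hy fun x' hx' v hv => by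
    obtain ⟨σ, hσ⟩ := h.mul _ _ hx'
    have h3 := hσ (σ.symm v⁻¹)
    rw [σ.apply_symm_apply, inv_inv] at h3
    exact h.eqv.trans (h1 _ (h.eqv.trans hv (h.eqv.symm (by simpa using h.inv _ _ h3.1)))) h3.2
  exact hu (h.one u (h.eqv.symm (by simpa using (h2.ge (Subgroup.mem_top u⁻¹) : u⁻¹ ∈ D) u (h.eqv.refl u))))

omit [Fintype K] in
theorem SR.coeff_mul (h : SR r) {R : Type*} [CommRing R] {A : Finset K} (hA : ∀ c d, r c d → (c ∈ A ↔ d ∈ A))
    {x : R[K]} (hx : ∀ c d, r c d → x.coeff c = x.coeff d) :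
    ∀ c d, r c d → (gs R A * x).coeff c = (gs R A * x).coeff d := fun c d hcd => by
  obtain ⟨σ, hσ⟩ := h.mul _ _ hcd
  rw [coeff_gs_mul, coeff_gs_mul]
  exact sum_equiv σ (fun u => hA _ _ (hσ u).1) fun u _ => hx _ _ (hσ u).2

omit [Fintype K] in
theorem card_inv {p : ℕ} [Fact p.Prime] {y : K} (hy : y ≠ 1) (hp : y ^ p = 1) {A : Finset K}
    (hA : ∀ x ∈ A, x * y ∈ A) : (#A : ZMod p) = 0 := by
  let f : Function.End A := fun x => ⟨x * y, hA _ x.2⟩
  have h1 : ∀ n (x : A), ((f ^ n) x : K) = x * y ^ n := fun n => by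
    induction n with
    | zero => intro x; rw [pow_zero, pow_zero, mul_one]; rfl
    | succ n ih => intro x; rw [pow_succ' f, pow_succ, ← mul_assoc, ← ih]; rfl
  have h2 := Equiv.Perm.card_fixedPoints_modEq (f := f) (p := p) (n := 1)
    (funext fun x => Subtype.ext (by rw [h1, pow_one, hp, mul_one]; rfl))
  have : IsEmpty f.fixedPoints := ⟨fun x => hy (mul_eq_left.1 (congrArg Subtype.val x.2))⟩
  rw [Fintype.card_eq_zero (α := f.fixedPoints), Fintype.card_coe] at h2
  simpa using (ZMod.natCast_eq_natCast_iff _ _ _).2 h2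

theorem SR.all [IsCyclic K] (hK : ¬ (Fintype.card K).Prime) (h : SR r) {c d : K} (hc : c ≠ 1) (hd : d ≠ 1) :
    r c d := by
  classical
  have : Nontrivial K := ⟨⟨c, 1, hc⟩⟩
  obtain ⟨p, hp, hpK⟩ := Nat.exists_prime_and_dvd (Fintype.one_lt_card (α := K)).ne'
  have := Fact.mk hp
  obtain ⟨y, hy⟩ := exists_prime_orderOf_dvd_card p hpK
  have hy1 : y ^ p = 1 := hy ▸ pow_orderOf_eq_one y
  have hy2 : y ≠ 1 := fun h => hp.one_lt.ne' (by rw [← hy, h, orderOf_one])
  have hE : ∀ u ≠ 1, ∃ v, r u v ∧ v ^ p ≠ 1 := fun u hu => by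
    by_contra! h1
    obtain ⟨g, hg⟩ := IsCyclic.exists_ofOrder_eq_natCard (α := K)
    have h2 : g ^ p = 1 := (h.top (D := (powMonoidHom p : K →* K).ker) hu h1).ge (Subgroup.mem_top g)
    have h3 := orderOf_dvd_of_pow_eq_one h2
    rw [hg, Nat.card_eq_fintype_card] at h3
    exact hK (Nat.dvd_antisymm h3 hpK ▸ hp)
  let T : K → Finset K := fun u => {v | r u v}
  have hT : ∀ u c d, r c d → (c ∈ T u ↔ d ∈ T u) := fun u c d hcd => by
    simpa [T] using ⟨fun h1 => h.eqv.trans h1 hcd, fun h1 => h.eqv.trans h1 (h.eqv.symm hcd)⟩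
  have hT' : ∀ u c d, r c d → (gs (ZMod p) (T u)).coeff c = (gs (ZMod p) (T u)).coeff d := fun u c d hcd => by
    simp only [coeff_gs, hT u c d hcd]
  -- the part of a class outside `E` is `E`-invariant
  have h1 : ∀ u, ∀ v ∈ T u, v ^ p ≠ 1 → ∀ z, z ^ p = 1 → v * z ∈ T u := fun u v hv hv1 z hz => by
    refine coset hz hv ?_
    by_contra h2
    have h3 : ∀ n c d, r c d → (gs (ZMod p) (T u) ^ n).coeff c = (gs (ZMod p) (T u) ^ n).coeff d := fun n => by
      induction n with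
      | zero =>
        intro c d hcd
        have : c = 1 ↔ d = 1 := ⟨fun h1 => h.one _ (h1 ▸ hcd), fun h1 => h.one _ (h1 ▸ h.eqv.symm hcd)⟩
        simp [one_def, Finsupp.single_apply, eq_comm, this]
      | succ n ih => rw [pow_succ']; exact h.coeff_mul (hT u) ih
    have h4 := h.top (D := (powMonoidHom p).range) hv1 fun w hw => by
      have := h3 (p ^ 1) _ _ hw
      rw [coeff_gs_pow, coeff_gs_pow, pow_one] at this
      by_contra h5
      rw [filter_false_of_mem (s := T u) (p := fun x => x ^ p = w) fun x _ hx => h5 ⟨x, hx⟩] at this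
      exact h2 (by simpa using this)
    exact hy2 (Finite.injective_iff_surjective.2 (MonoidHom.range_eq_top.1 h4) (hy1.trans (one_pow p).symm))
  let T0 : K → Finset K := fun u => {v ∈ T u | v ^ p = 1}
  let T1 : K → Finset K := fun u => {v ∈ T u | ¬ v ^ p = 1}
  have h2 : ∀ u ≠ 1, (#(T0 u) : ZMod p) ≠ 0 := fun u hu h2 => by
    obtain ⟨v, hv, hv'⟩ := h.not_inv hu hy2
    have hv2 : v ^ p = 1 := by
      by_contra h3
      exact hv' (by simpa [T] using h1 u v (by simpa [T] using hv) h3 y hy1)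
    have := coset (l := p) (y := v⁻¹) (by simp [hv2]) (A := T u) (g := v) (by simpa [T] using hv) (by rwa [hv2])
    exact hu (h.one u (h.eqv.symm (by simpa [T] using this)))
  have h3 : ∀ u, gs (ZMod p) (T u) = gs _ (T0 u) + gs _ (T1 u) := fun u =>
    (sum_filter_add_sum_filter_not ..).symm
  have h4 : ∀ u v z, z ^ p = 1 → (v * z ∈ T1 u ↔ v ∈ T1 u) := fun u v z hz => by
    have : ∀ v z, z ^ p = 1 → v ∈ T1 u → v * z ∈ T1 u := fun v z hz hv => by
      rw [mem_filter] at hv ⊢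
      exact ⟨h1 u v hv.1 hv.2 z hz, by simpa [mul_pow, hz] using hv.2⟩
    exact ⟨fun h5 => by simpa using this _ z⁻¹ (by simp [hz]) h5, this v z hz⟩
  have h5 : ∀ u u', gs (ZMod p) (T0 u) * gs _ (T1 u') = (#(T0 u) : ZMod p) • gs _ (T1 u') := fun u u' => by
    ext g
    rw [coeff_gs_mul, sum_congr rfl (g := fun _ => (gs (ZMod p) (T1 u')).coeff g) fun a ha => by
      simp only [coeff_gs, mul_comm a⁻¹, h4 u' g a⁻¹ (by simp [(mem_filter.1 ha).2])]]
    simp
  have h6 : ∀ u u', gs (ZMod p) (T1 u) * gs _ (T1 u') = 0 := fun u u' => by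
    ext g
    simp only [coeff_gs_mul, coeff_gs, sum_boole]
    refine card_inv hy2 hy1 fun x hx => ?_
    rw [mem_filter] at hx ⊢
    refine ⟨(h4 u x y hy1).2 hx.1, ?_⟩
    rw [mul_inv, mul_right_comm, h4 _ _ _ (by simp [hy1])]
    exact hx.2
  -- the product of two classes
  have h7 : ∀ u ≠ 1, ∀ u' ≠ 1, r u⁻¹ u' := fun u hu u' hu' => by
    set a := (#(T0 u) : ZMod p) with ha
    set a' := (#(T0 u') : ZMod p) with ha'
    let z := gs (ZMod p) (T u) * gs _ (T u') - a • gs _ (T u') - a' • gs _ (T u)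
    have e1 : z = gs (ZMod p) (T0 u) * gs _ (T0 u') - a • gs _ (T0 u') - a' • gs _ (T0 u) := by
      simp only [z, h3, smul_add]
      linear_combination h5 u u' + h5 u' u + h6 u u'
    have e2 : ∀ g ≠ 1, z.coeff g = 0 := fun g hg => by
      obtain ⟨v, hv, hv1⟩ := hE g hg
      have : z.coeff g = z.coeff v := by
        simp [z, h.coeff_mul (hT u) (hT' u') g v hv, hT' _ g v hv]
      rw [this, e1]
      have : ∀ a ∈ T0 u, a⁻¹ * v ∉ T0 u' := fun a ha h8 =>
        hv1 (by simpa [mul_pow, (mem_filter.1 ha).2] using (mem_filter.1 h8).2)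
      simp +contextual [coeff_gs_mul, coeff_gs, T0, hv1, sum_eq_zero, this]
    have e3 : z = single 1 (z.coeff 1) := by
      ext g
      by_cases hg : g = 1
      · simp [hg]
      · simp [e2 g hg, hg]
    have e4 := congrArg (aug (ZMod p) K) e3
    rw [e1] at e4
    have n1 : ∀ u ≠ 1, 1 ∉ T0 u := fun u hu h8 =>
      hu (h.one u (h.eqv.symm (by simpa [T] using (mem_filter.1 h8).1)))
    by_contra h8
    have e5 : ∀ a ∈ T0 u, a⁻¹ ∉ T0 u' := fun a ha h9 => h8 (h.eqv.trans
      (h.inv _ _ (by simpa [T] using (mem_filter.1 ha).1)) (h.eqv.symm (by simpa [T] using (mem_filter.1 h9).1)))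
    simp +contextual [coeff_gs_mul, coeff_gs, n1 u hu, n1 u' hu', e5, ← ha, ← ha'] at e4
    exact e4.elim (h2 u' hu') (h2 u hu)
  simpa using h7 c⁻¹ (by simpa) d hd

open MulAction in
/-- Schur: a primitive group of non-prime degree with a regular cyclic subgroup is doubly transitive. -/
theorem two_trans {G Ω : Type*} [Group G] [MulAction G Ω] [Finite Ω] (hG : IsPreprimitive G Ω)
    (hn : ¬ (Nat.card Ω).Prime) (C : Subgroup G) [IsCyclic C] (hC : IsPretransitive C Ω)
    (hC' : ∀ a : Ω, stabilizer C a = ⊥) : IsMultiplyPretransitive G Ω 2 := by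
  classical
  refine H18.mt_two_iff.2 fun a b c d hab hcd => ?_
  have h0 : ∀ u : C, (u : G) • a = a → u = 1 := fun u hu => (Subgroup.eq_bot_iff_forall _).1 (hC' a) u hu
  let e : C ≃ Ω := .ofBijective (fun u => (u : G) • a) ⟨fun u v huv => by
    have := h0 (v⁻¹ * u) (by rw [Subgroup.coe_mul, Subgroup.coe_inv, mul_smul, inv_smul_eq_iff]; exact huv)
    rwa [inv_mul_eq_one, eq_comm] at this, fun x => hC.exists_smul_eq a x⟩
  have he : ∀ x, (e.symm x : G) • a = x := e.apply_symm_apply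
  have : Finite C := .of_equiv _ e.symm
  have := Fintype.ofFinite C
  let : CommGroup C := IsCyclic.commGroup
  have hr : SR (fun u v : C => ∃ h : G, h • a = a ∧ h • (u : G) • a = (v : G) • a) :=
    { eqv := ⟨fun u => ⟨1, by simp⟩, fun ⟨h, h1, h2⟩ => ⟨h⁻¹, by simp [inv_smul_eq_iff, h1, h2]⟩,
        fun ⟨h, h1, h2⟩ ⟨k, k1, k2⟩ => ⟨k * h, by simp [mul_smul, h1, h2, k1, k2]⟩⟩
      one := fun u ⟨h, h1, h2⟩ => h0 u (by simpa [h1] using h2.symm)
      inv := fun u v ⟨h, h1, h2⟩ => ⟨(v : G)⁻¹ * h * u, by simp [mul_smul, h1, h2]⟩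
      mul := fun u v ⟨h, h1, h2⟩ => ⟨e.trans ((toPerm h).trans e.symm), fun w => by
        have h3 := he (h • (w : G) • a)
        refine ⟨⟨h, h1, h3.symm⟩, (e.symm (h • (w : G) • a) : G)⁻¹ * h * w, ?_, ?_⟩
        · rw [mul_smul, mul_smul, inv_smul_eq_iff, h3]
        · simp [mul_smul, h2]; rfl⟩
      prim := fun D hD => by
        refine or_iff_not_imp_left.2 fun h1 => ?_
        obtain ⟨⟨u, hu⟩, hu1⟩ := (Subgroup.ne_bot_iff_exists_ne_one).1 h1
        have h2 := H18.prim_rel hG (fun x y => (e.symm x)⁻¹ * e.symm y ∈ D)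
          ⟨fun x => by simp, fun h => by simpa using D.inv_mem h, fun h h' => by simpa using D.mul_mem h h'⟩
          (fun g x y h => hD _ _ ⟨(e.symm (g • x) : G)⁻¹ * g * e.symm x, by simp [mul_smul, he, inv_smul_eq_iff]⟩ h)
          (a := e 1) (b := e u) (fun h => hu1 (Subtype.ext (e.injective h).symm)) (by simpa)
        exact top_le_iff.1 fun x _ => by simpa using h2 (e 1) (e x) }
  obtain ⟨h, h1, h2⟩ := hr.all (by rwa [← Nat.card_eq_fintype_card, Nat.card_congr e]) (c := e.symm b)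
    (d := (e.symm c)⁻¹ * e.symm d) (fun h => hab (by simpa [h] using he b))
    (fun h => hcd (e.symm.injective (inv_mul_eq_one.1 h)))
  exact ⟨e.symm c * h, by simp [mul_smul, h1, he], by rw [he] at h2; simp [mul_smul, h2, he]⟩

end H07.Schur
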