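import Cfsg.Agent.H07.W0
import Cfsg.Agent.H04.Extraspecial

/-! Groups with an involution centraliser `2^{1+4}.S3` (namespace `H07.Wg`): coordinates, `coord`. -/

set_option autoImplicit false
set_option maxRecDepth 100000
set_option synthInstance.maxSize 4096

namespace H07.Wg
open H13 H14.PK H27.PKx L.DC Subgroup Cfsg

variable {G : Type*} [Group G]

/-- an extraspecial normal subgroup of the centraliser -/
structure XS (Q : Subgroup G) (s : G) : Prop where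
  s2 : s * s = 1
  s1 : s ≠ 1
  sQ : s ∈ Q
  sq : ∀ x ∈ Q, x * x = 1 ∨ x * x = s
  cm : ∀ x ∈ Q, ∀ y ∈ Q, y * x = x * y ∨ y * x = s * (x * y)
  zz : ∀ x ∈ Q, (∀ y ∈ Q, y * x = x * y) → x = 1 ∨ x = s
  nm : ∀ g, g * s = s * g → ∀ x ∈ Q, g * x * g⁻¹ ∈ Q
  le : ∀ x ∈ Q, x * s = s * x

/-- an element of order three acting without fixed points -/
structure Y3 (Q : Subgroup G) (s y : G) : Prop where
  c : y * s = s * y
  y3 : y * y * y = 1
  fp : ∀ x ∈ Q, y * x * y⁻¹ = x → x = 1 ∨ x = s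

variable {Q : Subgroup G} {s y : G}

theorem Y3.inv (k : Y3 Q s y) : y⁻¹ = y * y := inv_eq_of_mul_eq_one_right (by rw [← mul_assoc, k.y3])

theorem Y3.cc (k : Y3 Q s y) (x : G) : y * (y * x * y⁻¹) * y⁻¹ = y⁻¹ * x * y := by
  calc _ = y * y * x * (y * y)⁻¹ := by group
    _ = _ := by rw [← k.inv, inv_inv]

theorem Y3.cs (k : Y3 Q s y) : y * s * y⁻¹ = s := by rw [k.c, mul_inv_cancel_right]

theorem Y3.cs' (k : Y3 Q s y) : y⁻¹ * s * y = s := by rw [mul_assoc, ← k.c, inv_mul_cancel_left]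

theorem XS.nm' (h : XS Q s) (k : Y3 Q s y) {x : G} (hx : x ∈ Q) : y⁻¹ * x * y ∈ Q := k.cc x ▸ h.nm _ k.c _ (h.nm _ k.c _ hx)

theorem XS.norm (h : XS Q s) (k : Y3 Q s y) {x : G} (hx : x ∈ Q) :
    x * (y * x * y⁻¹) * (y⁻¹ * x * y) = 1 ∨ x * (y * x * y⁻¹) * (y⁻¹ * x * y) = s := by
  obtain ⟨n, hn⟩ : ∃ n, n = x * (y * x * y⁻¹) * (y⁻¹ * x * y) := ⟨_, rfl⟩
  rw [← hn]
  have nQ : n ∈ Q := hn ▸ mul_mem (mul_mem hx (h.nm _ k.c _ hx)) (h.nm' k hx)
  have e : x * (y * n * y⁻¹) = n * x := by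
    rw [hn, ← conj_mul, ← conj_mul, k.cc]; group
  refine k.fp n nQ ?_
  rcases h.cm x hx n nQ with r | r
  · rw [← e, mul_right_inj] at r; exact r
  · exfalso
    rw [← e, ← mul_assoc s, ← h.le x hx, mul_assoc x s, mul_right_inj] at r
    have a : y * (y * n * y⁻¹) * y⁻¹ = n := by rw [r, ← conj_mul, k.cs, r, ← mul_assoc, h.s2, one_mul]
    rw [k.cc] at a
    have b : y * n * y⁻¹ = n := by nth_rw 1 [← a]; group
    rw [b, right_eq_mul] at r
    exact h.s1 r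

theorem XS.fixn (h : XS Q s) (k : Y3 Q s y) {x : G} (hx : x ∈ Q) (x2 : x * x = 1) :
    ∃ a, (a = x ∨ a = x * s) ∧ a * a = 1 ∧ a * (y * a * y⁻¹) * (y⁻¹ * a * y) = 1 := by
  rcases h.norm k hx with r | r
  · exact ⟨x, .inl rfl, x2, r⟩
  refine ⟨x * s, .inr rfl, by rw [mul_assoc, ← mul_assoc s, ← h.le x hx, mul_assoc, h.s2, mul_one, x2], ?_⟩
  have a := h.le _ (h.nm _ k.c _ hx)
  have b := h.le _ (h.nm' k hx)
  rw [← conj_mul, k.cs, show y⁻¹ * (x * s) * y = y⁻¹ * x * y * (y⁻¹ * s * y) by group, k.cs']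
  generalize y * x * y⁻¹ = x1 at *
  generalize y⁻¹ * x * y = x2 at *
  calc _ = x * (s * x1) * (s * x2) * s := by group
    _ = x * x1 * (s * s) * x2 * s := by rw [← a]; group
    _ = 1 := by rw [h.s2, mul_one, r, h.s2]

theorem comm_of_tri {a b c : G} (a2 : a * a = 1) (b2 : b * b = 1) (c2 : c * c = 1) (r : a * b * c = 1) : c = a * b ∧ b * a = a * b := by
  have e : c = a * b := by rw [← inv_self c2]; exact inv_eq_of_mul_eq_one_left r
  refine ⟨e, ?_⟩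
  rw [← e, ← inv_self c2, e, _root_.mul_inv_rev, inv_self a2, inv_self b2]

/-- the letters -/
def gY (s a b y : G) (i : ℕ) : G := [s, a, b, y * a * y⁻¹, y⁻¹ * b * y, y, y * y].getD i 1

theorem XS.gens (h : XS Q s) (k : Y3 Q s y) {r : G} (hr : r ∈ Q) (r2 : r * r = 1) (r1 : r ≠ 1) (rs : r ≠ s) :
    ∃ a ∈ Q, ∃ b ∈ Q, (a = r ∨ a = r * s) ∧ Holds (gY s a b y) RU3 := by
  obtain ⟨a, ha, a2, an⟩ := h.fixn k hr r2
  have aQ : a ∈ Q := ha.elim (· ▸ hr) (· ▸ mul_mem hr h.sQ)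
  have a'Q := h.nm _ k.c _ aQ
  obtain ⟨a3, ac⟩ := comm_of_tri a2 (cj_sq a2) (by simpa using cj_sq (g := y⁻¹) a2) an
  have cjm : ∀ {u v : G}, v * u = s * (u * v) → y * v * y⁻¹ * (y * u * y⁻¹) = s * (y * u * y⁻¹ * (y * v * y⁻¹)) := fun r => by
    rw [conj_mul, r, ← conj_mul, k.cs, conj_mul]
  obtain ⟨c, cQ, c1, c2⟩ : ∃ c ∈ Q, c * a = s * (a * c) ∧ c * (y * a * y⁻¹) = y * a * y⁻¹ * c := by
    obtain ⟨x, xQ, x1⟩ : ∃ x ∈ Q, x * a ≠ a * x := by
      by_contra! c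
      rcases h.zz a aQ c with rfl | rfl <;> rcases ha with r | r
      exacts [r1 r.symm, rs (by rw [← inv_self h.s2]; exact eq_inv_of_mul_eq_one_left r.symm), rs r.symm, r1 (by simpa using r)]
    have x1 := (h.cm a aQ x xQ).resolve_left x1
    rcases h.cm _ a'Q x xQ with x2 | x2
    · exact ⟨x, xQ, x1, x2⟩
    have y1 := cjm (cjm x1)
    have y2 := cjm (cjm x2)
    rw [k.cc, k.cc, a3] at y1
    rw [k.cc, k.cc, show y⁻¹ * (y * a * y⁻¹) * y = a by group] at y2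
    refine ⟨_, h.nm' k xQ, y2, ?_⟩
    generalize y⁻¹ * x * y = w at *
    generalize y * a * y⁻¹ = v at *
    rw [← mul_assoc _ a, y2, mul_assoc, mul_right_inj, mul_assoc, mul_assoc, mul_right_inj] at y1
    exact y1
  obtain ⟨d, dQ, d2, d1, d3⟩ : ∃ d ∈ Q, d * d = 1 ∧ d * a = s * (a * d) ∧ d * (y * a * y⁻¹) = y * a * y⁻¹ * d := by
    rcases h.sq c cQ with r | r
    · exact ⟨c, cQ, r, c1, c2⟩
    refine ⟨a * c, mul_mem aQ cQ, ?_, ?_, ?_⟩
    · calc _ = a * (c * a) * c := by group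
        _ = s * (a * a) * (c * c) := by rw [c1, ← mul_assoc a, h.le a aQ]; group
        _ = 1 := by rw [a2, r, mul_one, h.s2]
    · rw [mul_assoc, c1, ← mul_assoc a, h.le a aQ, mul_assoc]
    · rw [mul_assoc, c2, ← mul_assoc, ← ac, mul_assoc]
  obtain ⟨b, hb, b2, bn⟩ := h.fixn k dQ d2
  have bQ : b ∈ Q := hb.elim (· ▸ dQ) (· ▸ mul_mem dQ h.sQ)
  have b1 : b * a = s * (a * b) := by
    rcases hb with rfl | rfl
    · exact d1
    · rw [mul_assoc, ← h.le a aQ, ← mul_assoc, d1]; group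
  have b3 : b * (y * a * y⁻¹) = y * a * y⁻¹ * b := by
    rcases hb with rfl | rfl
    · exact d3
    · rw [mul_assoc, ← h.le _ a'Q, ← mul_assoc, d3]; group
  have b'2 : y⁻¹ * b * y * (y⁻¹ * b * y) = 1 := by simpa using cj_sq (g := y⁻¹) b2
  obtain ⟨b4, bc⟩ := comm_of_tri b2 (cj_sq b2) b'2 bn
  have b5 : y * b * y⁻¹ = b * (y⁻¹ * b * y) := by rw [b4, ← mul_assoc, b2, one_mul]
  have b6 : y⁻¹ * b * y * b = b * (y⁻¹ * b * y) := by rw [b4, mul_assoc, bc]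
  have b7 : y⁻¹ * b * y * a = a * (y⁻¹ * b * y) := by
    have := cj_comm (g := y⁻¹) b3
    simpa [mul_assoc] using this
  have b8 : y⁻¹ * b * y * (y * a * y⁻¹) = s * (y * a * y⁻¹ * (y⁻¹ * b * y)) := by
    have : b * (y⁻¹ * a * y) = s * (y⁻¹ * a * y * b) := by rw [a3, ← mul_assoc b, b1, mul_assoc, mul_assoc, b3]; group
    have := cjm (cjm this)
    rwa [k.cc, k.cc, show y⁻¹ * (y⁻¹ * a * y) * y = y * a * y⁻¹ by rw [← k.cc]; group] at this
  refine ⟨a, aQ, b, bQ, ha, ?_⟩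
  have yy : ∀ x, y * y * x = y⁻¹ * x * y * (y * y) := fun x => by rw [← k.inv]; group
  simp only [Holds, RU3, List.forall_mem_cons, gY, List.getD_cons_zero, List.getD_cons_succ, evalW_cons, evalW_nil, mul_one]
  refine ⟨h.s2, h.le a aQ, a2, h.le b bQ, b1, b2, h.le _ a'Q, ac, b3.symm, cj_sq a2, h.le _ (h.nm' k bQ), b7, b6, b8, b'2, k.c,
    by group, ?_, ?_, by group, ?_, ?_, yy b, ?_, ?_, trivial, ?_, k.y3, ?_, fun _ r => nomatch r⟩
  · rw [← mul_assoc, ← b5]; group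
  · rw [← mul_assoc a, ← a3, ← k.cc]; group
  · rw [yy, k.cs']
  · rw [yy, a3, mul_assoc]
  · rw [yy]; group
  · rw [yy, ← mul_assoc b, ← b5, ← k.cc (y⁻¹ * b * y)]; group
  · rw [← mul_assoc, k.y3]
  · rw [← mul_assoc, k.y3, one_mul]

theorem tree3 : ∀ b < 32, b = 0 ∨ ∃ a ∈ [1, 2, 4, 8, 16], ∃ c < b, M3 c a = b := by decide +kernel

theorem XS.coord3 (h : XS Q s) (k : Y3 Q s y) (hc : Nat.card Q = 32) {r : G} (hr : r ∈ Q) (r2 : r * r = 1) (r1 : r ≠ 1) (rs : r ≠ s) :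
    ∃ e, CG 96 M3 I3 e ∧ e 1 = s ∧ e 32 = y ∧ (e 2 = r ∨ e 2 = r * s) ∧ (∀ a < 32, e a ∈ Q) ∧ ∀ x ∈ Q, ∃ a < 32, e a = x := by
  obtain ⟨a, aQ, b, bQ, ha, H⟩ := h.gens k hr r2 r1 rs
  have c := CG.ofRules H h.s1 two3
  have v : ∀ x i, eqL (wc 3 WT3 x) [i] = true → el 3 WT3 (gY s a b y) x = gY s a b y i := fun _ _ => el_eq
  have m : ∀ x < 32, el 3 WT3 (gY s a b y) x ∈ Q := gen32 (c.zero ▸ one_mem _) (by
    simp only [List.forall_mem_cons]
    rw [v 1 0 (by decide +kernel), v 2 1 (by decide +kernel), v 4 2 (by decide +kernel), v 8 3 (by decide +kernel),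
      v 16 4 (by decide +kernel)]
    exact ⟨h.sQ, aQ, bQ, h.nm _ k.c _ aQ, h.nm' k bQ, fun _ r => nomatch r⟩)
    c (fun x _ y _ p q => c.mul x y ▸ mul_mem p q) tree3
  refine ⟨_, c, v 1 0 (by decide +kernel), v 32 5 (by decide +kernel), by rw [v 2 1 (by decide +kernel)]; exact ha, m, fun x hx => ?_⟩
  have := Nat.finite_of_card_ne_zero (hc ▸ (by decide) : Nat.card Q ≠ 0)
  obtain ⟨i, hi⟩ := ((Nat.bijective_iff_injective_and_card fun i : Fin 32 => (⟨_, m i i.2⟩ : Q)).2 ⟨fun i j r =>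
    Fin.ext (c.inj _ (by omega) _ (by omega) (congrArg Subtype.val r)), by rw [hc, Nat.card_fin]⟩).2 ⟨x, hx⟩
  exact ⟨i, i.2, congrArg Subtype.val hi⟩

theorem XS.code [Finite G] (h : XS Q s) (k : Y3 Q s y) (hc : Nat.card Q = 32) (hC : Nat.card (centralizer ({s} : Set G)) ≤ 192)
    {r : G} (hr : r ∈ Q) (r2 : r * r = 1) (r1 : r ≠ 1) (rs : r ≠ s) {w : G} (ws : w * s = s * w) (w2 : w * w = 1)
    (wy : w * y * w⁻¹ = y⁻¹) : ∃ e : ℕ → G, (Cen 192 MA IA e ∨ Cen 192 MM IM e) ∧ e 1 = s ∧ ∃ a < 32, e a = r := by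
  obtain ⟨e, c, e1, e32, -, m, m'⟩ := h.coord3 k hc hr r2 r1 rs
  obtain ⟨p, p1, p2⟩ := m' _ (h.nm w ws _ (m 2 (by decide)))
  obtain ⟨q, q1, q2⟩ := m' _ (h.nm w ws _ (m 4 (by decide)))
  have I : Ind e w [4, 2, 32] [q, p, 64] := ((c.nil.cons (by
    rw [e32, wy, k.inv, ← e32, c.mul]; exact congrArg e (by decide +kernel))).cons p2.symm).cons q2.symm
  have sq : ∀ {a b : ℕ}, w * e a * w⁻¹ = e b → a < 96 → ¬ alp M3 [4, 2, 32] [q, p, 64] WR3 b
      (fun d => band (Nat.blt d 96) (bn (Nat.beq d a))) = true := fun {a b} r ha t => by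
    obtain ⟨d, d1, d2⟩ := c.alp I t
    simp only [band_eq_true, bn_iff, Nat.beq_eq, Nat.blt_eq] at d1
    refine d1.2 (c.inj _ d1.1 _ ha ?_)
    rw [← r, inv_self w2, ← mul_assoc, ← mul_assoc, w2, one_mul, mul_left_inj] at d2
    exact d2.symm
  have n3 : r * y * (r * y * (r * y)) = 1 ∨ r * y * (r * y * (r * y)) = s := by
    have : r * y * (r * y * (r * y)) = r * (y * r * y⁻¹) * (y⁻¹ * r * y) := by
      nth_rw 2 [k.inv]; rw [k.inv]
      calc _ = r * y * r * (y * y * y) * y * r * y := by rw [k.y3]; group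
        _ = _ := by group
    exact this ▸ h.norm k hr
  have fin : ∀ {AC MT IV TR : ℕ} {RU : Rules} {cs : List ℕ}, twoOk RU 6 AC MT IV TR WTA TGA = true →
      band (eqL (wc 6 WTA 1) [0]) (band (Nat.beq (mu 6 AC MT 1 1) 0)
        (allLt (fun a => Nat.beq (mu 6 AC MT a 1) (mu 6 AC MT 1 a)) (32 * 6))) = true →
      (∀ a < 192, mu 6 AC MT a a = 0 → mu 6 AC MT (mu 6 AC MT a 32) (mu 6 AC MT (mu 6 AC MT a 32) (mu 6 AC MT a 32)) < 2 → a < 32) →
      band (band (Nat.beq (nd 0 cs 0) 1) (Nat.beq (nd 0 cs 5) 32)) (allL (xOk1 M3 [4, 2, 32] [q, p, 64] WR3 cs) RU) = true →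
      ∃ e : ℕ → G, Cen 192 (mu 6 AC MT) (iv 6 IV) e ∧ e 1 = s ∧ ∃ a < 32, e a = r := fun {AC MT IV TR RU cs} t z iq ok => by
    simp only [band_eq_true, Nat.beq_eq] at ok
    have g0 : g1 e cs w 0 = s := by rw [g1, if_neg (by decide), ok.1.1, e1]
    have c' := CG.ofRules (holds1 c I w2 ok.2) (g0 ▸ h.s1) t
    have f1 : el 6 WTA (g1 e cs w) 1 = s := (el_eq (i := 0) (by decide +kernel)).trans g0
    have f2 : el 6 WTA (g1 e cs w) 32 = y := (el_eq (i := 5) (by decide +kernel)).trans (by rw [g1, if_neg (by decide), ok.1.2, e32])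
    have c'' := c'.cen (f1 ▸ h.s1) (f1 ▸ hC) (band_eq_true.1 z).2
    obtain ⟨a, a1, a2⟩ := (c''.cen r).1 (f1 ▸ h.le r hr)
    refine ⟨_, c'', f1, a, iq a a1 (c'.meq1.1 (a2 ▸ r2)) ?_, a2⟩
    rw [← a2, ← f2, ← f1, c'.mul, c'.mul, c'.mul, c'.eq1 (c'.mu_lt _ _), c'.eq (c'.mu_lt _ _) (by decide)] at n3
    omega
  rcases bor_eq_true.1 ((bor_eq_true.1 (allLt_iff.1 (allLt_iff.1 types p p1) q q1)).resolve_left
    fun t => bn_iff.1 t (c.relsOk I _)) with t | t <;> rcases bor_eq_true.1 t with t | t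
  · exact (sq q2.symm (by decide) t).elim
  · exact (sq p2.symm (by decide) t).elim
  · obtain ⟨cs, -, t⟩ := anyL_iff.1 t
    exact (fin twoA zokA inQA t).imp fun _ r => ⟨.inl r.1, r.2⟩
  · obtain ⟨cs, -, t⟩ := anyL_iff.1 t
    exact (fin twoM zokM inQM t).imp fun _ r => ⟨.inr r.1, r.2⟩

theorem coord [Finite G] (hs : orderOf s = 2) {L : Subgroup G} (hL : L = centralizer ({s} : Set G))
    (hQ : Q = (pCore 2 L).map L.subtype) (hQex : IsExtraspecial 2 Q) (hc : Nat.card Q = 32)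
    (φ : L ⧸ pCore 2 L ≃* Equiv.Perm (Fin 3)) (X : Sylow 3 L)
    (hX : Q ⊓ centralizer (((X : Subgroup L).map L.subtype : Subgroup G) : Set G) = zpowers s)
    {g : G} (g1 : g * s * g⁻¹ ∈ Q) (g2 : g * s * g⁻¹ ≠ s) :
    ∃ e : ℕ → G, (Cen 192 MA IA e ∨ Cen 192 MM IM e) ∧ e 1 = s ∧ ∃ a < 32, e a = g * s * g⁻¹ := by
  have : Fact (Nat.Prime 3) := ⟨Nat.prime_three⟩
  have mL : ∀ {x}, x ∈ L ↔ x * s = s * x := by intro x; rw [hL, mem_centralizer_singleton_iff]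
  have mQ : ∀ x : L, (x : G) ∈ Q ↔ φ (x : L ⧸ pCore 2 L) = 1 := fun x => by
    rw [hQ, φ.map_eq_one_iff, QuotientGroup.eq_one_iff]
    exact ⟨fun ⟨y, a, b⟩ => Subtype.ext b ▸ a, fun a => ⟨x, a, rfl⟩⟩
  have QL : Q ≤ L := hQ ▸ map_subtype_le _
  have s2 : s * s = 1 := by rw [← pow_two, ← hs, pow_orderOf_eq_one]
  have s1 : s ≠ 1 := fun r => by simp [r] at hs
  have sQ : s ∈ Q := (hX.ge (mem_zpowers s)).1
  have h : XS Q s := by
    obtain ⟨z, a1, a2, -⟩ := H04.exists_aes_of_isExtraspecial' hQex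
    obtain rfl : s = z := (a1.eq_or (a2.le ⟨sQ, fun x hx => mL.1 (QL hx)⟩)).resolve_left s1
    refine ⟨s2, s1, sQ, fun x hx => pow_two x ▸ a1.eq_or (a1.pow x hx), fun x hx y hy => (a1.eq_or (a1.comm y hy x hx)).imp
      (fun r => commutatorElement_eq_one_iff_mul_comm.1 r) fun r => by rw [← r, commutatorElement_def]; group,
      fun x hx r => a1.eq_or (a2.le ⟨hx, r⟩), fun a ha x hx => ?_, fun x hx => mL.1 (QL hx)⟩
    have := (mQ ⟨x, QL hx⟩).1 hx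
    exact (mQ (⟨a, mL.2 ha⟩ * ⟨x, QL hx⟩ * ⟨a, mL.2 ha⟩⁻¹)).2 (by
      rw [QuotientGroup.mk_mul, QuotientGroup.mk_mul, map_mul, map_mul, this, mul_one, ← map_mul, ← QuotientGroup.mk_mul, mul_inv_cancel]; simp)
  have cL : Nat.card L = 192 := by
    rw [← (pCore 2 L).card_mul_index, index, Nat.card_congr φ.toEquiv, ← card_map_of_injective (K := pCore 2 L) L.subtype_injective,
      ← hQ, hc, Nat.card_perm, Nat.card_fin]; rfl
  have cX : ∀ X : Sylow 3 L, Nat.card X = 3 := fun X => by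
    rw [X.card_eq_multiplicity, cL, show 192 = 3 ^ 1 * 64 from rfl, Nat.factorization_mul (by decide) (by decide),
      Nat.prime_three.factorization_pow]
    simp [Nat.factorization_eq_zero_of_not_dvd (show ¬ 3 ∣ 64 by decide)]
  have Y : ∀ y : L, orderOf y = 3 → Y3 Q s y := fun y hy => by
    obtain ⟨X', a⟩ := (IsPGroup.of_card (n := 1) (by rw [Nat.card_zpowers, hy]; rfl) : IsPGroup 3 (zpowers y)).exists_le_sylow
    have b := eq_of_le_of_card_ge a (by rw [cX, Nat.card_zpowers, hy])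
    obtain ⟨c, rfl⟩ := MulAction.exists_smul_eq L X X'
    refine ⟨mL.1 y.2, by rw [← pow_three', ← coe_pow, ← hy, pow_orderOf_eq_one]; rfl, fun x hx r => ?_⟩
    have cs : (c : G) * s * (c : G)⁻¹ = s := by rw [mL.1 c.2, mul_inv_cancel_right]
    have : (c : G)⁻¹ * x * (c : G)⁻¹⁻¹ ∈ zpowers s := hX.le ⟨h.nm _ (mL.1 (inv_mem c.2)) x hx, by
      rintro _ ⟨u, hu, rfl⟩
      obtain ⟨i, hi⟩ := b.ge (show c * u * c⁻¹ ∈ (c • X : Sylow 3 L) from smul_mem_pointwise_smul _ (MulAut.conj c) _ hu)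
      have d : Commute ((y : G) ^ i) x := (show Commute (y : G) x from mul_inv_eq_iff_eq_mul.1 r).zpow_left i
      have := cj_comm (g := (c : G)⁻¹) d.eq
      rwa [← coe_zpow, show y ^ i = _ from hi, show (c : G)⁻¹ * (c * u * c⁻¹ : L) * (c : G)⁻¹⁻¹ = u by push_cast; group] at this⟩
    classical
    rw [mem_zpowers_iff_mem_range_orderOf, hs] at this
    simp only [Finset.mem_image, Finset.mem_range] at this
    obtain ⟨i, i1, i2⟩ := this
    interval_cases i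
    · exact .inl (conj_eq_one_iff.1 (i2.symm.trans (pow_zero s)))
    · exact .inr (by rw [← cs, ← pow_one s, i2]; group)
  obtain ⟨y, hy⟩ := exists_prime_orderOf_dvd_card' (G := L) 3 (by rw [cL]; decide)
  have r2 := cj_sq (g := g) s2
  have r1 : g * s * g⁻¹ ≠ 1 := mt conj_eq_one_iff.1 s1
  have q4 : ∀ x ∈ Q, x ^ 4 = 1 := fun x hx => by
    rw [show x ^ 4 = x * x * (x * x) by simp [pow_succ, mul_assoc]]
    rcases h.sq x hx with r | r <;> rw [r]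
    exacts [one_mul 1, s2]
  obtain ⟨w, w1, w2, w3⟩ : ∃ w, w * s = s * w ∧ w * w = 1 ∧ w ∉ Q := by
    obtain ⟨e, c, e1, -, e2, m, -⟩ := h.coord3 (Y y hy) hc g1 r2 r1 g2
    have k : ∀ a < 32, M3 a 2 = M3 2 a → g⁻¹ * e a * g⁻¹⁻¹ * s = s * (g⁻¹ * e a * g⁻¹⁻¹) := fun a ha r => by
      have d : e a * (g * s * g⁻¹) = g * s * g⁻¹ * e a := by
        have := c.meq.2 r
        rcases e2 with t | t <;> rw [t] at this
        · exact this
        · rwa [mul_assoc _ s (e a), ← h.le _ (m a ha), ← mul_assoc (e a), ← mul_assoc _ (e a), mul_left_inj] at this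
      have := cj_comm (g := g⁻¹) d
      rwa [show g⁻¹ * (g * s * g⁻¹) * g⁻¹⁻¹ = s by group] at this
    by_contra! n
    have t : e 16 * e 8 = s * (e 8 * e 16) := by rw [← e1, c.mul 8, c.meq]; decide +kernel
    rcases h.cm _ (n _ (k 8 (by decide) (by decide +kernel)) (cj_sq (c.meq1.2 (by decide +kernel)))) _
      (n _ (k 16 (by decide) (by decide +kernel)) (cj_sq (c.meq1.2 (by decide +kernel)))) with r | r <;>
      rw [conj_mul, conj_mul, t, ← conj_mul] at r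
    · exact s1 (conj_eq_one_iff.1 (mul_eq_right.1 r))
    · exact g2 (by nth_rw 1 [← mul_right_cancel r]; group)
  obtain ⟨W, rfl⟩ : ∃ W : L, (W : G) = w := ⟨⟨w, mL.2 w1⟩, rfl⟩
  have W2 : W * W = 1 := Subtype.ext w2
  have y3 : y ^ 3 = 1 := hy ▸ pow_orderOf_eq_one y
  have t : ∀ p q : Equiv.Perm (Fin 3), p * p = 1 → p ≠ 1 → q ^ 3 = 1 → q ≠ 1 → (p * (q * p * q⁻¹)) ^ 3 = 1 ∧ (p * (q * p * q⁻¹)) ^ 4 ≠ 1 := by
    decide +kernel
  obtain ⟨t1, t2⟩ := t (φ (W : L ⧸ pCore 2 L)) (φ (y : L ⧸ pCore 2 L)) (by rw [← map_mul, ← QuotientGroup.mk_mul, W2]; simp)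
    (mt (mQ W).2 w3) (by rw [← map_pow, ← QuotientGroup.mk_pow, y3]; simp) fun r => by
      have := q4 _ ((mQ y).2 r)
      rw [← coe_pow, pow_succ, y3, one_mul, OneMemClass.coe_eq_one] at this
      simp [this] at hy
  simp only [← map_mul, ← map_inv, ← map_pow, ← QuotientGroup.mk_mul, ← QuotientGroup.mk_inv, ← QuotientGroup.mk_pow] at t1 t2
  have hu : W * (W * (y * W * y⁻¹)) * W⁻¹ = (W * (y * W * y⁻¹))⁻¹ := by
    rw [← mul_assoc, W2, one_mul, _root_.mul_inv_rev, inv_self (cj_sq W2)]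
  generalize W * (y * W * y⁻¹) = u at *
  have o : orderOf (u ^ 4) = 3 := orderOf_eq_prime (by
    rw [← pow_mul, mul_comm, pow_mul]; exact Subtype.ext (q4 _ ((mQ _).2 t1))) fun r => t2 (by rw [r]; simp)
  exact h.code (Y _ o) hc (hL ▸ cL.le) g1 r2 r1 g2 w1 w2 (by rw [← coe_inv, ← coe_mul, ← coe_mul, ← conj_pow, hu, inv_pow]; rfl)

end H07.Wg
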