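import Cfsg.Agent.H07.W1
import Cfsg.Agent.S3035
import Cfsg.Agent.S1911
import Cfsg.Agent.H08.StronglyEmbedded

/-! Groups with an involution centraliser `2^{1+4}.S3` (namespace `H07.Wg`): `s45`, `quot45`, `l32`, `ncard_cls`, `normal8`. -/

set_option autoImplicit false
set_option maxRecDepth 100000
set_option synthInstance.maxSize 4096

namespace H07.Wg
open H13 H14.PK H27.PKx L.DC Subgroup Cfsg Equiv

section
variable {X : Type*} [Group X] [Finite X] {z a b : X} (a2 : a * a = 1) (b2 : b * b = 1) (z2 : z * z = 1) (z1 : z ≠ 1)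
  (hz : a * b * (a * b) = z) (hc : ∀ x, x * z = z * x → ∃ i j : ℕ, x = (a * b) ^ i * a ^ j)
include a2 b2 z2 z1 hz hc

theorem dih8 : H08.Dih (centralizer {z}) (a * b) a z 1 := by
  have a1 : a ≠ 1 := fun r => z1 (by rw [← hz, r, one_mul, b2])
  have b1 : b ≠ 1 := fun r => z1 (by rw [← hz, r, mul_one, a2])
  have o : orderOf (a * b) = 2 ^ (1 + 1) := orderOf_eq_prime_pow (by rwa [pow_one, pow_two, hz])
    (by rw [show 2 ^ (1 + 1) = 2 * 2 from rfl, pow_mul, pow_two, pow_two, hz, z2])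
  have d := H08.dih_closure o a2 (H08.conj_mul_left a2 b2) (H08.left_notMem_zpowers (ord2 a2 a1) (ord2 b2 b1))
  rw [pow_one, pow_two, hz] at d
  have : closure {a * b, a} = centralizer {z} := le_antisymm d.le_C fun x hx => by
    obtain ⟨i, j, rfl⟩ := hc x (mem_centralizer_singleton_iff.1 hx)
    exact mul_mem (pow_mem d.σ_mem _) (pow_mem d.τ_mem _)
  exact this ▸ d

theorem s45 (c1 : IsConj z a) (c2 : ¬ IsConj z b) : Nonempty (X ≃* Perm (Fin 4)) ∨ Nonempty (X ≃* Perm (Fin 5)) := by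
  have d := dih8 a2 b2 z2 z1 hz hc
  have n : ¬ ∀ H : Subgroup X, H.index ≠ 2 := fun hG => by
    obtain ⟨S, hS⟩ := d.exists_sylow one_ne_zero rfl
    exact c2 ((hS ▸ d).isConj_t hG (ord2 b2 fun r => z1 (by rw [← hz, r, mul_one, a2])))
  have c := d.card
  have k : IsSimpleGroup X → False := fun _ => n (H08.index_ne_two_of_simple fun r => by
    have := card_subgroup_dvd_card (centralizer ({z} : Set X))
    rw [c, r] at this
    exact absurd this (by decide))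
  rcases Agent.S3035.result z (ord2 z2 z1) d.nonempty_equiv with h | h | h | ⟨⟨φ⟩⟩ | ⟨⟨φ⟩⟩
  · exfalso
    obtain ⟨u, hu⟩ := isConj_iff.1 c1
    obtain ⟨c, hc', o, ho, e⟩ := mem_sup_of_normal_right.1 (h.ge (mem_top u⁻¹))
    have za := d.comm_t d.τ_mem
    have m : z * a ∈ oddCore X := by
      have e1 : a = o⁻¹ * (c⁻¹ * z * c) * o := by rw [← hu, ← inv_inv u, ← e]; group
      rw [e1, mul_assoc c⁻¹, ← mem_centralizer_singleton_iff.1 hc', inv_mul_cancel_left]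
      convert mul_mem ((inferInstance : (oddCore X).Normal).conj_mem _ (inv_mem ho) z) ho using 1
      rw [inv_self z2]; group
    have o2 : orderOf (z * a) = 2 := ord2 (by rw [mul_assoc, ← mul_assoc a, za, mul_assoc, a2, mul_one, z2]) fun e => by
      have : a = z := by rw [eq_inv_of_mul_eq_one_right e, inv_self z2]
      exact d.nm (this ▸ d.t_mem)
    have := orderOf_dvd_natCard (⟨_, m⟩ : oddCore X)
    rw [← orderOf_coe, o2] at this
    exact (Nat.not_even_iff_odd.2 (H08.odd_card_oddCore X)) (even_iff_two_dvd.2 this)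
  · exact .inl h
  · exact .inr h
  · have : Fact (Nat.Prime 7) := ⟨by norm_num⟩
    obtain ⟨⟨f⟩, ⟨g⟩⟩ := H08.psl27_equiv_psl32 (ZMod.card 7) (ZMod.card 2)
    have := H09.PSL_simple_fin (F := ZMod 2) 3 (by norm_num) (by norm_num)
    exact (k ((φ.trans g.symm).trans f).isSimpleGroup).elim
  · have := alternatingGroup.isSimpleGroup (α := Fin 6) (by simp)
    exact (k φ.isSimpleGroup).elim

theorem l32 (c1 : IsConj z a) (c2 : IsConj z b) (n : Nat.card X = 168) :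
    Nonempty (X ≃* Matrix.ProjectiveSpecialLinearGroup (Fin 3) (ZMod 2)) := by
  have d := dih8 a2 b2 z2 z1 hz hc
  obtain ⟨e⟩ := d.nonempty_equiv
  rcases H08.A6_or_psl27 (fun H hH => by
    have N := normal_of_index_eq_two hH
    have m : z ∈ H := hz ▸ mul_self_mem_of_index_two hH _
    have k : ∀ {x}, IsConj z x → x ∈ H := fun c => by obtain ⟨g, rfl⟩ := isConj_iff.1 c; exact N.conj_mem _ m g
    have := card_dvd_of_le (show centralizer {z} ≤ H from d.eq_closure ▸ (closure_le H).2 (by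
      rintro _ (rfl | rfl); exacts [mul_mem (k c1) (k c2), k c1]))
    have h2 := H.card_mul_index
    rw [d.card] at this
    rw [hH, n] at h2
    omega) (ord2 z2 z1) e with ⟨⟨φ⟩⟩ | ⟨F, _, _, h, ⟨φ⟩⟩
  · have := two_mul_nat_card_alternatingGroup (α := Fin 6)
    rw [← Nat.card_congr φ.toEquiv, n, Nat.card_perm, Nat.card_fin] at this
    exact absurd this (by decide)
  · exact (H08.psl27_equiv_psl32 h (ZMod.card 2)).1.map φ.trans

end

variable {G : Type*} [Group G] [Finite G]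

theorem quot45 {C V : Subgroup G} (nV : ∀ g ∈ C, ∀ v ∈ V, g * v * g⁻¹ ∈ V) {z a b : G} (aC : a ∈ C) (bC : b ∈ C)
    (a2 : a * a = 1) (b2 : b * b = 1) (z2 : z * z = 1) (z1 : z ∉ V) (hz : a * b * (a * b) = z)
    (hc : ∀ x ∈ C, (x * z)⁻¹ * (z * x) ∈ V → ∃ i j : ℕ, x⁻¹ * ((a * b) ^ i * a ^ j) ∈ V)
    (c1 : ∃ g ∈ C, (g * z * g⁻¹)⁻¹ * a ∈ V) (c2 : ∀ g ∈ C, (g * z * g⁻¹)⁻¹ * b ∉ V) :
    ∃ n, (n = 4 ∨ n = 5) ∧ ∃ φ : C →* Perm (Fin n), Function.Surjective φ ∧ ∀ x, φ x = 1 ↔ x.1 ∈ V := by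
  have N : (V.subgroupOf C).Normal := ⟨fun x hx g => nV g g.2 x hx⟩
  have zC : z ∈ C := hz ▸ mul_mem (mul_mem aC bC) (mul_mem aC bC)
  have q : ∀ {x y : C}, (x : C ⧸ V.subgroupOf C) = y ↔ x.1⁻¹ * y ∈ V := by intro x y; rw [QuotientGroup.eq]; rfl
  have fin : ∀ {n}, Nonempty (C ⧸ V.subgroupOf C ≃* Perm (Fin n)) →
      ∃ φ : C →* Perm (Fin n), Function.Surjective φ ∧ ∀ x, φ x = 1 ↔ x.1 ∈ V := fun ⟨φ⟩ =>
    ⟨φ.toMonoidHom.comp (QuotientGroup.mk' _), φ.surjective.comp (QuotientGroup.mk'_surjective _), fun x =>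
      φ.map_eq_one_iff.trans (QuotientGroup.eq_one_iff x)⟩
  have o : ∀ {x y : C}, x = y → (x : C ⧸ V.subgroupOf C) = y := congrArg _
  refine (s45 (z := ((⟨z, zC⟩ : C) : C ⧸ V.subgroupOf C)) (a := (⟨a, aC⟩ : C)) (b := (⟨b, bC⟩ : C)) (o (Subtype.ext a2))
    (o (Subtype.ext b2)) (o (Subtype.ext z2)) (fun r => z1 ((QuotientGroup.eq_one_iff (N := V.subgroupOf C) _).1 r)) (o (Subtype.ext hz)) (fun x r => ?_) ?_
    fun r => ?_).elim (fun r => ⟨4, .inl rfl, fin r⟩) fun r => ⟨5, .inr rfl, fin r⟩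
  · obtain ⟨x, rfl⟩ := QuotientGroup.mk_surjective x
    obtain ⟨i, j, s⟩ := hc x x.2 (q.1 r)
    exact ⟨i, j, q.2 (show x.1⁻¹ * (((⟨a, aC⟩ * ⟨b, bC⟩) ^ i * ⟨a, aC⟩ ^ j : C) : G) ∈ V from s)⟩
  · obtain ⟨g, hg, s⟩ := c1
    exact isConj_iff.2 ⟨((⟨g, hg⟩ : C) : C ⧸ V.subgroupOf C), (q (x := (⟨g, hg⟩ : C) * (⟨z, zC⟩ : C) * (⟨g, hg⟩ : C)⁻¹) (y := ⟨a, aC⟩)).2 s⟩
  · obtain ⟨g, s⟩ := isConj_iff.1 r
    obtain ⟨g, rfl⟩ := QuotientGroup.mk_surjective g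
    exact c2 g g.2 ((q (x := g * (⟨z, zC⟩ : C) * g⁻¹) (y := ⟨b, bC⟩)).1 s)

theorem ncard_cls (x : G) : {y | IsConj x y}.ncard * Nat.card (centralizer ({x} : Set G)) = Nat.card G := by
  rw [nat_card_centralizer_nat_card_stabilizer, show {y | IsConj x y} = MulAction.orbit (ConjAct G) x by
    ext y; rw [ConjAct.mem_orbit_conjAct, isConj_comm]; rfl, ← MulAction.index_stabilizer, index_mul_card]
  rfl

variable {N : ℕ} {mu : ℕ → ℕ → ℕ} {iv : ℕ → ℕ} {e : ℕ → G}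

omit [Finite G] in
theorem mm (h : CG N mu iv e) {a b c : ℕ} (r : mu a b = c) : e a * e b = e c := r ▸ h.mul a b

omit [Finite G] in
theorem jj (h : CG N mu iv e) {a b c : ℕ} (r : cj mu iv a b = c) : e a * e b * (e a)⁻¹ = e c := r ▸ h.cj a b

omit [Finite G] in
theorem jc (h : CG N mu iv e) {b c : ℕ} (a : ℕ) (r : cj mu iv a b = c) : IsConj (e b) (e c) := isConj_iff.2 ⟨_, jj h r⟩

omit [Finite G] in
theorem pw (h : CG N mu iv e) (a n : ℕ) : e a ^ n = e (pr mu (List.replicate n a)) := by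
  rw [← h.pr, List.map_replicate, List.prod_replicate]

/-- the normal subgroup of order eight -/
def EL : List ℕ := [0, 1, 2, 3, 8, 9, 10, 11]

/-- the checks -/
def NEok (mu : ℕ → ℕ → ℕ) (iv : ℕ → ℕ) : Prop :=
  ((∀ a ∈ EL, iv a = a ∧ ∀ b ∈ EL, mu a b ∈ EL ∧ mu a b = mu b a) ∧ (∀ c < 192, ∀ a ∈ EL, cj mu iv c a ∈ EL) ∧
    (∀ a ∈ EL, ∃ i ∈ [0, 1], ∃ j ∈ [0, 2], ∃ k ∈ [0, 8], mu (mu i j) k = a) ∧ (∀ a ∈ EL, a = 0 ∨ a = 1 ∨ ∃ c < 192, cj mu iv c 2 = a)) ∧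
  (∀ c < 192, c ∈ EL ∨ ∃ w ∈ [c, mu (cj mu iv 4 c) (iv c), mu (cj mu iv 16 c) (iv c)], ∃ x ∈ EL, mu (mu w x) (mu w x) = 0 ∧ mu w x ∉ EL) ∧
  (mu 16 2 = mu 2 16 ∧ mu 16 8 = mu 1 (mu 8 16) ∧ mu 16 16 = 0 ∧ mu 4 4 = 0 ∧ mu 96 96 = 0 ∧ cj mu iv 32 16 = 4 ∧ mu 96 1 = 97 ∧
    mu (iv (mu (mu 4 96) (mu 4 96))) 16 ∈ EL) ∧
  (∀ x ∈ EL, ∀ f ∈ EL, mu (mu x 16) f = mu f (mu x 16) ∨ mu (mu x 16) f = mu 1 (mu f (mu x 16))) ∧
  ∀ c < 192, mu (cj mu iv c 16) 16 ∈ EL → ∃ i < 4, ∃ j < 2, mu (iv c) (mu (pr mu (List.replicate i (mu 4 96))) (pr mu (List.replicate j 4))) ∈ EL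

theorem neA : NEok MA IA := by unfold NEok; decide +kernel

theorem neM : NEok MM IM := by unfold NEok; decide +kernel

theorem normal8 (h : Cen 192 mu iv e) (ok : NEok mu iv) {u : G} (u1 : u * e 1 * u⁻¹ = e 2) (u2 : u * e 2 * u⁻¹ = e 1)
    (u8 : ∃ a ∈ EL, u * e 8 * u⁻¹ = e a) (iso : ∀ a < 192, IsConj (e 1) (e a) → a ∈ EL)
    (c : IsConj (e 16) (e 96) ∨ IsConj (e 16) (e 97)) : ∃ (N : Subgroup G) (_ : N.Normal), IsMulCommutative N ∧ (∀ n ∈ N, n ^ 2 = 1) ∧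
      Nat.card N = 8 ∧ Nonempty (G ⧸ N ≃* Matrix.ProjectiveSpecialLinearGroup (Fin 3) (ZMod 2)) := by
  obtain ⟨⟨k1, k2, k3, k4⟩, k5, ⟨k6, k7, k8, k9, k10, k11, k12, k13⟩, k14, k15⟩ := ok
  have lt : ∀ a ∈ EL, a < 192 := by decide
  obtain ⟨E, mE⟩ : ∃ E : Subgroup G, ∀ {x}, x ∈ E ↔ ∃ a ∈ EL, e a = x :=
    ⟨h.msub (· ∈ EL) (by decide) (fun a _ b _ p q => ((k1 a p).2 b q).1) fun a _ p => (k1 a p).1.symm ▸ p,
      ⟨fun ⟨a, _, b⟩ => ⟨a, b⟩, fun ⟨a, b, c⟩ => ⟨a, lt a b, b, c⟩⟩⟩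
  have me : ∀ {a}, a < 192 → (e a ∈ E ↔ a ∈ EL) := fun ha =>
    ⟨fun r => by obtain ⟨b, p, q⟩ := mE.1 r; exact h.inj _ (lt b p) _ ha q ▸ p, fun r => mE.2 ⟨_, r, rfl⟩⟩
  have sE : e 1 ∈ E := mE.2 ⟨1, by decide, rfl⟩
  have cm : ∀ x ∈ E, ∀ y ∈ E, x * y = y * x := fun x p y q => by
    obtain ⟨a, p', rfl⟩ := mE.1 p
    obtain ⟨b, q', rfl⟩ := mE.1 q
    exact h.meq.2 ((k1 a p').2 b q').2
  have sq : ∀ x ∈ E, x * x = 1 := fun x p => by
    obtain ⟨a, p', rfl⟩ := mE.1 p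
    nth_rw 1 [← (k1 a p').1, ← h.inv, inv_mul_cancel]
  have nn : ∀ {g}, (∀ a ∈ EL, g * e a * g⁻¹ ∈ E) → g ∈ normalizer (E : Set G) := fun r =>
    H26.mem_normalizer_of_cj_le (H26.cj_le_iff.2 fun x p => by obtain ⟨a, p', rfl⟩ := mE.1 p; exact r a p')
  have nH : ∀ {x}, x * e 1 = e 1 * x → x ∈ normalizer (E : Set G) := fun r => by
    obtain ⟨c, hc, rfl⟩ := (h.cen _).1 r
    exact nn fun a p => h.cj c a ▸ mE.2 ⟨_, k2 c hc a p, rfl⟩
  have nu : u ∈ normalizer (E : Set G) := nn fun a p => by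
    obtain ⟨i, hi, j, hj, k, hk, rfl⟩ := k3 a p
    obtain ⟨b, b1, b2⟩ := u8
    rw [← h.mul, ← h.mul, ← conj_mul, ← conj_mul]
    simp only [List.mem_cons, List.not_mem_nil, or_false] at hi hj hk
    refine mul_mem (mul_mem ?_ ?_) ?_
    · rcases hi with rfl | rfl
      exacts [by simp [h.zero, one_mem], u1 ▸ mE.2 ⟨2, by decide, rfl⟩]
    · rcases hj with rfl | rfl
      exacts [by simp [h.zero, one_mem], u2 ▸ sE]
    · rcases hk with rfl | rfl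
      exacts [by simp [h.zero, one_mem], b2 ▸ mE.2 ⟨b, b1, rfl⟩]
  have tr : ∀ d ∈ E, d ≠ 1 → ∃ n ∈ normalizer (E : Set G), n * e 1 * n⁻¹ = d := fun d p d1 => by
    obtain ⟨a, p', rfl⟩ := mE.1 p
    rcases k4 a p' with rfl | rfl | ⟨c, -, rfl⟩
    exacts [(d1 h.zero).elim, ⟨1, one_mem _, by simp⟩, ⟨e c * u, mul_mem (nH (h.zc c)) nu, by rw [← h.cj, ← u1]; group⟩]
  have iso' : ∀ {x}, x * e 1 = e 1 * x → IsConj (e 1) x → x ∈ E := fun r c => by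
    obtain ⟨a, ha, rfl⟩ := (h.cen _).1 r
    exact (me ha).2 (iso a ha c)
  have key : ∀ g, g ∉ normalizer (E : Set G) → E.map (MulAut.conj g).toMonoidHom ⊓ normalizer (E : Set G) = ⊥ := fun g hg => by
    rw [eq_bot_iff]
    rintro _ ⟨⟨d, p, rfl⟩, hx⟩
    by_contra x1
    obtain ⟨n, n1, rfl⟩ := tr d p fun r => x1 (by simp [r])
    have cx : IsConj (e 1) (g * (n * e 1 * n⁻¹) * g⁻¹) := isConj_iff.2 ⟨g * n, by group⟩
    have x2 := cj_sq (g := g) (cj_sq (g := n) h.z2)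
    change g * _ * g⁻¹ ∈ _ at hx
    change g * _ * g⁻¹ ∉ _ at x1
    obtain ⟨x, ex⟩ : ∃ x, g * (n * e 1 * n⁻¹) * g⁻¹ = x := ⟨_, rfl⟩
    rw [ex] at hx x1 cx x2
    obtain ⟨d, d1, d2, d3⟩ : ∃ d ∈ E, d ≠ 1 ∧ x * d = d * x := by
      have m := (mem_normalizer_iff.1 hx _).1 sE
      by_cases r : x * e 1 = e 1 * x
      · exact ⟨_, sE, h.z1, r⟩
      refine ⟨e 1 * (x * e 1 * x⁻¹), mul_mem sE m, fun t => r ?_, ?_⟩
      · rw [← mul_inv_eq_iff_eq_mul, eq_inv_of_mul_eq_one_right t, inv_self h.z2]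
      · nth_rw 1 [cm _ sE _ m]
        rw [inv_self x2, ← mul_assoc, ← mul_assoc, ← mul_assoc, x2, one_mul, mul_assoc (e 1) _ x, mul_assoc _ x x, x2, mul_one, mul_assoc]
    obtain ⟨m, m1, rfl⟩ := tr d d1 d2
    have xE : x ∈ E := (mem_normalizer_iff''.1 m1 x).2 (iso' (by
      have := cj_comm (g := m⁻¹) d3
      simpa [mul_assoc] using this) (cx.trans (isConj_iff.2 ⟨m⁻¹, by simp⟩)))
    obtain ⟨l, l1, rfl⟩ := tr x xE x1
    refine hg ((mul_mem_cancel_right n1).1 ((mul_mem_cancel_left (inv_mem l1)).1 (nH ?_)))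
    calc _ = l⁻¹ * (g * (n * e 1 * n⁻¹) * g⁻¹) * (g * n) := by group
      _ = _ := by rw [ex]; group
  have cE : Nat.card E = 8 := le_antisymm (by
    rw [← Nat.card_fin 8]
    exact Nat.card_le_card_of_surjective (fun i : Fin 8 => (⟨_, mE.2 ⟨_, EL.get_mem i, rfl⟩⟩ : E)) fun x => by
      obtain ⟨a, p, q⟩ := mE.1 x.2
      obtain ⟨i, rfl⟩ := List.get_of_mem p
      exact ⟨i, Subtype.ext q⟩) (h.le_card (l := EL) (by decide) fun a p => ⟨lt a p, mE.2 ⟨a, p, rfl⟩⟩)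
  have fixs : ∀ {g x}, g ∈ normalizer (E : Set G) → x ∈ E → g * e 16 * g⁻¹ = x * e 16 → g * e 1 * g⁻¹ = e 1 := fun {g x} hg hx r => by
    obtain ⟨a, p, rfl⟩ := mE.1 hx
    obtain ⟨f, q, f1⟩ := mE.1 ((mem_normalizer_iff.1 hg _).1 (mE.2 ⟨8, by decide, rfl⟩))
    have t : g * e 16 * g⁻¹ * (g * e 8 * g⁻¹) = g * e 1 * g⁻¹ * (g * e 8 * g⁻¹ * (g * e 16 * g⁻¹)) := by
      rw [conj_mul, conj_mul, conj_mul, h.mul 8, h.meq.2 k7]
    rw [r, ← f1, h.mul a] at t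
    rcases k14 a p f q with s | s
    · rw [h.meq.2 s, right_eq_mul] at t; exact (h.z1 (conj_eq_one_iff.1 t)).elim
    · rw [h.meq.2 s, ← h.mul f, mul_left_inj] at t; exact t.symm
  have o2 : ∀ {x : G}, x * x = 1 → x ≠ 1 → orderOf x = 2 := ord2
  rcases Agent.S1911.result E ⟨cE ▸ by decide, fun g hg => by
    rw [eq_bot_iff.2 ((inf_comm E _).le.trans ((inf_le_inf_left _ le_normalizer).trans (key g hg).le))]; simp⟩
    (fun g hg => by rw [key g hg]; simp) with n | n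
  · refine ⟨E, n, ⟨⟨fun x y => Subtype.ext (cm _ x.2 _ y.2)⟩⟩, fun x p => (pow_two x).trans (sq x p), cE, ?_⟩
    have q : ∀ {x y : G}, (x : G ⧸ E) = y ↔ x⁻¹ * y ∈ E := QuotientGroup.eq
    have o : ∀ {x y : G}, x = y → (x : G ⧸ E) = y := congrArg _
    have f : ∀ {x y : G}, IsConj x y → IsConj (x : G ⧸ E) y := (QuotientGroup.mk' E).map_isConj
    refine l32 (z := (e 16 : G ⧸ E)) (a := e 4) (b := e 96) (o (h.meq1.2 k9)) (o (h.meq1.2 k10)) (o (h.meq1.2 k8))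
      (fun r => absurd ((me (by decide)).1 ((QuotientGroup.eq_one_iff _).1 r)) (by decide))
      ((q (x := e 4 * e 96 * (e 4 * e 96))).2 (by rw [h.mul, h.mul, h.inv, h.mul]; exact (me (h.mu_lt _ _)).2 k13)) (fun x r => ?_) (f (jc h.toCG 32 k11))
      (c.elim f fun c => ?_) ?_
    · obtain ⟨x, rfl⟩ := QuotientGroup.mk_surjective x
      have t : x * e 16 * x⁻¹ * e 16 ∈ E := by
        have := n.conj_mem _ (inv_mem (q.1 r)) (e 16 * x)
        rw [← inv_self (h.meq1.2 k8 : e 16 * e 16 = 1)]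
        nth_rw 1 [inv_self (h.meq1.2 k8 : e 16 * e 16 = 1)]
        convert this using 1; group
      obtain ⟨c, hc, rfl⟩ := (h.cen x).1 (mul_inv_eq_iff_eq_mul.1 (fixs (normalizer_eq_top E ▸ mem_top x) t (by
        rw [mul_assoc _ (e 16) (e 16), h.meq1.2 k8, mul_one])))
      rw [h.cj, h.mul] at t
      obtain ⟨i, -, j, -, s⟩ := k15 c hc ((me (h.mu_lt _ _)).1 t)
      refine ⟨i, j, (q (y := (e 4 * e 96) ^ i * e 4 ^ j)).2 ?_⟩
      rw [h.mul, pw h.toCG, pw h.toCG, h.inv, h.mul, h.mul]; exact (me (h.mu_lt _ _)).2 s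
    · rw [show (e 96 : G ⧸ E) = e 97 from q.2 (by rw [← mm h.toCG k12, inv_mul_cancel_left]; exact sE)]; exact f c
    · have a := ncard_cls (e 1)
      have b := E.card_eq_card_quotient_mul_card_subgroup
      rw [show {y | IsConj (e 1) y} = (E : Set G) \ {1} from Set.ext fun y => ⟨fun c => by
        obtain ⟨g, rfl⟩ := isConj_iff.1 c
        exact ⟨n.conj_mem _ sE g, mt conj_eq_one_iff.1 h.z1⟩, fun p => by
        obtain ⟨g, -, r⟩ := tr y p.1 p.2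
        exact isConj_iff.2 ⟨g, r⟩⟩, Set.ncard_sdiff_singleton_of_mem (one_mem E), h.card_cen,
        show (E : Set G).ncard = 8 from cE] at a
      rw [cE] at b
      omega
  · exfalso
    have nK : (normalClosure (E : Set G)).Normal := inferInstance
    have EK : E ≤ normalClosure (E : Set G) := le_normalClosure
    generalize normalClosure (E : Set G) = K at n nK EK
    have os : orderOf (⟨_, EK sE⟩ : K) = 2 := by rw [← orderOf_coe]; exact o2 h.z2 h.z1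
    have KH : ∀ c < 192, e c ∈ K → c ∈ EL := fun c hc p => (k5 c hc).resolve_right fun ⟨w, w1, x, x1, x2, x3⟩ => by
      have wK : e (mu w x) ∈ K := by
        refine h.mul _ _ ▸ mul_mem ?_ (EK (mE.2 ⟨x, x1, rfl⟩))
        simp only [List.mem_cons, List.not_mem_nil, or_false] at w1
        rcases w1 with rfl | rfl | rfl
        · exact p
        all_goals rw [← h.mul, ← h.cj, ← h.inv]; exact mul_mem (nK.conj_mem _ p _) (inv_mem p)
      refine x3 (iso _ (h.mu_lt _ _) (K.subtype.map_isConj (H08.SE.isConj n os (b := ⟨_, wK⟩) ?_)))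
      rw [← orderOf_coe]
      exact o2 (h.meq1.2 x2) fun r => x3 ((h.eq1 (h.mu_lt _ _)).1 r ▸ by decide)
    have e2 : e 2 ∈ E := mE.2 ⟨2, by decide, rfl⟩
    obtain ⟨v, v1, v2⟩ := H08.SE.exists_invol_notMem n
    obtain ⟨d, ⟨d1, -⟩, d2, -⟩ := H08.SE.exists_conj_inf n v2 v1 os (le_normalizer sE) (t := ⟨_, EK e2⟩)
      (by rw [← orderOf_coe]; exact (congrArg orderOf u1.symm).trans (o2 (cj_sq h.z2) (mt conj_eq_one_iff.1 h.z1))) (le_normalizer e2)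
    have d2 : d.1 * e 1 * d.1⁻¹ = e 2 := congrArg Subtype.val d2
    obtain ⟨c, hc, r⟩ := (h.cen (d.1⁻¹ * e 16 * d.1⁻¹⁻¹)).1 (by
      have := cj_comm (g := d.1⁻¹) (h.meq.2 k6)
      rwa [← d2, show d.1⁻¹ * (d.1 * e 1 * d.1⁻¹) * d.1⁻¹⁻¹ = e 1 by group] at this)
    have t : e (mu c 16) ∈ K := by
      rw [← h.mul, r, ← inv_self (h.meq1.2 k8 : e 16 * e 16 = 1)]
      nth_rw 1 [inv_self (h.meq1.2 k8 : e 16 * e 16 = 1)]
      convert mul_mem (inv_mem d.2) (nK.conj_mem _ d.2 (e 16)) using 1; group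
    have := fixs (g := d.1⁻¹) (inv_mem d1) ((me (h.mu_lt _ _)).2 (KH _ (h.mu_lt _ _) t)) (by
      rw [← h.mul, mul_assoc _ (e 16) (e 16), h.meq1.2 k8, mul_one, r])
    rw [← this, show d.1 * (d.1⁻¹ * e 1 * d.1⁻¹⁻¹) * d.1⁻¹ = e 1 by group] at d2
    exact absurd (h.inj _ (by decide) _ (by decide) d2) (by decide)

end H07.Wg
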