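import Cfsg.Agent.H07.W2
import Cfsg.Agent.S0213
import Cfsg.Agent.H19.M12d

/-! Groups with an involution centraliser `2^{1+4}.S3` (namespace `H07.Wg`): type `M12`, `typeM`. -/

set_option autoImplicit false
set_option maxRecDepth 100000
set_option synthInstance.maxSize 4096

namespace H07.Wg
open H13 H14.PK H27.PKx L.DC Subgroup Cfsg Equiv

variable {G : Type*} [Group G]

theorem zp_comm {p q z : G} (p2 : p * p = 1) (q2 : q * q = 1) (z2 : z * z = 1) (m : z ∈ zpowers (p * q)) :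
    p * z = z * p ∧ q * z = z * q := by
  obtain ⟨n, rfl⟩ := m
  constructor <;> rw [← mul_inv_eq_iff_eq_mul, ← conj_zpow]
  · rw [H08.conj_mul_left p2 q2, inv_zpow, inv_self z2]
  · rw [H08.conj_mul_right p2 q2, inv_zpow, inv_self z2]

theorem sq_of_conj {x y : G} (c : IsConj x y) (x2 : x * x = 1) : y * y = 1 := by
  obtain ⟨g, rfl⟩ := isConj_iff.1 c; exact cj_sq x2

theorem ne_of_conj {x y : G} (c : IsConj x y) (x1 : x ≠ 1) : y ≠ 1 := fun r => x1 (isConj_one_left.1 (r ▸ c))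

theorem gen {N : ℕ} {mu : ℕ → ℕ → ℕ} {iv : ℕ → ℕ} {e : ℕ → G} (h : CG N mu iv e) {K : Subgroup G} {l : List ℕ}
    (hl : ∀ a ∈ l, e a ∈ K) (t : ∀ b < N, b = 0 ∨ ∃ a ∈ l, ∃ c < b, mu c a = b) : h.sub ≤ K := fun x hx => by
  obtain ⟨b, hb, rfl⟩ := h.mem.1 hx
  clear hx
  induction b using Nat.strong_induction_on with
  | _ b ih =>
    rcases t b hb with rfl | ⟨a, ha, c, hc, rfl⟩
    · exact h.zero ▸ one_mem K
    · exact h.mul c a ▸ mul_mem (ih c hc (hc.trans hb)) (hl a ha)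

/-- even involutions -/
abbrev EI {n : ℕ} (P : Perm (Fin n)) : Prop := P * P = 1 ∧ P ≠ 1 ∧ Perm.sign P = 1

variable [Finite G]

theorem cntT {n : ℕ} (k1 : ∀ P Q : Perm (Fin n), P * P = 1 → Q * Q = 1 → P ≠ 1 → Q ≠ 1 → Perm.sign P = Perm.sign Q → IsConj P Q)
    (k2 : ∀ P : Perm (Fin n), P ^ 60 = 1) {s t b : G} {φ : centralizer ({t} : Set G) →* Perm (Fin n)} (su : Function.Surjective φ)
    (ke : ∀ x, φ x = 1 ↔ x.1 = 1 ∨ x.1 = t) (s2 : s * s = 1) (t2 : t * t = 1) (s1 : s ≠ 1) (t1 : t ≠ 1) (nc : ¬ IsConj s t)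
    (sC : s ∈ centralizer {t}) (bC : b ∈ centralizer {t}) (bt : b ≠ t) (cs : IsConj t (s * t)) (cb : IsConj t b) (cb' : IsConj t (b * t))
    (sg : Perm.sign (φ ⟨s, sC⟩) = 1) : Nat.card {p : G × G // IsConj s p.1 ∧ IsConj t p.2 ∧ t ∈ zpowers (p.1 * p.2)} =
      (Finset.univ.filter fun p : {P : Perm (Fin n) // EI P} × {P : Perm (Fin n) // EI P} => (p.1.1 * p.2.1) ^ 15 = 1).card := by
  have eq : ∀ {x y}, φ x = φ y → y.1 = x.1 ∨ y.1 = x.1 * t := fun {x y} r => by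
    rcases (ke (x⁻¹ * y)).1 (by rw [map_mul, map_inv, r, inv_mul_cancel]) with k | k
    exacts [.inl (inv_mul_eq_one.1 k).symm, .inr (inv_mul_eq_iff_eq_mul.1 k)]
  have cj' : ∀ {x y}, IsConj (φ x) (φ y) → ∃ z, φ z = φ y ∧ IsConj x.1 z.1 ∧ IsConj (x.1 * t) (z.1 * t) := fun {x y} c => by
    obtain ⟨g, r⟩ := isConj_iff.1 c
    obtain ⟨g, rfl⟩ := su g
    refine ⟨g * x * g⁻¹, by rw [map_mul, map_mul, map_inv, r], isConj_iff.2 ⟨g, rfl⟩, isConj_iff.2 ⟨g, ?_⟩⟩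
    rw [← conj_mul, mul_inv_eq_iff_eq_mul.2 (mem_centralizer_singleton_iff.1 g.2)]; rfl
  have sq : ∀ {x}, x.1 * x.1 = 1 → φ x * φ x = 1 := fun r => by rw [← map_mul, (ke _).2 (.inl r)]
  have n1 : ∀ {x}, IsConj s x.1 → φ x ≠ 1 := fun c r => ((ke _).1 r).elim (ne_of_conj c s1) fun r => nc (r ▸ c)
  have b1 : φ ⟨b, bC⟩ ≠ 1 := fun r => ((ke _).1 r).elim (ne_of_conj cb t1) bt
  have sb : Perm.sign (φ ⟨b, bC⟩) ≠ 1 := fun r => by
    obtain ⟨z, z1, z2, -⟩ := cj' (k1 _ _ (sq s2) (sq (sq_of_conj cb t2)) (n1 (.refl _)) b1 (sg.trans r.symm))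
    rcases eq z1.symm with k | k
    exacts [nc (z2.trans (k ▸ cb.symm)), nc (z2.trans (k ▸ cb'.symm))]
  have od : ∀ {x}, φ x * φ x = 1 → φ x ≠ 1 → Perm.sign (φ x) ≠ 1 → IsConj t x.1 := fun x2 x1 r => by
    obtain ⟨z, z1, z2, z3⟩ := cj' (k1 _ _ (sq (sq_of_conj cb t2)) x2 b1 x1 (by
      rw [Int.units_ne_iff_eq_neg.1 sb, Int.units_ne_iff_eq_neg.1 r]))
    rcases eq z1 with k | k
    exacts [k ▸ cb.trans z2, k ▸ cb'.trans z3]
  have ev : ∀ P : {P : Perm (Fin n) // EI P}, ∃ z, φ z = P ∧ IsConj s z.1 ∧ IsConj t (z.1 * t) := fun P => by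
    obtain ⟨y, r⟩ := su P.1
    obtain ⟨z, z1, z2, z3⟩ := cj' (y := y) (k1 _ _ (sq s2) (r ▸ P.2.1) (n1 (.refl _)) (r ▸ P.2.2.1) (sg.trans (r ▸ P.2.2.2).symm))
    exact ⟨z, z1.trans r, z2, cs.trans z3⟩
  choose f f1 f2 f3 using ev
  have tC : t ∈ centralizer {t} := mem_centralizer_singleton_iff.2 rfl
  have ft : ∀ x, φ (x * ⟨t, tC⟩) = φ x := fun x => by rw [map_mul, (ke ⟨t, tC⟩).2 (.inr rfl), mul_one]
  have mem : ∀ P Q : {P : Perm (Fin n) // EI P}, (P.1 * Q.1) ^ 15 = 1 → t ∈ zpowers ((f P).1 * ((f Q).1 * t)) := fun P Q r => by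
    rcases (ke ((f P * (f Q * ⟨t, tC⟩)) ^ 15)).1 (by rw [map_pow, map_mul, ft, f1, f1, r]) with k | k
    · exact absurd ((H08.even_orderOf_mul_of_not_isConj (sq_of_conj (f2 _) s2) (sq_of_conj (f3 _) t2) fun c =>
        nc (((f2 _).trans c).trans (f3 _).symm)).two_dvd.trans (orderOf_dvd_of_pow_eq_one k)) (by decide)
    · exact ⟨(15 : ℕ), (zpow_natCast _ _).trans k⟩
  rw [← Nat.card_eq_finsetCard]
  refine (Nat.card_congr (Equiv.ofBijective (fun p => ⟨((f p.1.1).1, (f p.1.2).1 * t), f2 _, f3 _,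
    mem _ _ (Finset.mem_filter.1 p.2).2⟩) ⟨fun p q r => ?_, ?_⟩)).symm
  · obtain ⟨a, b⟩ := Prod.mk.inj (congrArg Subtype.val r)
    refine Subtype.ext (Prod.ext (Subtype.ext ?_) (Subtype.ext ?_)) <;> rw [← f1, ← f1]
    exacts [congrArg φ (Subtype.ext a), congrArg φ (Subtype.ext (mul_right_cancel b))]
  · rintro ⟨⟨p, q⟩, c1, c2, c3⟩
    have p2 := sq_of_conj c1 s2
    have q2 := sq_of_conj c2 t2
    obtain ⟨a1, a2⟩ := zp_comm p2 q2 t2 c3
    lift p to centralizer ({t} : Set G) using mem_centralizer_singleton_iff.2 a1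
    lift q to centralizer ({t} : Set G) using mem_centralizer_singleton_iff.2 a2
    have e1 : EI (φ p) := ⟨sq p2, n1 c1, by_contra fun r => nc (c1.trans (od (sq p2) (n1 c1) r).symm)⟩
    have inv : ∀ m, φ ((p * q) ^ m) * φ ((p * q) ^ m) = 1 → φ ((p * q) ^ m) = 1 := fun m r => by_contra fun r1 => by
      refine r1 ((ke _).2 (.inr (Agent.S0213.eq_of_invols_zpowers (npow_mem_zpowers (p.1 * q.1) m) c3 (ord2 ?_ fun k =>
        r1 ((ke _).2 (.inl k))) (ord2 t2 t1))))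
      by_cases g : Perm.sign (φ ((p * q) ^ m)) = 1
      · rcases eq (f1 ⟨_, r, r1, g⟩) with k | k
        exacts [sq_of_conj (k ▸ f2 _) s2, sq_of_conj (k ▸ f3 _) t2]
      · exact sq_of_conj (od r r1 g) t2
    have e3 : (φ p * φ q) ^ 15 = 1 := by
      have := inv 30 (by rw [← map_mul, ← pow_add, map_pow, k2])
      rw [← map_mul, ← map_pow]
      exact inv 15 (by rwa [← map_mul, ← pow_add])
    have e2 : EI (φ q) := ⟨sq q2, fun r => e1.2.1 (by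
      rwa [r, mul_one, show 15 = 2 * 7 + 1 from rfl, pow_succ, pow_mul, pow_two, e1.1, one_pow, one_mul] at e3), by
      have := congrArg Perm.sign e3
      rwa [map_pow, map_mul, e1.2.2, one_mul, map_one, show 15 = 2 * 7 + 1 from rfl, pow_succ, pow_mul, Int.units_sq, one_pow, one_mul] at this⟩
    refine ⟨⟨(⟨_, e1⟩, ⟨_, e2⟩), Finset.mem_filter.2 ⟨Finset.mem_univ _, e3⟩⟩, Subtype.ext (Prod.ext ?_ ?_)⟩
    · exact ((eq (f1 ⟨_, e1⟩)).resolve_right fun k => nc (c1.trans (k ▸ (f3 _).symm))).symm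
    · exact ((eq (f1 ⟨_, e2⟩)).resolve_left fun k => nc ((f2 _).trans (k ▸ c2.symm))).symm

theorem k14 : ∀ P Q : Perm (Fin 4), P * P = 1 → Q * Q = 1 → P ≠ 1 → Q ≠ 1 → Perm.sign P = Perm.sign Q → ∃ g, g * P * g⁻¹ = Q := by
  decide +kernel

theorem k15 : ∀ P : Perm (Fin 5), P * P = 1 → P ≠ 1 → ∃ g, g * P * g⁻¹ = if Perm.sign P = 1 then swap 0 1 * swap 2 3 else swap 0 1 := by
  decide +kernel

theorem k24 : ∀ P : Perm (Fin 4), P ^ 60 = 1 := by decide +kernel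
theorem k25 : ∀ P : Perm (Fin 5), P ^ 60 = 1 := by decide +kernel

theorem k34 : (Finset.univ.filter fun p : {P : Perm (Fin 4) // EI P} × {P : Perm (Fin 4) // EI P} => (p.1.1 * p.2.1) ^ 15 = 1).card = 3 := by
  decide +kernel

theorem k35 : (Finset.univ.filter fun p : {P : Perm (Fin 5) // EI P} × {P : Perm (Fin 5) // EI P} => (p.1.1 * p.2.1) ^ 15 = 1).card = 195 := by
  decide +kernel

end H07.Wg
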