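import Cfsg.Agent.H07.W3

/-! Groups with an involution centraliser `2^{1+4}.S3` (namespace `H07.Wg`): type `M12`, `typeM`. -/

set_option autoImplicit false
set_option maxRecDepth 100000
set_option synthInstance.maxSize 4096

namespace H07.Wg
open H13 H14.PK H27.PKx L.DC Subgroup Cfsg Equiv

variable {G : Type*} [Group G] {e : ℕ → G}

/-- the conclusion with a normal subgroup of order eight -/
abbrev N8 (G : Type*) [Group G] : Prop := ∃ (N : Subgroup G) (_ : N.Normal), IsMulCommutative N ∧ (∀ n ∈ N, n ^ 2 = 1) ∧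
  Nat.card N = 8 ∧ Nonempty (G ⧸ N ≃* Matrix.ProjectiveSpecialLinearGroup (Fin 3) (ZMod 2))

/-- conjugates of `s` -/
def LS : List ℕ := [1, 2, 3, 8, 9, 10, 11, 96, 97, 98, 99, 120, 121, 122, 123, 128, 129, 138, 139, 150, 151, 156, 157, 160, 161, 166,
  167, 168, 169, 174, 175]

/-- conjugates of `t` -/
def LT : List ℕ := [4, 5, 12, 13, 16, 17, 18, 19, 20, 21, 30, 31]

theorem mc : (∀ a < 192, MM a a = 0 → a = 0 ∨ a ∈ LT ∨ a ∈ LS) ∧ (∀ a ∈ LT, a < 32 ∧ cj MM IM (get 12 CJM a) a = 16) ∧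
    ∀ a ∈ LS, a < 192 ∧ (a = 1 ∨ a ∈ EL ∧ cj MM IM (get 12 CJM a) a = 2 ∨ cj MM IM (get 12 CJM a) a = 96) := by decide +kernel

theorem ltM (h : Cen 192 MM IM e) {a : ℕ} (m : a ∈ LT) : IsConj (e 16) (e a) := (jc h.toCG _ (mc.2.1 a m).2).symm

theorem lsM (h : Cen 192 MM IM e) (c : IsConj (e 1) (e 2)) (d : IsConj (e 1) (e 96)) {a : ℕ} (m : a ∈ LS) : IsConj (e 1) (e a) := by
  rcases (mc.2.2 a m).2 with rfl | ⟨-, r⟩ | r
  exacts [.refl _, c.trans (jc h.toCG _ r).symm, d.trans (jc h.toCG _ r).symm]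

theorem nstM (h : Cen 192 MM IM e) : ¬ IsConj (e 1) (e 16) := fun c => by
  obtain ⟨r, r1, r2, v, v1, v2⟩ := h.back cokM c
  obtain rfl : r = 16 := by
    simp only [List.mem_cons, List.not_mem_nil, or_false] at r1
    obtain ⟨a, b, c, d⟩ := cnM
    rcases r1 with rfl | rfl | rfl | rfl <;> omega
  obtain ⟨a, a1, a2, a3⟩ := h.img v1 v2 (a := 2) (by decide +kernel)
  obtain ⟨b, b1, b2, b3⟩ := h.img v1 v2 (a := 4) (by decide +kernel)
  have : e b * e a = e 16 * (e a * e b) := by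
    rw [← a3, ← b3, ← v1, conj_mul, conj_mul, conj_mul, h.mul 2, h.meq.2 (by decide +kernel : MM 4 2 = MM 1 (MM 2 4))]
  rw [h.mul a, h.meq] at this
  exact (by decide +kernel : ∀ a < 192, MM a 16 = MM 16 a → ∀ b < 192, MM b 16 = MM 16 b → MM b a ≠ MM 16 (MM a b)) a a1 a2 b b1 b2 this

theorem back96 (h : Cen 192 MM IM e) (c : IsConj (e 1) (e 96)) : ∃ v, v * e 1 * v⁻¹ = e 96 ∧ v * e 96 * v⁻¹ = e 1 := by
  obtain ⟨r, r1, r2, v⟩ := h.back cokM c
  obtain rfl : r = 96 := by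
    simp only [List.mem_cons, List.not_mem_nil, or_false] at r1
    obtain ⟨a, b, c, d⟩ := cnM
    rcases r1 with rfl | rfl | rfl | rfl <;> omega
  exact v

theorem fuseM (h : Cen 192 MM IM e) (c : IsConj (e 1) (e 96)) : IsConj (e 1) (e 2) := by
  obtain ⟨v, v1, v2⟩ := back96 h c
  obtain ⟨b, b1, b2, b3⟩ := h.img v1 v2 (a := 2) (by decide +kernel)
  have k : IsConj (e 2) (e b) := isConj_iff.2 ⟨_, b3⟩
  have k' : IsConj (e 2) (e (MM 96 b)) := (jc h.toCG 4 (by decide +kernel : _ = MM 1 2)).trans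
    (isConj_iff.2 ⟨v, by rw [← h.mul, ← h.mul, ← conj_mul, v1, b3]⟩)
  rcases (by decide +kernel : ∀ b < 192, MM b 96 = MM 96 b → b = 0 ∨ b = 1 ∨ cj MM IM (get 12 CJM b) b = 96 ∨
    cj MM IM (get 12 CJM (MM 96 b)) (MM 96 b) = 96) b b1 b2 with rfl | rfl | r | r
  · exact (ne_of_conj k (mt (h.eq1 (by decide)).1 (by decide)) h.zero).elim
  exacts [k.symm, c.trans (k.trans (jc h.toCG _ r)).symm, c.trans (k'.trans (jc h.toCG _ r)).symm]

variable [Finite G]

section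
variable (h : Cen 192 MM IM e) (c : IsConj (e 1) (e 2)) (d : IsConj (e 1) (e 96))
include h c d

omit [Finite G] in
theorem tyS {x : G} (r : x * e 1 = e 1 * x) (k : IsConj (e 1) x) : ∃ a ∈ LS, e a = x := by
  obtain ⟨a, ha, rfl⟩ := (h.cen _).1 r
  rcases mc.1 a ha (h.meq1.1 (sq_of_conj k h.z2)) with rfl | m | m
  exacts [(ne_of_conj k h.z1 h.zero).elim, (nstM h (k.trans (ltM h m).symm)).elim, ⟨a, m, rfl⟩]

omit [Finite G] in
theorem tyT {x : G} (r : x * e 1 = e 1 * x) (k : IsConj (e 16) x) : ∃ a ∈ LT, e a = x := by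
  obtain ⟨a, ha, rfl⟩ := (h.cen _).1 r
  rcases mc.1 a ha (h.meq1.1 (sq_of_conj k (h.meq1.2 (by decide +kernel)))) with rfl | m | m
  exacts [(ne_of_conj k (mt (h.eq1 (by decide)).1 (by decide)) h.zero).elim, ⟨a, m, rfl⟩, (nstM h ((lsM h c d m).trans k.symm)).elim]

theorem hallM (x : G) (x2 : x * x = 1) (x1 : x ≠ 1) : IsConj (e 1) x ∨ IsConj (e 16) x := by
  obtain ⟨g, -, r, r1, r2⟩ := h.into qokM treeM cokM le_top (mem_top x) x2 x1
  have := (isConj_iff.2 ⟨g, r2⟩).symm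
  simp only [List.mem_cons, List.not_mem_nil, or_false] at r1
  rcases r1 with rfl | rfl | rfl | rfl
  exacts [.inl this, .inl (c.trans this), .inr this, .inl (d.trans this)]

theorem cntS : Nat.card {p : G × G // IsConj (e 1) p.1 ∧ IsConj (e 16) p.2 ∧ e 1 ∈ zpowers (p.1 * p.2)} = 240 := by
  rw [← (by decide +kernel : ((LS.toFinset ×ˢ LT.toFinset).filter fun p : ℕ × ℕ => ∃ k ∈ List.range 8, pr MM (List.replicate k (MM p.1 p.2)) = 1).card = 240),
    ← Nat.card_eq_finsetCard]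
  have m : ∀ {p : ℕ × ℕ}, p ∈ (LS.toFinset ×ˢ LT.toFinset).filter (fun p => ∃ k ∈ List.range 8, pr MM (List.replicate k (MM p.1 p.2)) = 1) ↔
      (p.1 ∈ LS ∧ p.2 ∈ LT) ∧ ∃ k ∈ List.range 8, pr MM (List.replicate k (MM p.1 p.2)) = 1 := by
    simp only [Finset.mem_filter, Finset.mem_product, List.mem_toFinset, implies_true]
  refine (Nat.card_congr (Equiv.ofBijective (fun p => ⟨(e p.1.1, e p.1.2), lsM h c d (m.1 p.2).1.1, ltM h (m.1 p.2).1.2,
    (m.1 p.2).2.elim fun k r => ⟨k, (zpow_natCast _ _).trans (by rw [h.mul, pw h.toCG, r.2])⟩⟩) ⟨fun p q r => ?_, ?_⟩)).symm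
  · obtain ⟨a, b⟩ := Prod.mk.inj (congrArg Subtype.val r)
    exact Subtype.ext (Prod.ext (h.inj _ (mc.2.2 _ (m.1 p.2).1.1).1 _ (mc.2.2 _ (m.1 q.2).1.1).1 a)
      (h.inj _ ((mc.2.1 _ (m.1 p.2).1.2).1.trans (by decide)) _ ((mc.2.1 _ (m.1 q.2).1.2).1.trans (by decide)) b))
  · rintro ⟨⟨p, q⟩, c1, c2, c3⟩
    obtain ⟨a1, a2⟩ := zp_comm (sq_of_conj c1 h.z2) (sq_of_conj c2 (h.meq1.2 (by decide +kernel))) h.z2 c3
    obtain ⟨a, a3, rfl⟩ := tyS h c d a1 c1
    obtain ⟨b, b3, rfl⟩ := tyT h c d a2 c2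
    refine ⟨⟨(a, b), m.2 ⟨⟨a3, b3⟩, ?_⟩⟩, rfl⟩
    rcases (by decide +kernel : ∀ a ∈ LS, ∀ b ∈ LT, (∃ k ∈ List.range 8, pr MM (List.replicate k (MM a b)) = 1) ∨
      ∃ n ∈ [2, 4], pr MM (List.replicate n (MM a b)) = 0 ∧ ∀ k < n, pr MM (List.replicate k (MM a b)) ≠ 1) a a3 b b3 with r | ⟨n, n1, n2, n3⟩
    · exact r
    obtain ⟨k, hk⟩ := mem_powers_iff_mem_zpowers.2 c3
    simp only at hk
    rw [pow_eq_pow_mod k (show (e a * e b) ^ n = 1 by rw [h.mul, pw h.toCG, n2, h.zero]), h.mul, pw h.toCG] at hk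
    exact (n3 _ (Nat.mod_lt _ (by simp at n1; omega)) (h.inj _ (by
      cases k % n <;> [exact h.pos; exact h.mu_lt _ _]) _ (by decide) hk)).elim

theorem bigM : 79 * 192 ≤ Nat.card G := by
  classical
  obtain ⟨v, v1, v2⟩ := back96 h d
  let L := LS.filter fun a => MM a 96 ≠ MM 96 a
  have mL : ∀ {a}, a ∈ L → a ∈ LS ∧ e a * e 96 ≠ e 96 * e a := fun m => by
    simpa [L, h.meq] using m
  have k : ∀ {w x : G}, w * e 1 * w⁻¹ = x → w * e 96 * w⁻¹ = e 1 → ∀ y ∈ L.map fun a => w * e a * w⁻¹,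
      IsConj (e 1) y ∧ y * x = x * y ∧ y * e 1 ≠ e 1 * y := fun {w x} w1 w2 y m => by
    obtain ⟨a, m', rfl⟩ := List.mem_map.1 m
    exact ⟨(lsM h c d (mL m').1).trans (H08.isConj_conj _ _), w1 ▸ cj_comm (h.zc a), fun r => (mL m').2 (by
      rw [← w2, conj_mul, conj_mul] at r; simpa using r)⟩
  have nd : ∀ w : G, (L.map fun a => w * e a * w⁻¹).Nodup := fun w => (List.nodup_map_iff_inj_on (List.Nodup.filter _ (by decide))).2
    fun a ha b hb r => h.inj _ (mc.2.2 _ (mL ha).1).1 _ (mc.2.2 _ (mL hb).1).1 (by simpa using r)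
  have k1 := k v1 v2
  have k2 := k (w := e 24 * v) (x := e 97) (by rw [← jj h.toCG (by decide +kernel : cj MM IM 24 96 = 97), ← v1]; group)
    (by rw [← jj h.toCG (by decide +kernel : cj MM IM 24 1 = 1), ← v2]; group)
  have nd' : (LS.map e ++ ((L.map fun a => v * e a * v⁻¹) ++ L.map fun a => e 24 * v * e a * (e 24 * v)⁻¹)).Nodup := by
    refine List.Nodup.append ((List.nodup_map_iff_inj_on (by decide)).2 fun a ha b hb r =>
      h.inj _ (mc.2.2 _ ha).1 _ (mc.2.2 _ hb).1 r) ((nd _).append (nd _) fun y p q => (k1 y p).2.2 ?_) fun y p q => ?_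
    · rw [← mm h.toCG (by decide +kernel : MM 96 97 = 1), ← mul_assoc, (k1 y p).2.1, mul_assoc, (k2 y q).2.1, mul_assoc]
    · obtain ⟨a, -, rfl⟩ := List.mem_map.1 p
      exact (List.mem_append.1 q).elim (fun q => (k1 _ q).2.2 (h.zc a)) fun q => (k2 _ q).2.2 (h.zc a)
  rw [← ncard_cls (e 1), h.card_cen]
  refine Nat.mul_le_mul_right _ (le_trans (le_of_eq ?_) (((List.toFinset_card_of_nodup nd').symm.trans
    (Set.ncard_coe_finset _).symm).trans_le (Set.ncard_le_ncard (fun y m => ?_))))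
  · simp only [List.length_append, List.length_map, L]
    decide +kernel
  · simp only [List.coe_toFinset, Set.mem_ofPred_eq, List.mem_append] at m
    rcases m with m | m | m
    · obtain ⟨a, m', rfl⟩ := List.mem_map.1 m; exact lsM h c d m'
    exacts [(k1 y m).1, (k2 y m).1]

theorem simM : IsSimpleGroup G := by
  have : Nontrivial G := ⟨_, _, h.z1⟩
  have : Fact (Nat.Prime 2) := ⟨Nat.prime_two⟩
  refine ⟨fun N n => ?_⟩
  rcases Nat.even_or_odd (Nat.card N) with o | o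
  · obtain ⟨⟨x, hx⟩, x2⟩ := exists_prime_orderOf_dvd_card' 2 o.two_dvd
    rw [orderOf_mk] at x2
    have m : ∀ {x y}, IsConj x y → x ∈ N → y ∈ N := fun c p => by obtain ⟨g, rfl⟩ := isConj_iff.1 c; exact n.conj_mem _ p g
    have s : e 1 ∈ N := by
      rcases hallM h c d x (H08.mul_self_of_orderOf x2) (by rintro rfl; simp at x2) with r | r
      · exact m r.symm hx
      · exact mm h.toCG (by decide +kernel : MM 16 17 = 1) ▸ mul_mem (m r.symm hx) (m (ltM h (by decide)) (m r.symm hx))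
    have HN : h.sub ≤ N := gen h.toCG (l := [1, 2, 4, 8, 16, 32, 96]) (fun a ha => by
      obtain ⟨x, x1, y, y1, z, z1, rfl⟩ := (by decide +kernel : ∀ a ∈ [1, 2, 4, 8, 16, 32, 96], ∃ x ∈ LS, ∃ y ∈ LS, ∃ z ∈ LS,
        MM (MM x y) z = a) a ha
      rw [← h.mul, ← h.mul]
      exact mul_mem (mul_mem (m (lsM h c d x1) s) (m (lsM h c d y1) s)) (m (lsM h c d z1) s)) (by decide +kernel)
    obtain ⟨T, hT⟩ := H26.exists_isSyl 2 h.sub
    obtain ⟨t1, t2, t3⟩ := h.syl qokM treeM hT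
    refine .inr (eq_top_iff.2 fun g hg => ?_)
    obtain ⟨k, k1, y, y1, rfl⟩ := (t1.mono (hT.le.trans HN) le_top).frattini (normalizer_eq_top N).ge hg
    refine mul_mem k1 (HN (h.mem.2 ?_))
    rcases t3 _ ((mem_normalizer_iff.1 y1 _).1 (t2 1 (by decide))) (fun z hz => by
      have := cj_comm (g := y) (h.mem.1 (hT.le ((mem_normalizer_iff''.1 y1 z).1 hz)))
      rw [show y * (y⁻¹ * z * y) * y⁻¹ = z by group] at this
      exact this.symm) with r | r
    exacts [(h.z1 (conj_eq_one_iff.1 r)).elim, mul_inv_eq_iff_eq_mul.1 r]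
  · have f : ∀ {a}, IsConj (e 1) a → ∀ x ∈ N, a * x = x * a → x = 1 := fun c x hx r => by
      obtain ⟨g, rfl⟩ := isConj_iff.1 c
      obtain ⟨a, ha, k⟩ := (h.cen (g⁻¹ * x * g⁻¹⁻¹)).1 (by
        have := cj_comm (g := g⁻¹) r
        rw [show g⁻¹ * (g * e 1 * g⁻¹) * g⁻¹⁻¹ = e 1 by group] at this
        exact this.symm)
      have m : e a ∈ N := k ▸ n.conj_mem _ hx _
      rcases (by decide +kernel : ∀ a < 192, a = 0 ∨ ∃ b ∈ [a, MM (cj MM IM 2 a) (IM a), MM (cj MM IM 16 a) (IM a)], b ≠ 0 ∧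
        MM (MM b b) (MM b b) = 0) a ha with rfl | ⟨b, b1, b2, b3⟩
      · exact conj_eq_one_iff.1 (k.symm.trans h.zero)
      have : e b ∈ N ∧ b < 192 := by
        simp only [List.mem_cons, List.not_mem_nil, or_false] at b1
        rcases b1 with rfl | rfl | rfl
        · exact ⟨m, ha⟩
        all_goals exact ⟨by rw [← h.mul, ← h.cj, ← h.inv]; exact mul_mem (n.conj_mem _ m _) (inv_mem m), h.mu_lt _ _⟩
      refine (b2 ((h.eq1 this.2).1 ((pow_one _).symm.trans (odd_part (k := 2) o (congrArg Subtype.val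
        (pow_card_eq_one' (x := (⟨_, this.1⟩ : N)))) ?_)))).elim
      rw [show 2 ^ 2 * 1 = 2 * 2 from rfl, pow_mul, pow_two, pow_two, h.mul, h.meq1, b3]
    refine .inl (eq_bot_iff.2 fun x hx => f (lsM h c d (a := 3) (by decide)) x hx ?_)
    rw [← mm h.toCG (by decide +kernel : MM 1 2 = 3)]
    exact odd_four o h.z2 (sq_of_conj c h.z2) (fun x p => n.conj_mem _ p _) (fun x p => n.conj_mem _ p _) (f (.refl _)) (f c) x hx

theorem mainM {g : G} (g1 : g * e 1 * g⁻¹ = e 2) (g2 : g * e 16 * g⁻¹ = e 16) : Spor.IsoM12 G := by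
  have t2 : e 16 * e 16 = 1 := h.meq1.2 (by decide +kernel)
  have ne : ∀ {a b}, a < 192 → b < 192 → a ≠ b → e a ≠ e b := fun p q r => mt (h.inj _ p _ q) r
  have t1 : e 16 ≠ 1 := h.zero ▸ ne (by decide) (by decide) (by decide)
  have mV : ∀ {x}, x ∈ zpowers (e 16) ↔ x = 1 ∨ x = e 16 := fun {x} => by
    classical
    rw [mem_zpowers_iff_mem_range_orderOf, ord2 t2 t1]
    simp [Finset.range_add_one, eq_comm, or_comm]
  have mC : ∀ {a}, MM a 16 = MM 16 a → e a ∈ centralizer {e 16} := fun r => mem_centralizer_singleton_iff.2 (h.meq.2 r)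
  have nc := nstM h
  have lt := @ltM _ _ _ h
  have m1 : e 1 * e 16 = e 17 := mm h.toCG (by decide +kernel)
  have m4 : e 4 * e 16 = e 20 := mm h.toCG (by decide +kernel)
  have hz : e 2 * e 4 * (e 2 * e 4) = e 1 := by rw [h.mul]; exact mm h.toCG (by decide +kernel)
  obtain ⟨n, hn, φ, su, ke⟩ := quot45 (C := centralizer {e 16}) (V := zpowers (e 16)) (z := e 1) (fun g hg v hv => by
      rcases mV.1 hv with rfl | rfl
      exacts [by simp, mV.2 (.inr (mul_inv_eq_iff_eq_mul.2 (mem_centralizer_singleton_iff.1 hg)))])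
    (mC (a := 2) (by decide +kernel)) (mC (a := 4) (by decide +kernel)) (h.meq1.2 (by decide +kernel)) (h.meq1.2 (by decide +kernel)) h.z2
    (fun r => (mV.1 r).elim h.z1 (ne (by decide) (by decide) (by decide))) hz (fun x hx r => by
      have : x * e 1 = e 1 * x := by
        rcases mV.1 r with r | r
        · exact inv_mul_eq_one.1 r
        refine (nc (.trans (isConj_iff.2 ⟨x⁻¹, ?_⟩) (lt (a := 17) (by decide)).symm)).elim
        rw [← m1, ← r]; group
      obtain ⟨a, ha, rfl⟩ := (h.cen x).1 this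
      obtain ⟨i, -, j, -, r⟩ := (by decide +kernel : ∀ a < 192, MM a 16 = MM 16 a → ∃ i < 4, ∃ j < 2,
        MM (IM a) (MM (pr MM (List.replicate i (MM 2 4))) (pr MM (List.replicate j 2))) ∈ [0, 16]) a ha
        (h.meq.1 (mem_centralizer_singleton_iff.1 hx))
      refine ⟨i, j, ?_⟩
      rw [h.mul, pw h.toCG, pw h.toCG, h.inv, h.mul, h.mul, mV]
      simp only [List.mem_cons, List.not_mem_nil, or_false] at r
      rcases r with r | r <;> rw [r]
      exacts [.inl h.zero, .inr rfl])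
    ⟨g, mem_centralizer_singleton_iff.2 (mul_inv_eq_iff_eq_mul.1 g2), by rw [g1, inv_mul_cancel]; exact one_mem _⟩ fun g hg r => by
      rcases mV.1 r with r | r
      · exact nc ((isConj_iff.2 ⟨g, inv_mul_eq_one.1 r⟩).trans (lt (by decide)).symm)
      · refine nc ((isConj_iff.2 ⟨g, ?_⟩).trans (lt (a := 20) (by decide)).symm)
        rw [← m4, inv_mul_eq_iff_eq_mul.1 r, mul_assoc _ (e 16), t2, mul_one]
  have cC : Nat.card (centralizer ({e 16} : Set G)) = 2 * n.factorial := by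
    have := φ.ker.card_mul_index
    rw [index_ker, MonoidHom.range_eq_top.2 su, card_top, Nat.card_perm, Nat.card_fin, show φ.ker = zpowers ⟨e 16, mC rfl⟩ from
      Subgroup.ext fun x => (ke x).trans (by rw [← mem_map_iff_mem (subtype_injective _), MonoidHom.map_zpowers]; rfl),
      Nat.card_zpowers, orderOf_mk, ord2 t2 t1] at this
    exact this.symm
  have T := fun k1 k2 => cntT k1 k2 su (fun x => (ke x).trans mV) h.z2 t2 h.z1 t1 nc (mC (by decide +kernel)) (mC (a := 4) (by decide +kernel))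
    (ne (by decide) (by decide) (by decide)) (m1 ▸ lt (by decide)) (lt (by decide)) (m4 ▸ lt (by decide)) (by
      rw [show (⟨e 1, _⟩ : centralizer ({e 16} : Set G)) = ⟨e (MM 2 4), mC (by decide +kernel)⟩ * ⟨e (MM 2 4), mC (by decide +kernel)⟩ from
        Subtype.ext (h.mul 2 4 ▸ hz.symm), map_mul, map_mul, Int.units_mul_self])
  have o := Agent.S0213.result (e 1) (e 16) (ord2 h.z2 h.z1) (ord2 t2 t1) nc fun x r =>
    hallM h c d x (H08.mul_self_of_orderOf r) (by rintro rfl; simp at r)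
  rw [cntS h c d, cC, h.card_cen] at o
  rcases hn with rfl | rfl
  · rw [T (fun P Q a b c d e => isConj_iff.2 (k14 P Q a b c d e)) k24, k34] at o
    exact absurd (o ▸ bigM h c d) (by decide)
  · rw [T (fun P Q a b c d e => by
      obtain ⟨g, r⟩ := k15 P a c
      obtain ⟨g', r'⟩ := k15 Q b d
      exact (isConj_iff.2 ⟨g, r⟩).trans (isConj_iff.2 ⟨g', e ▸ r'⟩).symm) k25, k35] at o
    have := simM h c d
    exact H19.isoM12_of_simple o

end

theorem typeM (h : Cen 192 MM IM e) (c : IsConj (e 1) (e 2)) : N8 G ∨ Spor.IsoM12 G := by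
  obtain ⟨r, r1, r2, u, u1, u2⟩ := h.back cokM c
  obtain rfl : r = 2 := by
    simp only [List.mem_cons, List.not_mem_nil, or_false] at r1
    obtain ⟨a, b, c, d⟩ := cnM
    rcases r1 with rfl | rfl | rfl | rfl <;> omega
  obtain ⟨a, a1, a2, a3⟩ := h.img u1 u2 (a := 8) (by decide +kernel)
  obtain ⟨b, b1, b2, b3⟩ := h.img u1 u2 (a := 16) (by decide +kernel)
  have ka : IsConj (e 1) (e a) := (c.trans (jc h.toCG 32 (by decide +kernel))).trans (isConj_iff.2 ⟨_, a3⟩)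
  have kb : IsConj (e 16) (e b) := isConj_iff.2 ⟨_, b3⟩
  have k : MM b a = MM 2 (MM a b) := by
    rw [← h.meq, ← h.mul a, ← a3, ← b3, ← u1, conj_mul, conj_mul, conj_mul, h.mul 8,
      h.meq.2 (by decide +kernel : MM 16 8 = MM 1 (MM 8 16))]
  have ty : ∀ {a}, a < 192 → IsConj (e 1) (e a) → a ∈ EL ∨ IsConj (e 1) (e 96) := fun {a} ha k => by
    rcases mc.1 a ha (h.meq1.1 (sq_of_conj k h.z2)) with rfl | m | m
    · exact .inl (by decide)
    · exact (nstM h (k.trans (ltM h m).symm)).elim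
    rcases (mc.2.2 a m).2 with rfl | ⟨r, -⟩ | r
    exacts [.inl (by decide), .inl r, .inr (k.trans (jc h.toCG _ r))]
  have b4 := h.meq1.1 (sq_of_conj kb (h.meq1.2 (by decide +kernel)))
  by_cases d : IsConj (e 1) (e 96)
  · obtain ⟨b', m, r⟩ := tyT h c d (h.zc b) kb
    obtain rfl := h.inj _ ((mc.2.1 _ m).1.trans (by decide)) _ b1 r
    obtain ⟨r, -, r1, r2⟩ := (by decide +kernel : ∀ b ∈ LT, MM b 2 = MM 2 b → ∃ r < 192, cj MM IM r b = 16 ∧ cj MM IM r 2 = 2) _ m b2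
    exact .inr (mainM h c d (g := e r * u) (by rw [← jj h.toCG r2, ← u1]; group) (by nth_rw 2 [← jj h.toCG r1]; rw [← b3]; group))
  · have m := (ty a1 ka).resolve_right d
    exact .inl (normal8 h neM u1 u2 ⟨a, m, a3⟩ (fun a p q => (ty p q).resolve_right d) (.inl (kb.trans (jc h.toCG _
      ((by decide +kernel : ∀ a ∈ EL, ∀ b < 192, MM b b = 0 → MM b a = MM 2 (MM a b) → cj MM IM (get 12 CJM b) b = 96) a m b b1 b4 k)))))

end H07.Wg
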