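import Cfsg.Agent.H07.W4

/-! Groups with an involution centraliser `2^{1+4}.S3` (namespace `H07.Wg`): alternating type, fusion; `Mn`, `typeA0`. -/

set_option autoImplicit false
set_option maxRecDepth 100000
set_option synthInstance.maxSize 4096

namespace H07.Wg
open H13 H14.PK H27.PKx L.DC Subgroup Cfsg Equiv

variable {G : Type*} [Group G] {e : ℕ → G} {u v : G}

theorem cc1 (g x y : G) : g * x * g⁻¹ * (g * y * g⁻¹) * (g * x * g⁻¹)⁻¹ = g * (x * y * x⁻¹) * g⁻¹ := by group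

theorem cc2 (g x y : G) : g * x * y * (g * x)⁻¹ = g * (x * y * x⁻¹) * g⁻¹ := by group

theorem Ind.comp {l m k : List ℕ} (a : Ind e u m k) (b : Ind e v l m) : Ind e (u * v) l k := fun i => by
  rw [mul_assoc, b, ← mul_assoc, a, mul_assoc]

theorem Ind.map {e' : ℕ → G} {ψ : ℕ → ℕ} (r : ∀ a, e' a = e (ψ a)) (z : ψ 0 = 0) {l m l' m' : List ℕ} (a : l.map ψ = l')
    (b : m.map ψ = m') : Ind e' u l m ↔ Ind e u l' m' := forall_congr' fun i => by
  have : ∀ l : List ℕ, nd 0 (l.map ψ) i = ψ (nd 0 l i) := fun l => by rw [nd_eq, nd_eq, ← List.getD_map l 0 ψ, z]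
  rw [r, r, ← a, ← b, this, this]

theorem nrm0 {N : ℕ} {mu : ℕ → ℕ → ℕ} {iv : ℕ → ℕ} (h : CG N mu iv e) {gs as l m : List ℕ} (I : Ind e u gs as) (WR : ℕ)
    (s : nrm mu iv WR gs as 0 0 l m = true) : Ind e u l m := by simpa [h.zero] using h.nrm I s

theorem im1 {N : ℕ} {mu : ℕ → ℕ → ℕ} {iv : ℕ → ℕ} (h : CG N mu iv e) {gs as : List ℕ} (I : Ind e u gs as) (WR : ℕ) {a b : ℕ}
    (s : alp mu gs as WR a (fun d => Nat.beq d b) = true) : u * e a * u⁻¹ = e b := by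
  obtain ⟨d, d1, d2⟩ := h.alp I s
  rw [d2, Nat.eq_of_beq_eq_true d1, mul_inv_cancel_right]

/-- the centraliser of `2` -/
def R1 : List ℕ := [0, 1, 2, 3, 8, 9, 10, 11, 16, 17, 18, 19, 24, 25, 26, 27, 96, 97, 98, 99, 104, 105, 106, 107, 112, 113, 114, 115,
  120, 121, 122, 123]

/-- generators and standard actions -/
abbrev G1 : List ℕ := [96, 16, 8, 2, 1]
abbrev aA : List ℕ := [16, 96, 8, 1, 2]
abbrev aB : List ℕ := [18, 97, 8, 1, 2]
abbrev G2 : List ℕ := [96, 2, 4, 16, 1]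
abbrev bA : List ℕ := [2, 96, 4, 1, 16]
abbrev GF : List ℕ := [1, 2, 16, 96]

theorem srA : srch MA (fun gs as => bor (bad 192 MA IA WR1 [([0, 0], [8, 16, 96]), ([0, 4, 4], [8, 16, 96])] gs as)
    (anyL (fun a => bor (nrm MA IA WR1 gs as a 0 G1 aA) (nrm MA IA WR1 gs as a 0 G1 aB)) [0, 8, 16, 24, 96, 104, 112, 120]))
    [(8, R1, [(9, 0), (1, 0), (1, 2), (1, 3), (17, 3)]), (16, R1, [(81, 34), (9, 0)]), (96, R1, [(89, 35), (9, 0)])] [2, 1] [1, 2] = true := by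
  decide +kernel

theorem std (h : Cen 192 MA IA e) (c : IsConj (e 1) (e 2)) : ∃ u, u * u = 1 ∧ (Ind e u G1 aA ∨ Ind e u G1 aB) := by
  obtain ⟨r, r1, r2, v, v1, v2⟩ := h.back cokA c
  obtain ⟨a, -, ha⟩ := (by decide +kernel : ∀ r ∈ [1, 2, 16, 18, 96, 97], cn 192 MA r = cn 192 MA 2 → ∃ a ∈ [4, 8],
    cj MA IA a r = MA r 1) r r1 r2
  have m3 : e 1 * e 2 = e 3 := mm h.toCG (by decide +kernel)
  have j := @jj _ _ _ _ _ _ h.toCG
  have w1 : v * e a * v⁻¹ * e 2 * (v * e a * v⁻¹)⁻¹ = e 2 := by rw [← v1, cc1, h.zc, mul_inv_cancel_right]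
  have w2 : v * e a * v⁻¹ * e 1 * (v * e a * v⁻¹)⁻¹ = e 3 := by
    rw [← v2, cc1, j ha, ← h.mul, ← conj_mul, v1, v2, m3]
  generalize v * e a * v⁻¹ = w at w1 w2
  have u1 : e 4 * w * e 4 * e 1 * (e 4 * w * e 4)⁻¹ = e 2 := by
    rw [cc2, j (by decide +kernel : _ = 1), cc2, w2, j (by decide +kernel : _ = 2)]
  have u2 : e 4 * w * e 4 * e 2 * (e 4 * w * e 4)⁻¹ = e 1 := by
    rw [cc2, j (by decide +kernel : _ = MA 1 2), cc2, ← h.mul, ← conj_mul (b := w), w1, w2, h.mul, j (by decide +kernel : _ = 1)]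
  generalize e 4 * w * e 4 = u at u1 u2
  have k : ∀ a, MA a 2 = MA 2 a → ∃ b ∈ R1, u * e a * u⁻¹ = e b := fun a r => by
    obtain ⟨b, b1, b2, b3⟩ := h.img u1 u2 r
    exact ⟨b, (by decide +kernel : ∀ b < 192, MA b 2 = MA 2 b → b ∈ R1) b b1 b2, b3⟩
  obtain ⟨gs, as, I, r⟩ := h.srch ((h.nil.cons u1).cons u2) (by
    simp only [List.forall_mem_cons]
    exact ⟨k 8 (by decide +kernel), k 16 (by decide +kernel), k 96 (by decide +kernel), fun _ r => nomatch r⟩) srA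
  obtain ⟨a, -, r⟩ := anyL_iff.1 ((bor_eq_true.1 r).resolve_left (h.bad I))
  have fx : ∀ {as u}, as = aA ∨ as = aB → Ind e u G1 as → ∃ u, u * u = 1 ∧ Ind e u G1 as := fun {as u} ha I => by
    obtain ⟨c, -, c1, c2⟩ := h.fixp I (WR := WR1) (a := 0) (k := 2) (ts := [2, 8, 16, 96]) (p := fun c => bor (Nat.beq c 0) (Nat.beq c 3))
      (by rcases ha with rfl | rfl <;> decide +kernel)
    rw [W_rep, h.zero, mul_one, pow_two] at c2
    rcases bor_eq_true.1 c1 with r | r <;> rw [Nat.eq_of_beq_eq_true r] at c2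
    · exact ⟨u, c2.trans h.zero, I⟩
    refine ⟨_, ?_, h.nrm I (WR := WR1) (a := 0) (r := 1) (by rcases ha with rfl | rfl <;> decide +kernel)⟩
    have : u * e 1 = e 2 * u := by rcases ha with rfl | rfl <;> exact I 4
    rw [h.zero, one_mul]
    nth_rw 1 [this]
    rw [mul_assoc, ← mul_assoc u, c2, h.mul, h.meq1]; decide +kernel
  rcases bor_eq_true.1 r with r | r
  · exact (fx (.inl rfl) (h.nrm I r)).imp fun _ r => ⟨r.1, .inl r.2⟩
  · exact (fx (.inr rfl) (h.nrm I r)).imp fun _ r => ⟨r.1, .inr r.2⟩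

theorem cube4 (h : Cen 192 MA IA e) (I : Ind e u G1 aA) : (u * e 4) ^ 3 = 1 := by
  obtain ⟨c, -, c1, c2⟩ := h.fixp I (WR := WR1) (a := 4) (k := 3) (ts := [2, 8, 16, 96]) (p := fun c => Nat.beq c 0) (by decide +kernel)
  rwa [W_rep, Nat.eq_of_beq_eq_true c1, h.zero] at c2

theorem cubeS (h : Cen 192 MA IA e) (I : Ind e u G1 aA) (u2 : u * u = 1) (n : ¬ IsConj (e 96) (e 18)) : (u * e 128) ^ 3 = 1 := by
  obtain ⟨c, -, c1, c2⟩ := h.fixp I (WR := WR1) (a := 128) (k := 3) (ts := [2, 8]) (p := fun c => bor (Nat.beq c 0) (Nat.beq c 11))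
    (by decide +kernel)
  rw [W_rep] at c2
  rcases bor_eq_true.1 c1 with r | r <;> rw [Nat.eq_of_beq_eq_true r] at c2
  · exact c2.trans h.zero
  have s2 : e 128 * e 128 = 1 := h.meq1.2 (by decide +kernel)
  have a : (u * e 128)⁻¹ * e 128 * (u * e 128)⁻¹⁻¹ = u * e 11 := by
    rw [← c2, inv_inv, _root_.mul_inv_rev, inv_self s2, inv_self u2, pow_three, ← mul_assoc u, ← mul_assoc u, u2]; group
  have b : u * e 4 * (u * e 11) * (u * e 4)⁻¹ = e 13 := by
    have := cube4 h I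
    have s4 : e 4 * e 4 = 1 := h.meq1.2 (by decide +kernel)
    rw [pow_three', ← mul_assoc, mul_eq_one_iff_eq_inv, inv_self s4] at this
    rw [← conj_mul, cc2 u _ (e 11), jj h.toCG (by decide +kernel : _ = 10), im1 h.toCG I WR1 (b := 9) (by decide +kernel),
      _root_.mul_inv_rev, inv_self s4, inv_self u2, ← mm h.toCG (by decide +kernel : MA 4 9 = 13), mul_left_inj]
    nth_rw 3 [← this]; group
  exact (n ((jc h.toCG (get 12 CJA 128) (by decide +kernel)).symm.trans ((isConj_iff.2 ⟨_, a⟩).trans ((isConj_iff.2 ⟨_, b⟩).trans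
    (jc h.toCG (get 12 CJA 13) (by decide +kernel)))))).elim

/-- the recoding -/
noncomputable abbrev psi (cs : List ℕ) (a : ℕ) : ℕ := pr MA ((wc 6 WTA a).map (nd 0 cs))

theorem rc [Finite G] (h : Cen 192 MA IA e) (cs : List ℕ) (ok : band (Nat.beq (nd 0 cs 0) 1)
    (allL (fun r => Nat.beq (MA (nd 0 cs r.1) (nd 0 cs r.2.1)) (pr MA (r.2.2.map (nd 0 cs)))) RUA) = true) :
    ∃ e' : ℕ → G, Cen 192 MA IA e' ∧ ∀ a, e' a = e (psi cs a) :=
  h.recode rfl twoA (Nat.eq_of_beq_eq_true (band_eq_true.1 ok).1) (band_eq_true.1 ok).2 zokA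

/-- the main configuration -/
structure Mn (e : ℕ → G) (u v : G) : Prop where
  h : Cen 192 MA IA e
  iu : Ind e u G1 aA
  iv : Ind e v G2 bA
  u2 : u * u = 1
  v2 : v * v = 1
  nc : ¬ IsConj (e 1) (e 18)
  u4 : (u * e 4) ^ 3 = 1
  v8 : (v * e 8) ^ 3 = 1
  us : (u * e 128) ^ 3 = 1
  vs : (v * e 128) ^ 3 = 1
  uv : (u * v) ^ 2 = 1

variable [Finite G]

theorem main0 (h : Cen 192 MA IA e) (I : Ind e u G1 aA) (u2 : u * u = 1) (c : IsConj (e 1) (e 16)) : ∃ v, Mn e u v := by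
  obtain ⟨e', h', r⟩ := rc h [1, 16, 8, 4, 2, 32, 64, 96] (by decide +kernel)
  have q : ∀ {a b}, psi [1, 16, 8, 4, 2, 32, 64, 96] a = b → e' a = e b := fun k => k ▸ r _
  have t : ∀ {v}, Ind e' v G1 aA ↔ Ind e v G2 bA := Ind.map r (by decide +kernel) (by decide +kernel) (by decide +kernel)
  obtain ⟨v, v2, J⟩ := std h' (by rwa [q (b := 1) (by decide +kernel), q (b := 16) (by decide +kernel)])
  have IF : ∀ {l m}, nrm MA IA WR1 G1 aA 0 0 l m = true → Ind e u l m := nrm0 h.toCG I WR1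
  rcases J with J | J
  swap
  · exact (h.bad (Ind.comp (IF (l := [16, 97, 1, 18]) (m := [96, 18, 2, 97]) (by decide +kernel)) (nrm0 h.toCG ((Ind.map r (by decide +kernel) (l' := G2)
      (m' := [18, 97, 4, 1, 16]) (by decide +kernel) (by decide +kernel)).1 J) WR2 (l := GF) (m := [16, 97, 1, 18]) (by decide +kernel)))
      (WR := WRF) (ls := [([0, 4, 8], [2, 16, 96])]) (by decide +kernel)).elim
  have J := t.1 J
  have nc : ¬ IsConj (e 1) (e 18) := fun d => by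
    obtain ⟨e'', h'', r'⟩ := rc h [1, 19, 4, 13, 16, 32, 64, 96] (by decide +kernel)
    obtain ⟨w, -, K | K⟩ := std h'' (by
      rw [r', r', (by decide +kernel : psi _ 1 = 1), (by decide +kernel : psi _ 2 = 19)]
      exact d.trans (jc h.toCG 4 (by decide +kernel)))
    · exact h.bad (Ind.comp (nrm0 h.toCG J WR2 (l := [19, 114, 96, 16]) (m := [113, 99, 2, 1]) (by decide +kernel)) (nrm0 h.toCG ((Ind.map r' (by decide +kernel)
        (l' := [96, 16, 13, 19, 1]) (m' := [16, 96, 13, 1, 19]) (by decide +kernel) (by decide +kernel)).1 K) WR4 (l := GF)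
        (m := [19, 114, 96, 16]) (by decide +kernel))) (WR := WRF) (ls := [([0, 8, 0], [2, 16, 96])]) (by decide +kernel)
    · exact h.bad (Ind.comp (IF (l := [19, 115, 97, 3]) (m := [99, 115, 18, 3]) (by decide +kernel)) (nrm0 h.toCG ((Ind.map r' (by decide +kernel)
        (l' := [96, 16, 13, 19, 1]) (m' := [3, 97, 13, 1, 19]) (by decide +kernel) (by decide +kernel)).1 K) WR4 (l := GF)
        (m := [19, 115, 97, 3]) (by decide +kernel))) (WR := WRF) (ls := [([0, 8, 12], [2, 16, 96])]) (by decide +kernel)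
  have n : ¬ IsConj (e 96) (e 18) := fun d => nc (c.trans (.trans (isConj_iff.2 ⟨u, mul_inv_eq_iff_eq_mul.2 (I 1)⟩) d))
  obtain ⟨v, v2, J, uv⟩ : ∃ v, v * v = 1 ∧ Ind e v G2 bA ∧ (u * v) ^ 2 = 1 := by
    have U := Ind.comp (IF (l := [16, 96, 1, 2]) (m := [96, 16, 2, 1]) (by decide +kernel)) (nrm0 h.toCG J WR2 (l := GF) (m := [16, 96, 1, 2]) (by decide +kernel))
    obtain ⟨c, -, c1, c2⟩ := h.fix U (WR := WRF) (l := List.replicate 2 0) (ts := [2, 16, 96]) (p := fun c => bor (bor (Nat.beq c 0)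
      (Nat.beq c 115)) (bor (alp MA G1 aA WR1 c fun d => band (Nat.blt d 192) (bn (Nat.beq d (IA c))))
        (alp MA G2 bA WR2 c fun d => band (Nat.blt d 192) (bn (Nat.beq d (IA c)))))) (by decide +kernel)
    rw [W_rep, h.zero, mul_one] at c2
    have k : ∀ {w gs as WR}, Ind e w gs as → w * e c = (e c)⁻¹ * w →
        ¬ alp MA gs as WR c (fun d => band (Nat.blt d 192) (bn (Nat.beq d (IA c)))) = true := fun I r s => by
      obtain ⟨d, d1, d2⟩ := h.alp I s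
      simp only [band_eq_true, bn_iff, Nat.beq_eq, Nat.blt_eq] at d1
      exact d1.2 (h.inj _ d1.1 _ (h.iv_lt _) (by rw [← h.inv]; exact mul_right_cancel (d2.symm.trans r)))
    simp only [bor_eq_true, Nat.beq_eq] at c1
    rcases c1 with (rfl | rfl) | r | r
    · exact ⟨v, v2, J, c2.trans h.zero⟩
    · refine ⟨_, ?_, h.nrm J (WR := WR2) (a := 0) (r := 17) (by decide +kernel), ?_⟩ <;> rw [h.zero, one_mul]
      · nth_rw 1 [mul_inv_eq_iff_eq_mul.1 (im1 h.toCG J WR2 (a := 17) (b := 17) (by decide +kernel))]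
        rw [mul_assoc, ← mul_assoc v, v2, one_mul, h.meq1]; decide +kernel
      · rw [pow_two, ← mul_assoc u]
        nth_rw 1 [mul_inv_eq_iff_eq_mul.1 (im1 h.toCG U WRF (a := 17) (b := 98) (by decide +kernel))]
        rw [mul_assoc, ← mul_assoc (u * v), ← pow_two, c2, h.mul, h.meq1]; decide +kernel
    · refine (k I ?_ r).elim
      rw [← c2, ← inv_pow, _root_.mul_inv_rev, inv_self u2, inv_self v2, pow_two, pow_two, ← mul_assoc, ← mul_assoc u, u2,
        mul_assoc _ (v * u), mul_assoc v u u, u2]; group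
    · refine (k J ?_ r).elim
      rw [← c2, ← inv_pow, _root_.mul_inv_rev, inv_self u2, inv_self v2, pow_two, pow_two]; group
  exact ⟨v, h, I, J, u2, v2, nc, cube4 h I, q (a := 4) (b := 8) (by decide +kernel) ▸ cube4 h' (t.2 J), cubeS h I u2 n,
    q (a := 128) (b := 128) (by decide +kernel) ▸ cubeS h' (t.2 J) v2 (by rwa [q (b := 96) (by decide +kernel), q (b := 18) (by decide +kernel)]), uv⟩

theorem typeA0 (h : Cen 192 MA IA e) (c : IsConj (e 1) (e 2) ∨ IsConj (e 1) (e 16) ∨ IsConj (e 1) (e 18)) :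
    N8 G ∨ ∃ (e : ℕ → G) (u v : G), Mn e u v := by
  obtain ⟨e, h, c⟩ : ∃ e : ℕ → G, Cen 192 MA IA e ∧ IsConj (e 1) (e 2) := by
    rcases c with c | c | c
    · exact ⟨e, h, c⟩
    · obtain ⟨e', h', r⟩ := rc h [1, 16, 8, 4, 2, 32, 64, 96] (by decide +kernel)
      exact ⟨e', h', by rwa [r, r, (by decide +kernel : psi _ 1 = 1), (by decide +kernel : psi _ 2 = 16)]⟩
    · obtain ⟨e', h', r⟩ := rc h [1, 19, 4, 13, 16, 32, 64, 96] (by decide +kernel)
      refine ⟨e', h', ?_⟩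
      rw [r, r, (by decide +kernel : psi _ 1 = 1), (by decide +kernel : psi _ 2 = 19)]
      exact c.trans (jc h.toCG 4 (by decide +kernel))
  obtain ⟨e, h, c, d⟩ : ∃ e : ℕ → G, Cen 192 MA IA e ∧ IsConj (e 1) (e 2) ∧ (IsConj (e 1) (e 18) → IsConj (e 1) (e 16)) := by
    by_cases d : IsConj (e 1) (e 18)
    · obtain ⟨e', h', r⟩ := rc h [1, 2, 13, 8, 19, 32, 64, 96] (by decide +kernel)
      refine ⟨e', h', ?_, fun _ => ?_⟩ <;> rw [r, r, (by decide +kernel : psi _ 1 = 1)]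
      · rwa [(by decide +kernel : psi _ 2 = 2)]
      · rw [(by decide +kernel : psi _ 16 = 19)]
        exact d.trans (jc h.toCG 4 (by decide +kernel))
    · exact ⟨e, h, c, fun r => (d r).elim⟩
  obtain ⟨e, h, d, u, u2, I⟩ : ∃ e : ℕ → G, Cen 192 MA IA e ∧ (IsConj (e 1) (e 18) → IsConj (e 1) (e 16)) ∧ ∃ u, u * u = 1 ∧
      Ind e u G1 aA := by
    obtain ⟨u, u2, I | I⟩ := std h c
    · exact ⟨e, h, d, u, u2, I⟩
    obtain ⟨e', h', r⟩ := rc h [1, 2, 4, 8, 16, 32, 64, 97] (by decide +kernel)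
    exact ⟨e', h', by
      rwa [r, r, r, (by decide +kernel : psi _ 1 = 1), (by decide +kernel : psi _ 18 = 18), (by decide +kernel : psi _ 16 = 16)], u, u2,
      (Ind.map r (by decide +kernel) (l' := [97, 16, 8, 2, 1]) (m' := [16, 97, 8, 1, 2]) (by decide +kernel) (by decide +kernel)).2
        (nrm0 h.toCG I WR1 (by decide +kernel))⟩
  by_cases c : IsConj (e 1) (e 16)
  · exact .inr ((main0 h I u2 c).elim fun v r => ⟨e, u, v, r⟩)
  have k : ∀ i, u * e (nd 0 G1 i) * u⁻¹ = e (nd 0 aA i) := fun i => mul_inv_eq_iff_eq_mul.2 (I i)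
  refine .inl (normal8 h neA (k 4) (k 3) ⟨8, by decide, k 2⟩ (fun a p q => ?_) (.inl (isConj_iff.2 ⟨u, k 1⟩)))
  rcases (by decide +kernel : ∀ a < 192, MA a a = 0 → a ∈ EL ∨ cj MA IA (get 12 CJA a) a ∈ [16, 18, 96, 97]) a p
    (h.meq1.1 (sq_of_conj q h.z2)) with r | r
  · exact r
  have q := q.trans (jc h.toCG (get 12 CJA a) rfl)
  simp only [List.mem_cons, List.not_mem_nil, or_false] at r
  rcases r with r | r | r | r <;> rw [r] at q
  exacts [(c q).elim, (c (d q)).elim, (c (q.trans (isConj_iff.2 ⟨u, k 0⟩))).elim,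
    (c (d (q.trans (isConj_iff.2 ⟨u, im1 h.toCG I WR1 (by decide +kernel)⟩)))).elim]

end H07.Wg
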