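import Cfsg.Agent.H07.W6

/-! Groups with an involution centraliser `2^{1+4}.S3` (namespace `H07.Wg`): from `A8` to `A9`; `Ph`, `Ph.eight`, `Ph.nine`. -/

set_option autoImplicit false
set_option maxRecDepth 100000
set_option synthInstance.maxSize 4096

namespace H07.Wg
open H13 H14.PK H27.PKx L.DC Subgroup Cfsg Equiv

variable {G : Type*} [Group G] {n : ℕ} {b t : G} {ψ : G → Perm (Fin n)} {x : ℕ → G}

/-- a symmetric quotient of the centraliser of `b` -/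
structure Ph (b t : G) (ψ : G → Perm (Fin n)) : Prop where
  b2 : b * b = 1
  b1 : b ≠ 1
  t2 : t * t = 1
  tb : Commute t b
  mul : ∀ {g h}, Commute g b → Commute h b → ψ (g * h) = ψ g * ψ h
  ker : ∀ {g}, Commute g b → (ψ g = 1 ↔ g = 1 ∨ g = b ∨ g = t ∨ g = t * b)
  sur : ∀ P, ∃ g, Commute g b ∧ ψ g = P
  nV : ∀ {g}, Commute g b → g * t * g⁻¹ = t ∨ g * t * g⁻¹ = t * b

theorem ccj {g h : G} (a : Commute g b) (c : Commute h b) : Commute (g * h * g⁻¹) b := (a.mul_left c).mul_left a.inv_left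

namespace Ph
variable (p : Ph b t ψ) {g h : G}
include p

theorem one : ψ 1 = 1 := (p.ker (.one_left _)).2 (.inl rfl)

theorem inv (a : Commute g b) : ψ g⁻¹ = (ψ g)⁻¹ := eq_inv_of_mul_eq_one_left (by rw [← p.mul a.inv_left a, inv_mul_cancel, p.one])

theorem pow (a : Commute g b) (k : ℕ) : ψ (g ^ k) = ψ g ^ k := by
  induction k with
  | zero => simpa using p.one
  | succ k ih => rw [pow_succ, pow_succ, p.mul (a.pow_left k) a, ih]

theorem cj (a : Commute g b) (c : Commute h b) : ψ (g * h * g⁻¹) = ψ g * ψ h * (ψ g)⁻¹ := by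
  rw [p.mul (a.mul_left c) a.inv_left, p.mul a c, p.inv a]

theorem pw1 (a : Commute g b) {k : ℕ} (r : g ^ k = 1) : ψ g ^ k = 1 := by rw [← p.pow a, r, p.one]

theorem eq (a : Commute g b) (c : Commute h b) (r : ψ g = ψ h) : h = g ∨ h = g * b ∨ h = g * t ∨ h = g * (t * b) := by
  simpa only [inv_mul_eq_iff_eq_mul, mul_one] using (p.ker (a.inv_left.mul_left c)).1 (by rw [p.mul a.inv_left c, p.inv a, r, inv_mul_cancel])

theorem conj (P : Perm (Fin n)) : Ph b t fun g => P * ψ g * P⁻¹ :=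
  ⟨p.b2, p.b1, p.t2, p.tb, fun a c => by rw [p.mul a c, conj_mul], fun a => conj_eq_one_iff.trans (p.ker a),
    fun Q => (p.sur (P⁻¹ * Q * P)).imp fun g r => ⟨r.1, by rw [r.2]; group⟩, p.nV⟩

theorem tb2 : t * b * (t * b) = 1 := by rw [p.tb.symm.mul_mul_mul_comm, p.t2, p.b2, one_mul]

theorem b3 (a : Commute g b) : (g * b) ^ 3 = g ^ 3 * b := by rw [a.mul_pow, pow_three b, p.b2, mul_one]

theorem ord3 (a : Commute g b) (r : g ^ 3 = 1) (k : ψ g = 1) : g = 1 := by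
  have : g * g = 1 := by
    rcases (p.ker a).1 k with rfl | rfl | rfl | rfl
    exacts [one_mul 1, p.b2, p.t2, p.tb2]
  rwa [pow_three, this, mul_one] at r

theorem odd' (a : Commute g b) (o : g * t * g⁻¹ = t * b) : g * (t * b) * g⁻¹ = t := by
  rw [← conj_mul, o, a.eq, mul_inv_cancel_right, mul_assoc, p.b2, mul_one]

theorem oddc (a : Commute g b) (c : Commute h b) (o : h * t * h⁻¹ = t * b) : g * h * g⁻¹ * t * (g * h * g⁻¹)⁻¹ = t * b := by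
  have k : ∀ {s}, g⁻¹ * t * g⁻¹⁻¹ = s → h * s * h⁻¹ = s * b → g * h * g⁻¹ * t * (g * h * g⁻¹)⁻¹ = t * b := fun r s => by
    rw [cc2, r, cc2, s, ← r, mul_assoc g, mul_assoc, ← a.inv_left.eq]; group
  rcases p.nV a.inv_left with r | r
  exacts [k r o, k r (by rw [p.odd' c o, mul_assoc, p.b2, mul_one])]

theorem vb (a : Commute g b) (o : g * t * g⁻¹ = t * b) {v : G} (c : Commute v b) (k : ψ v = 1) (r : g * v * g⁻¹ = v⁻¹) : v = 1 ∨ v = b := by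
  rcases (p.ker c).1 k with rfl | rfl | rfl | rfl
  exacts [.inl rfl, .inr rfl, (p.b1 (by rwa [o, inv_self p.t2, mul_eq_left] at r)).elim,
    (p.b1 (by rwa [p.odd' a o, inv_self p.tb2, left_eq_mul] at r)).elim]

theorem uniq {y : G} (a : Commute g b) (c : Commute h b) (d : Commute y b) (r : ψ g = ψ h) (g2 : g * g = 1) (h2 : h * h = 1)
    (o : g * t * g⁻¹ = t * b) (g3 : (g * y) ^ 3 = 1) (h3 : (h * y) ^ 3 = 1) : h = g := by
  rcases p.vb a o (a.mul_left c) (by rw [p.mul a c, ← r, ← p.mul a a, g2, p.one]) (H08.conj_mul_left g2 h2) with k | k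
  · rw [← inv_self h2, ← inv_self g2, inv_inj, ← inv_self g2]; exact eq_inv_of_mul_eq_one_right k
  · rw [show h = g * b by rw [← k, ← mul_assoc, g2, one_mul], mul_assoc, ← d.eq, ← mul_assoc, p.b3 (a.mul_left d), g3, one_mul] at h3
    exact (p.b1 h3).elim

end Ph

theorem Ph.cover {ψ : G → Perm (Fin (n + 1))} (p : Ph b t ψ) {K : Subgroup G} (hb : b ∈ K) (ht : t ∈ K)
    (h : ∀ i : Fin n, ∃ y ∈ K, Commute y b ∧ ψ y = swap i.castSucc i.succ) {g : G} (a : Commute g b) : g ∈ K := by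
  obtain ⟨y, y1, y2, y3⟩ : ∃ y ∈ K, Commute y b ∧ ψ y = ψ g := by
    have h5 : ψ g ∈ Submonoid.closure (Set.range fun i : Fin n => swap i.castSucc i.succ) := by
      rw [Equiv.Perm.mclosure_swap_castSucc_succ]; trivial
    generalize ψ g = P at h5
    induction h5 using Submonoid.closure_induction with
    | mem y hy => obtain ⟨i, rfl⟩ := hy; exact h i
    | one => exact ⟨1, one_mem _, .one_left _, p.one⟩
    | mul a b _ _ ha hb =>
      obtain ⟨c, c1, c2, rfl⟩ := ha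
      obtain ⟨d, d1, d2, rfl⟩ := hb
      exact ⟨_, mul_mem c1 d1, c2.mul_left d2, p.mul c2 d2⟩
  rcases p.eq y2 a y3 with rfl | rfl | rfl | rfl
  exacts [y1, mul_mem y1 hb, mul_mem y1 ht, mul_mem y1 (mul_mem ht hb)]

theorem kn4 : ∀ P : Perm (Fin 4), P ^ 2 = 1 → ∀ Q, Q ^ 2 = 1 → (P * Q) ^ 3 = 1 → ∀ R, R ^ 2 = 1 → (Q * R) ^ 3 = 1 → (P * R) ^ 2 = 1 →
    P * R ≠ 1 → ∃ g, g * P * g⁻¹ = swap 0 1 ∧ g * Q * g⁻¹ = swap 1 2 ∧ g * R * g⁻¹ = swap 2 3 := by decide +kernel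

theorem kn5 : ∀ P ∈ [swap (0 : Fin 5) 1, swap 0 1 * swap 2 3], ∀ Q, Q ^ 2 = 1 → (P * Q) ^ 3 = 1 → ∀ R, R ^ 2 = 1 → (Q * R) ^ 3 = 1 →
    (P * R) ^ 2 = 1 → P * R ≠ 1 → ∃ g, g * P * g⁻¹ = swap 0 1 ∧ g * Q * g⁻¹ = swap 1 2 ∧ g * R * g⁻¹ = swap 2 3 := by decide +kernel

theorem kn5' (P : Perm (Fin 5)) (p : P ^ 2 = 1) (Q) (q : Q ^ 2 = 1) (a : (P * Q) ^ 3 = 1) (R) (r : R ^ 2 = 1) (c : (Q * R) ^ 3 = 1)
    (d : (P * R) ^ 2 = 1) (f : P * R ≠ 1) : ∃ g, g * P * g⁻¹ = swap 0 1 ∧ g * Q * g⁻¹ = swap 1 2 ∧ g * R * g⁻¹ = swap 2 3 := by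
  have k : ∀ {X : Perm (Fin 5)}, X ^ 2 = 1 → X ^ 3 = 1 → X = 1 := fun a b => by rwa [pow_succ, a, one_mul] at b
  obtain ⟨g, hg⟩ := k15 P (by rwa [← pow_two]) fun s => by
    rw [s, one_mul] at a f
    rw [k q a, one_mul] at c
    exact f (k r c)
  obtain ⟨l, hl⟩ := kn5 (g * P * g⁻¹) (by rw [hg]; split_ifs <;> simp) (g * Q * g⁻¹) (by simp [q]) (by simp [a]) (g * R * g⁻¹)
    (by simp [r]) (by simp [c]) (by simp [d]) (by simpa using f)
  exact ⟨l * g, by simpa only [cc2] using hl⟩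

theorem ku : ∀ P : Perm (Fin 5), P ^ 3 = 1 → (swap 1 2 * swap 2 3 * P) ^ 2 = 1 → (swap 0 1 * swap 2 3 * P) ^ 2 = 1 →
    P = swap 2 3 * swap 3 4 := by decide +kernel

theorem kv : ∀ P : Perm (Fin 5), P ^ 2 = 1 → P * swap 1 2 = swap 1 2 * P → (P * swap 0 3) ^ 3 = 1 →
    P = swap 0 3 ∨ P = swap 0 4 ∨ P = swap 3 4 := by decide +kernel

theorem kw : ∀ P : Perm (Fin 5), P ^ 3 = 1 → ∀ Q, Q ^ 3 = 1 → P * Q = Q * P → P = 1 ∨ Q = 1 ∨ P * Q = 1 ∨ P * Q * Q = 1 := by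
  decide +kernel

variable (m : Mo 7 x) (p : Ph (x 2) (x 1 * x 2 * (x 1)⁻¹) ψ)
include m p

omit p in
theorem Mo.i1 : (x 1)⁻¹ = x 1 * x 1 := by
  have := m.r 1 (by decide) 0 (by decide)
  rw [m.z, inv_one, one_mul, if_pos rfl, pow_three] at this
  exact inv_eq_of_mul_eq_one_right this

theorem Ph.wd (a b : List ℕ) (r : (∀ i ∈ a ++ b, i < 7) ∧ evalW pq a = evalW pq b) : evalW x a = evalW x b := (m.wd p.b1 a b r.1).2 r.2

theorem Ph.bas : ∀ j ∈ [4, 5, 6], x j * x j = 1 ∧ Commute (x j) (x 2) ∧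
    x j * (x 1 * x 2 * (x 1)⁻¹) * (x j)⁻¹ = x 1 * x 2 * (x 1)⁻¹ * x 2 := fun j hj => by
  obtain ⟨a, b, c⟩ := (by decide +kernel : ∀ j ∈ [4, 5, 6], ((∀ i ∈ [j, j] ++ [], i < 7) ∧ evalW pq [j, j] = evalW pq []) ∧
    ((∀ i ∈ [j, 2] ++ [2, j], i < 7) ∧ evalW pq [j, 2] = evalW pq [2, j]) ∧ (∀ i ∈ [j, 1, 2, 1, 1] ++ [1, 2, 1, 1, 2, j], i < 7) ∧
      evalW pq [j, 1, 2, 1, 1] = evalW pq [1, 2, 1, 1, 2, j]) j hj
  exact ⟨by simpa using p.wd m _ _ a, by simpa [commute_iff_eq] using p.wd m _ _ b, by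
    rw [mul_inv_eq_iff_eq_mul, m.i1]; simpa only [evalW_cons, evalW_nil, mul_one, mul_assoc] using p.wd m _ _ c⟩

theorem Ph.rels : ψ (x 4) ^ 2 = 1 ∧ ψ (x 5) ^ 2 = 1 ∧ (ψ (x 4) * ψ (x 5)) ^ 3 = 1 ∧ ψ (x 6) ^ 2 = 1 ∧ (ψ (x 5) * ψ (x 6)) ^ 3 = 1 ∧
    (ψ (x 4) * ψ (x 6)) ^ 2 = 1 ∧ ψ (x 4) * ψ (x 6) ≠ 1 := by
  obtain ⟨s4, c4, -⟩ := p.bas m 4 (by decide)
  obtain ⟨s5, c5, -⟩ := p.bas m 5 (by decide)
  obtain ⟨s6, c6, -⟩ := p.bas m 6 (by decide)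
  rw [← p.mul c4 c5, ← p.mul c5 c6, ← p.mul c4 c6]
  refine ⟨p.pw1 c4 ((pow_two _).trans s4), p.pw1 c5 ((pow_two _).trans s5), p.pw1 (c4.mul_left c5) (inv_self s4 ▸ m.r 5 (by decide) 4 (by decide)),
    p.pw1 c6 ((pow_two _).trans s6), p.pw1 (c5.mul_left c6) (inv_self s5 ▸ m.r 6 (by decide) 5 (by decide)),
    p.pw1 (c4.mul_left c6) (inv_self s4 ▸ m.r 6 (by decide) 4 (by decide)), fun r => ?_⟩
  have k : ∀ l, evalW x [4, 6] = evalW x l → (∀ i ∈ [4, 6] ++ l, i < 7) → evalW pq [4, 6] = evalW pq l := fun l r s => (m.wd p.b1 _ _ s).1 r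
  rcases (p.ker (c4.mul_left c6)).1 r with r | r | r | r
  · exact absurd (k [] (by simpa using r) (by decide)) (by decide +kernel)
  · exact absurd (k [2] (by simpa using r) (by decide)) (by decide +kernel)
  · exact absurd (k [1, 2, 1, 1] (by simpa [m.i1, mul_assoc] using r) (by decide)) (by decide +kernel)
  · exact absurd (k [1, 2, 1, 1, 2] (by simpa [m.i1, mul_assoc] using r) (by decide)) (by decide +kernel)

omit p in
theorem Ph.eight {ψ : G → Perm (Fin 4)} (p : Ph (x 2) (x 1 * x 2 * (x 1)⁻¹) ψ) {K : Subgroup G} (hK : ∀ j < 7, x j ∈ K) {g : G}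
    (a : Commute g (x 2)) : g ∈ K := by
  obtain ⟨r1, r2, r3, r4, r5, r6, r7⟩ := p.rels m
  obtain ⟨P, h4, h5, h6⟩ := kn4 _ r1 _ r2 r3 _ r4 r5 r6 r7
  refine (p.conj P).cover (hK 2 (by decide)) (mul_mem (mul_mem (hK 1 (by decide)) (hK 2 (by decide))) (inv_mem (hK 1 (by decide))))
    (fun i => ?_) a
  fin_cases i
  exacts [⟨_, hK 4 (by decide), (p.bas m 4 (by decide)).2.1, h4⟩, ⟨_, hK 5 (by decide), (p.bas m 5 (by decide)).2.1, h5⟩,
    ⟨_, hK 6 (by decide), (p.bas m 6 (by decide)).2.1, h6⟩]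

omit p in
theorem Ph.nine' {ψ : G → Perm (Fin 5)} (p : Ph (x 2) (x 1 * x 2 * (x 1)⁻¹) ψ) (h4 : ψ (x 4) = swap 0 1) (h5 : ψ (x 5) = swap 1 2)
    (h6 : ψ (x 6) = swap 2 3) : ∃ z, Mo 8 (fun j => if j = 7 then z else x j) ∧ Commute z (x 2) ∧ ψ z = swap 3 4 := by
  obtain ⟨s4, c4, o4⟩ := p.bas m 4 (by decide)
  obtain ⟨s5, c5, o5⟩ := p.bas m 5 (by decide)
  obtain ⟨s6, c6, o6⟩ := p.bas m 6 (by decide)
  have W := p.wd m
  have wd := m.wd p.b1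
  have i1 := m.i1
  have e1 : x 1 * (x 1 * x 2 * (x 1)⁻¹) * (x 1)⁻¹ = x 1 * x 2 * (x 1)⁻¹ * x 2 := by
    simpa only [i1, evalW_cons, evalW_nil, mul_one, mul_assoc] using W [1, 1, 2, 1, 1, 1, 1] [1, 2, 1, 1, 2] (by decide +kernel)
  have e2 : Commute (x 4 * x 6) (x 1 * x 2 * (x 1)⁻¹) := by
    simpa only [i1, evalW_cons, evalW_nil, mul_one, mul_assoc, commute_iff_eq] using W [4, 6, 1, 2, 1, 1] [1, 2, 1, 1, 4, 6] (by decide +kernel)
  obtain ⟨t, ht⟩ : ∃ t, x 1 * x 2 * (x 1)⁻¹ = t := ⟨_, rfl⟩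
  rw [ht] at p o4 o5 o6 e1 e2
  have pb : ψ (x 2) = 1 := (p.ker rfl).2 (by simp)
  obtain ⟨z, zc, zp, z2, zo, z3, zj⟩ : ∃ z, Commute z (x 2) ∧ ψ z = swap 3 4 ∧ z * z = 1 ∧ z * t * z⁻¹ = t * x 2 ∧ (z * x 6) ^ 3 = 1 ∧
      IsConj (x 6) z := by
    obtain ⟨g, g1, g2⟩ := p.sur (swap 2 3 * swap 3 4)
    have a := ccj g1 c6
    have a1 : ψ (g * x 6 * g⁻¹) = swap 3 4 := by rw [p.cj g1 c6, g2, h6]; decide +kernel
    have a2 := cj_sq (g := g) s6
    have a3 := p.oddc g1 c6 o6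
    have a4 := H08.isConj_conj g (x 6)
    generalize g * x 6 * g⁻¹ = z at *
    rcases p.vb a a3 ((a.mul_left c6).pow_left 3) (by rw [p.pow (a.mul_left c6), p.mul a c6, a1, h6]; decide +kernel)
      (by rw [← conj_pow, H08.conj_mul_left a2 s6, inv_pow]) with r | r
    · exact ⟨z, a, a1, a2, a3, r, a4⟩
    have k : t * z * t⁻¹ = z * x 2 := by
      rw [inv_self p.t2, mul_assoc, mul_inv_eq_iff_eq_mul.1 a3, ← mul_assoc, ← mul_assoc, p.t2, one_mul, a.eq]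
    refine ⟨z * x 2, a.mul_left rfl, by rw [p.mul a rfl, pb, mul_one, a1], k ▸ cj_sq a2, k ▸ p.oddc p.tb a a3, ?_, a4.trans (isConj_iff.2 ⟨_, k⟩)⟩
    rw [mul_assoc, ← c6.eq, ← mul_assoc, p.b3 (a.mul_left c6), r, p.b2]
  have c46 := c4.mul_left c6
  have s46 : x 4 * x 6 * (x 4 * x 6) = 1 := by simpa only [evalW_cons, evalW_nil, mul_one, mul_assoc] using W [4, 6, 4, 6] [] (by decide +kernel)
  have dbl : ∀ {y}, y * y = 1 → Commute y (x 2) → ∀ P, swap 3 4 * ψ y = P * (swap 0 1 * swap 2 3) * P⁻¹ → Commute z y := fun {y} y2 c P r => by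
    obtain ⟨g, g1, rfl⟩ := p.sur P
    have : g⁻¹ * (z * y) * g⁻¹⁻¹ * (g⁻¹ * (z * y) * g⁻¹⁻¹) = 1 := by
      rcases p.eq c46 (ccj g1.inv_left (zc.mul_left c)) (by
        rw [p.cj g1.inv_left (zc.mul_left c), p.mul zc c, zp, r, p.inv g1, p.mul c4 c6, h4, h6]; group) with k | k | k | k <;> rw [k]
      · exact s46
      · rw [c46.symm.mul_mul_mul_comm, s46, p.b2, one_mul]
      · rw [e2.symm.mul_mul_mul_comm, s46, p.t2, one_mul]
      · rw [(e2.mul_right c46).symm.mul_mul_mul_comm, s46, p.tb2, one_mul]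
    rw [conj_mul, conj_eq_one_iff] at this
    exact (inv_self this).symm.trans (by rw [_root_.mul_inv_rev, inv_self z2, inv_self y2])
  have d4 := dbl s4 c4 (swap 2 3 * swap 3 4) (by rw [h4]; decide +kernel)
  have d5 := dbl s5 c5 (swap 0 1 * swap 1 2 * swap 2 3 * swap 3 4) (by rw [h5]; decide +kernel)
  have sw : ∀ {y}, y * y = 1 → (z * y) ^ 3 = 1 → (y * z) ^ 3 = 1 := fun y2 r => by
    rw [← inv_self z2, ← inv_self y2, ← _root_.mul_inv_rev, inv_pow, r, inv_one]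
  have sq : ∀ {y}, y * y = 1 → Commute z y → (y * z) ^ 2 = 1 := fun y2 r => by rw [r.symm.mul_pow, pow_two, pow_two, y2, z2, one_mul]
  have d1 : z * x 1 * z⁻¹ = (x 1)⁻¹ := by
    have cc := c6.mul_left zc
    have ct : Commute (x 6 * z) t := mul_inv_eq_iff_eq_mul.1 (by rw [cc2, zo, p.odd' c6 o6])
    have a : Commute (x 1 * (x 6 * z) * (x 1)⁻¹) t := ht ▸ cj_comm cc
    have a' : Commute (x 1 * (x 6 * z) * (x 1)⁻¹) (x 2) := by
      have : Commute (x 1 * (x 6 * z) * (x 1)⁻¹) (t * x 2) := e1 ▸ cj_comm ct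
      simpa using a.inv_right.mul_right this
    have a3 : (x 1 * (x 6 * z) * (x 1)⁻¹) ^ 3 = 1 := by rw [conj_pow, sw s6 z3]; simp
    have k : ∀ {y}, y * y = 1 → Commute y (x 2) → Commute z y → y * x 6 * x 1 = x 1 * (y * x 6) →
        (ψ y * swap 2 3 * ψ (x 1 * (x 6 * z) * (x 1)⁻¹)) ^ 2 = 1 := fun {y} y2 c d r => by
      rw [← h6, ← p.mul c c6, ← p.mul (c.mul_left c6) a']
      refine p.pw1 ((c.mul_left c6).mul_left a') ?_
      rw [← mul_assoc, ← mul_assoc, r, mul_assoc (x 1), mul_assoc y, ← mul_assoc (x 6), s6, one_mul, conj_pow, sq y2 d]; simp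
    have := ku _ (p.pw1 a' a3) (h5 ▸ k s5 c5 d5 (by simpa [mul_assoc] using W [5, 6, 1] [1, 5, 6] (by decide +kernel)))
      (h4 ▸ k s4 c4 d4 (by simpa [mul_assoc] using W [4, 6, 1] [1, 4, 6] (by decide +kernel)))
    have f : x 1 * (x 6 * z) * (x 1)⁻¹ = x 6 * z := by
      have q : ∀ {v}, x 1 * (x 6 * z) * (x 1)⁻¹ = x 6 * z * v → v * v = 1 → Commute (x 6 * z) v → x 1 * (x 6 * z) * (x 1)⁻¹ = x 6 * z :=
        fun r v2 c => by
          rw [r, c.mul_pow, sw s6 z3, one_mul, pow_three, v2, mul_one] at a3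
          rwa [a3, mul_one] at r
      rcases p.eq cc a' (by rw [this, p.mul c6 zc, h6, zp]) with r | r | r | r
      exacts [r, q r p.b2 cc, q r p.t2 ct, q r p.tb2 (ct.mul_right cc)]
    have g : x 6 * x 1 * (x 6)⁻¹ = (x 1)⁻¹ := by
      rw [inv_self s6, i1]; simpa [mul_assoc] using W [6, 1, 6] [1, 1] (by decide +kernel)
    rw [← g, show z = x 6 * (x 6 * z) by rw [← mul_assoc, s6, one_mul], cc2, ← mul_inv_eq_iff_eq_mul.1 f, mul_inv_cancel_right]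
  have d3 : Commute z (x 3) := by
    obtain ⟨k, hk⟩ : ∃ k, k = evalW x [4, 3, 2, 5, 4, 3] := ⟨_, rfl⟩
    obtain ⟨y, hy⟩ : ∃ y, y = x 4 * x 5 * (x 4)⁻¹ * x 6 * (x 4 * x 5 * (x 4)⁻¹)⁻¹ := ⟨_, rfl⟩
    have cm := ccj c4 c5
    have cy : Commute y (x 2) := hy ▸ ccj cm c6
    have y2 : y * y = 1 := hy ▸ cj_sq s6
    have oy : y * t * y⁻¹ = t * x 2 := hy ▸ p.oddc cm c6 o6
    have py : ψ y = swap 0 3 := by rw [hy, p.cj cm c6, p.cj c4 c5, h4, h5, h6]; decide +kernel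
    have zy : (z * y) ^ 3 = 1 := by
      have := ((d4.mul_right d5).mul_right d4.inv_right).symm.eq
      rw [hy, ← mul_inv_eq_iff_eq_mul.2 this, conj_mul, conj_pow, z3]; simp
    have yw : y = evalW x [4, 5, 4, 6, 4, 5, 4] := by simp [hy, inv_self s4, inv_self s5, mul_assoc]
    have K : ∀ a (b : List ℕ), ((∀ i ∈ ([4, 3, 2, 5, 4, 3] ++ [a]) ++ (b ++ [4, 3, 2, 5, 4, 3]), i < 7) ∧
        evalW pq ([4, 3, 2, 5, 4, 3] ++ [a]) = evalW pq (b ++ [4, 3, 2, 5, 4, 3])) → k * x a * k⁻¹ = evalW x b := fun a b r => by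
      have := W _ _ r
      rwa [evalW_append, evalW_append, ← hk, evalW_cons, evalW_nil, mul_one, ← mul_inv_eq_iff_eq_mul] at this
    have k2 : k * x 2 * k⁻¹ = x 5 := (K 2 [5] (by decide +kernel)).trans (mul_one _)
    have k5 : k * x 5 * k⁻¹ = x 3 := (K 5 [3] (by decide +kernel)).trans (mul_one _)
    have k4 : k * x 4 * k⁻¹ = x 2 := (K 4 [2] (by decide +kernel)).trans (mul_one _)
    have k6 : k * x 6 * k⁻¹ = y := (K 6 _ (by decide +kernel)).trans yw.symm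
    have a : Commute (k * z * k⁻¹) (x 2) := k4 ▸ cj_comm d4
    have a5 : Commute (k * z * k⁻¹) (x 5) := k2 ▸ cj_comm zc
    have a2 := cj_sq (g := k) z2
    have a3 : (k * z * k⁻¹ * y) ^ 3 = 1 := by rw [← k6, conj_mul, conj_pow, z3]; simp
    rcases kv _ (p.pw1 a ((pow_two _).trans a2)) (by rw [← h5, ← p.mul a c5, ← p.mul c5 a, a5.eq])
      (by rw [← py, ← p.mul a cy]; exact p.pw1 (a.mul_left cy) a3) with r | r | r
    · have := p.uniq cy a cy (py.trans r.symm) y2 a2 oy (by rw [y2, one_pow]) a3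
      rw [← k6, mul_left_inj, mul_right_inj] at this
      exact absurd ((this ▸ zp).symm.trans h6) (by decide +kernel)
    · exfalso
      have := p.uniq (ccj cy zc) a cy (by rw [r, p.cj cy zc, py, zp]; decide +kernel) (cj_sq z2) a2 (p.oddc cy zc zo)
        (by rw [inv_mul_cancel_right, sw y2 zy]) a3
      have cg : Commute z (y⁻¹ * k) := by
        rw [commute_iff_eq, mul_assoc, mul_inv_eq_iff_eq_mul.1 this]; group
      have r1 := d4.mul_right d5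
      have r2 : Commute z (evalW x [2, 3, 4, 5, 6, 5, 4, 3]) := by
        refine (congrArg (Commute z) ?_).mp ((cg.mul_right r1).mul_right cg.inv_right)
        rw [mul_inv_eq_iff_eq_mul, inv_self y2, yw, hk]
        simpa only [evalW_cons, evalW_nil, mul_one, mul_assoc] using W [4, 5, 4, 6, 4, 5, 4, 4, 3, 2, 5, 4, 3, 4, 5]
          [2, 3, 4, 5, 6, 5, 4, 3, 4, 5, 4, 6, 4, 5, 4, 4, 3, 2, 5, 4, 3] (by decide +kernel)
      obtain ⟨j, hj⟩ := isConj_iff.1 (zj.symm.trans (isConj_iff.2 ⟨evalW x [5, 4, 3, 2, 6, 5, 4, 3], show _ * x 2 * _ = x 6 by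
        rw [mul_inv_eq_iff_eq_mul]
        simpa only [evalW_cons, evalW_nil, mul_one, mul_assoc] using W [5, 4, 3, 2, 6, 5, 4, 3, 2] [6, 5, 4, 3, 2, 6, 5, 4, 3]
          (by decide +kernel)⟩).symm)
      rw [show x 4 * x 5 = evalW x [4, 5] by simp] at r1
      have q : ∀ {l}, Commute z (evalW x l) → Commute (j * evalW x l * j⁻¹) (x 2) := fun c => hj ▸ cj_comm c.symm
      have q3 : ∀ l, ((∀ i ∈ powW l 3 ++ [], i < 7) ∧ evalW pq (powW l 3) = evalW pq []) → (j * evalW x l * j⁻¹) ^ 3 = 1 := fun l r => by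
        rw [conj_pow, ← evalW_powW, W _ _ r]; simp
      have q1 : ∀ l, Commute z (evalW x l) → ((∀ i ∈ powW l 3 ++ [], i < 7) ∧ evalW pq (powW l 3) = evalW pq []) ∧
          (∀ i ∈ l ++ [], i < 7) ∧ evalW pq l ≠ evalW pq [] → ψ (j * evalW x l * j⁻¹) ≠ 1 := fun l c r k =>
        r.2.2 ((wd l [] r.2.1).1 (conj_eq_one_iff.1 (p.ord3 (q c) (q3 l r.1) k)))
      have ap : ∀ {a b}, Commute z (evalW x a) → Commute z (evalW x b) → Commute z (evalW x (a ++ b)) ∧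
          ψ (j * evalW x (a ++ b) * j⁻¹) = ψ (j * evalW x a * j⁻¹) * ψ (j * evalW x b * j⁻¹) := fun a b => by
        rw [evalW_append, ← p.mul (q a) (q b), conj_mul]; exact ⟨a.mul_right b, rfl⟩
      rcases kw _ (p.pw1 (q r1) (q3 _ (by decide +kernel))) _ (p.pw1 (q r2) (q3 _ (by decide +kernel))) (by
        rw [← (ap r1 r2).2, ← (ap r2 r1).2, W _ ([2, 3, 4, 5, 6, 5, 4, 3] ++ [4, 5]) (by decide +kernel)]) with s | s | s | s
      · exact q1 _ r1 (by decide +kernel) s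
      · exact q1 _ r2 (by decide +kernel) s
      · exact q1 _ (ap r1 r2).1 (by decide +kernel) ((ap r1 r2).2.trans s)
      · exact q1 _ (ap (ap r1 r2).1 r2).1 (by decide +kernel) ((ap (ap r1 r2).1 r2).2.trans ((ap r1 r2).2 ▸ s))
    · rw [← p.uniq zc a cy (zp.trans r.symm) z2 a2 zo zy a3, ← k5]
      exact cj_comm d5
  have s3 : x 3 * x 3 = 1 := by simpa using W [3, 3] [] (by decide +kernel)
  refine ⟨z, ⟨m.z, fun j hj i hi => ?_⟩, zc, zp⟩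
  rw [if_neg (show i ≠ 7 by omega)]
  by_cases j7 : j = 7
  · subst j7
    rw [if_pos rfl]
    interval_cases i
    · rw [m.z, inv_one, one_mul]; exact (pow_two _).trans z2
    · rw [if_neg (by decide), pow_two, ← z2]
      nth_rw 1 [← d1]; group
    exacts [(inv_self p.b2).symm ▸ sq p.b2 zc, (inv_self s3).symm ▸ sq s3 d3, (inv_self s4).symm ▸ sq s4 d4, (inv_self s5).symm ▸ sq s5 d5,
      (inv_self s6).symm ▸ sw s6 z3]
  · rw [if_neg j7]; exact m.r j (by omega) i hi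

omit p in
theorem Ph.nine {ψ : G → Perm (Fin 5)} (p : Ph (x 2) (x 1 * x 2 * (x 1)⁻¹) ψ) : ∃ y : ℕ → G, Mo 8 y ∧ (∀ j < 7, y j = x j) ∧
    ∀ K : Subgroup G, (∀ j < 8, y j ∈ K) → ∀ g, Commute g (x 2) → g ∈ K := by
  obtain ⟨r1, r2, r3, r4, r5, r6, r7⟩ := p.rels m
  obtain ⟨P, h4, h5, h6⟩ := kn5' _ r1 _ r2 r3 _ r4 r5 r6 r7
  obtain ⟨z, z1, z2, z3⟩ := (p.conj P).nine' m h4 h5 h6
  refine ⟨_, z1, fun j hj => if_neg hj.ne, fun K hK g a => (p.conj P).cover (hK 2 (by decide))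
    (mul_mem (mul_mem (hK 1 (by decide)) (hK 2 (by decide))) (inv_mem (hK 1 (by decide)))) (fun i => ?_) a⟩
  fin_cases i
  exacts [⟨_, hK 4 (by decide), (p.bas m 4 (by decide)).2.1, h4⟩, ⟨_, hK 5 (by decide), (p.bas m 5 (by decide)).2.1, h5⟩,
    ⟨_, hK 6 (by decide), (p.bas m 6 (by decide)).2.1, h6⟩, ⟨_, hK 7 (by decide), z2, z3⟩]

end H07.Wg
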