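import Mathlib
import Cfsg.Agent.H16.Schmidt
import Cfsg.Agent.H06.Monomial
import Cfsg.Agent.H06.Mackey
import Cfsg.Agent.H06.Degree
import Cfsg.Agent.H07.Gallagher

/-!
Characters of direct powers and wreath products; embedding solvable groups in M-groups and in
central quotients of groups of central type (namespace H07.Wr).
-/

namespace H07.Wr

open Cfsg H05 H06 Subgroup RegularWreathProduct
open scoped ComplexConjugate

section Pi
variable {ι D : Type*} [Fintype ι] [Group D]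

/-- product character of a direct power -/
noncomputable def piChar (φ : ι → D → ℂ) : (ι → D) → ℂ := fun x => ∏ i, φ i (x i)

theorem isCharacter_piChar {φ : ι → D → ℂ} (h : ∀ i, IsCharacter D (φ i)) :
    IsCharacter (ι → D) (piChar φ) := by
  have := Cfsg.IsCharacter.prod Finset.univ (f := fun i (x : ι → D) => φ i (x i))
    fun i _ => (h i).comp (Pi.evalMonoidHom (fun _ => D) i)
  convert this
  ext x; simp [piChar]

variable [Fintype D] [DecidableEq ι]

theorem classInner_piChar (φ ψ : ι → D → ℂ) :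
    classInner (piChar φ) (piChar ψ) = ∏ i, classInner (φ i) (ψ i) := by
  simp only [classInner_def, piChar, Finset.prod_mul_distrib, Finset.prod_univ_sum,
    Fintype.piFinset_univ, map_prod, Nat.card_pi, Nat.cast_prod, Finset.prod_inv_distrib]

theorem isIrr_piChar {φ : ι → D → ℂ} (h : ∀ i, IsIrrCharacter D (φ i)) :
    IsIrrCharacter (ι → D) (piChar φ) :=
  (isCharacter_piChar fun i => (h i).isCharacter).isIrr_of_norm_one (by
    simp [classInner_piChar, fun i => (h i).classInner_self])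

theorem piChar_inj {φ ψ : ι → D → ℂ} (h : ∀ i, IsIrrCharacter D (φ i)) (h' : ∀ i, IsIrrCharacter D (ψ i))
    (e : piChar φ = piChar ψ) : φ = ψ := by
  have h1 := (isIrr_piChar h).classInner_self
  nth_rw 2 [e] at h1
  rw [classInner_piChar] at h1
  funext i
  by_contra h2
  exact zero_ne_one ((Finset.prod_eq_zero (Finset.mem_univ i) ((h i).classInner_of_ne (h' i) h2)).symm.trans h1)

theorem exists_piChar {θ : (ι → D) → ℂ} (h : IsIrrCharacter (ι → D) θ) :
    ∃ φ : ι → D → ℂ, (∀ i, IsIrrCharacter D (φ i)) ∧ θ = piChar φ := by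
  classical
  have := Fintype.ofFinite (IrrCharacter D)
  have h1 : regChar (ι → D) = ∑ φ : ι → IrrCharacter D, (∏ i, (φ i).1 1) • piChar fun i => (φ i).1 := by
    ext x
    simp only [Finset.sum_apply, Pi.smul_apply, piChar, smul_eq_mul, ← Finset.prod_mul_distrib]
    rw [← Fintype.piFinset_univ, ← Finset.prod_univ_sum (f := fun i (χ : IrrCharacter D) => χ.1 1 * χ.1 (x i))]
    simp only [sum_degree_mul_apply]
    by_cases hx : x = 1
    · simp [hx, regChar_one]
    · obtain ⟨i, hi⟩ := Function.ne_iff.1 hx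
      rw [regChar_of_ne hx, Finset.prod_eq_zero (Finset.mem_univ i) (regChar_of_ne (g := x i) hi)]
  by_contra h2
  push Not at h2
  apply h.apply_one_ne_zero
  rw [← classInner_regChar_right θ, h1, H05.classInner_sum_right]
  exact Finset.sum_eq_zero fun φ _ => by
    rw [H05.classInner_smul_right, h.classInner_of_ne (isIrr_piChar fun i => (φ i).2) (h2 _ fun i => (φ i).2),
      mul_zero]

theorem indFun_pi (H : ι → Subgroup D) (φ : ∀ i, H i → ℂ) :
    indFun (pi Set.univ H) (fun x => ∏ i, φ i ⟨x.1 i, x.2 i trivial⟩) = piChar fun i => indFun (H i) (φ i) := by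
  classical
  ext g
  have h1 : ∀ y, extendByZero (pi Set.univ H) (fun x => ∏ i, φ i ⟨x.1 i, x.2 i trivial⟩) y =
      ∏ i, extendByZero (H i) (φ i) (y i) := fun y => by
    by_cases hy : y ∈ pi Set.univ H
    · rw [extendByZero_of_mem _ _ hy]
      exact Finset.prod_congr rfl fun i _ => (extendByZero_of_mem _ _ _).symm
    · rw [extendByZero_of_notMem _ _ hy]
      simp only [mem_pi, Set.mem_univ, forall_const, not_forall] at hy
      obtain ⟨i, hi⟩ := hy
      rw [Finset.prod_eq_zero (Finset.mem_univ i) (extendByZero_of_notMem (H i) (φ i) hi)]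
  have h2 : Nat.card (pi Set.univ H) = ∏ i, Nat.card (H i) := by
    refine Nat.eq_of_mul_eq_mul_right (Nat.pos_of_ne_zero (pi Set.univ H).index_ne_zero_of_finite) ?_
    rw [card_mul_index, index_pi, ← Finset.prod_mul_distrib, Nat.card_pi]
    simp only [card_mul_index]
  simp only [indFun, piChar, h1, h2, Finset.prod_mul_distrib, Finset.prod_univ_sum, Fintype.piFinset_univ,
    Nat.cast_prod, Finset.prod_inv_distrib, Pi.mul_apply, Pi.inv_apply]

end Pi

section Wreath
variable {D Q G : Type*} [Group D] [Group Q] [Group G]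

/-- the base group -/
abbrev B (D Q : Type*) [Group D] [Group Q] : Subgroup (D ≀ᵣ Q) := (rightHom : D ≀ᵣ Q →* Q).ker

/-- the base group is a direct power -/
def eB : B D Q ≃* (Q → D) where
  toFun b := b.1.left
  invFun f := ⟨⟨f, 1⟩, rfl⟩
  left_inv b := Subtype.ext (RegularWreathProduct.ext rfl b.2.symm)
  right_inv _ := rfl
  map_mul' a b := by simp [show a.1.right = 1 from a.2]

theorem index_B : (B D Q).index = Nat.card Q := by
  rw [index_ker, MonoidHom.range_eq_top.2 fun q => ⟨inl q, rfl⟩, card_top]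

theorem conjFun_eB [Fintype Q] {φ : Q → D → ℂ} (h : ∀ x, IsClassFunction D (φ x)) (w : D ≀ᵣ Q) :
    conjFun (B D Q) w (fun b => piChar φ (eB b)) = fun b => piChar (fun x => φ (w.right * x)) (eB b) := by
  ext b
  rw [conjFun_apply, piChar, piChar]
  refine (Fintype.prod_equiv (Equiv.mulLeft w.right) _ _ fun x => ?_).symm
  simp [eB, show b.1.right = 1 from b.2, h _ _ _]

/-- the Kaloujnine–Krasner embedding -/
noncomputable def kk (N : Subgroup G) [N.Normal] (f : N →* D) : G →* D ≀ᵣ (G ⧸ N) :=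
  MonoidHom.mk' (fun g => ⟨fun x => f ⟨x.out⁻¹ * g * ((g : G ⧸ N)⁻¹ * x).out, by
    rw [← QuotientGroup.eq_one_iff]; simp⟩, g⟩) fun g h => by
      ext x
      · simp [← map_mul, mul_assoc]
      · rfl

theorem kk_injective (N : Subgroup G) [N.Normal] {f : N →* D} (hf : Function.Injective f) :
    Function.Injective (kk N f) := by
  rw [injective_iff_map_eq_one] at hf ⊢
  intro g hg
  have h1 : (g : G ⧸ N) = 1 := congrArg RegularWreathProduct.right hg
  have h2 := congrArg Subtype.val (hf _ (congrFun (congrArg RegularWreathProduct.left hg) 1))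
  simpa [h1, mul_assoc, inv_mul_eq_one] using h2

theorem mono_comp [Fintype G] [Fintype D] (e : G ≃* D) {χ : D → ℂ} (h : IsMonomialChar χ) :
    IsMonomialChar fun g => χ (e g) := by
  obtain ⟨H, lam, rfl⟩ := h
  exact ⟨H.comap (e : G →* D), lam.comp ((e : G →* D).subgroupComap H),
    funext fun g => (indFun_comap H (e : G →* D) e.surjective (fun h => (lam h : ℂ)) g).symm⟩

theorem mono_ind [Fintype G] (K : Subgroup G) [Fintype K] {θ : K → ℂ} (h : IsMonomialChar θ) :
    IsMonomialChar (indFun K θ) := by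
  obtain ⟨H, lam, rfl⟩ := h
  refine ⟨H.map K.subtype, lam.comp (H.equivMapOfInjective _ K.subtype_injective).symm,
    indFun_map_subtype K H _ _ fun l => congrArg (fun x => (lam x : ℂ)) ?_⟩
  exact (H.equivMapOfInjective _ K.subtype_injective).symm_apply_apply l

theorem mono_wreath [Fintype D] [Fintype (D ≀ᵣ Q)] [Finite Q] (hQ : (Nat.card Q).Prime)
    (hD : ∀ χ, IsIrrCharacter D χ → IsMonomialChar χ) {χ : D ≀ᵣ Q → ℂ}
    (hχ : IsIrrCharacter (D ≀ᵣ Q) χ) : IsMonomialChar χ := by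
  classical
  have := Fintype.ofFinite Q
  obtain ⟨θ, hθ, h1⟩ := exists_irr_under (B D Q) hχ
  obtain ⟨φ, hφ, h2⟩ := exists_piChar (hθ.comp_mulEquiv eB.symm)
  obtain rfl : θ = fun b => piChar φ (eB b) := funext fun b => by rw [← h2]; simp
  choose H lam h3 using fun x => hD _ (hφ x)
  rcases (H04.isCoatom_of_index_prime ((index_B (D := D) (Q := Q)).symm ▸ hQ)).le_iff.1
    (le_inertia _ hθ.isClassFunction) with h | h
  swap
  · rw [← eq_of_constituent_of_irr (isIrr_indFun_of_inertia_le _ hθ h.le) hχ (by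
      rwa [frobenius_reciprocity _ _ _ hχ.isClassFunction, classInner_ne_zero_comm])]
    refine mono_ind _ (mono_comp eB ⟨pi Set.univ H, ∏ x, (lam x).comp
      (((Pi.evalMonoidHom _ x).comp (pi Set.univ H).subtype).codRestrict _ fun y => y.2 x trivial), ?_⟩)
    rw [funext h3, ← indFun_pi]
    simp
    rfl
  have h4 : ∀ x, φ x = φ 1 := fun x => by
    have h5 : inl x ∈ inertia (B D Q) _ := h ▸ mem_top _
    rw [mem_inertia, conjFun_eB fun x => (hφ x).isClassFunction] at h5
    simpa using congrFun (piChar_inj (fun y => hφ _) hφ (funext fun f => congrFun h5 (eB.symm f))) 1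
  let K : Subgroup (D ≀ᵣ Q) :=
    { carrier := {w | ∀ x, w.left x ∈ H 1}
      one_mem' := fun _ => one_mem _
      mul_mem' := fun ha hb x => mul_mem (ha x) (hb _)
      inv_mem' := fun ha x => inv_mem (ha _) }
  let μ : K →* ℂˣ := MonoidHom.mk' (fun w => ∏ x, lam 1 ⟨w.1.left x, w.2 x⟩) fun a b => by
    rw [← Fintype.prod_equiv (Equiv.mulLeft a.1.right⁻¹) _ (fun x => lam 1 ⟨b.1.left x, b.2 x⟩) fun _ => rfl,
      ← Finset.prod_mul_distrib]
    exact Finset.prod_congr rfl fun x _ => map_mul (lam 1) ⟨_, _⟩ ⟨_, _⟩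
  have h5 : (fun b : B D Q => indFun K (fun k => (μ k : ℂ)) b) = fun b => piChar φ (eB b) := by
    ext b
    rw [mackey_of_mul_eq_top K (B D Q) (fun g => ⟨⟨g.left, 1⟩, rfl, inl g.right, fun _ => one_mem _, by
      ext <;> simp⟩) _ (isCharacter_monoidHom μ).isClassFunction, funext h4, h3 1,
      ← indFun_pi (fun _ => H 1) fun _ h => lam 1 h, ← indFun_comp_mulEquiv (pi Set.univ fun _ => H 1) eB (K.subgroupOf (B D Q))
        fun x => ⟨fun h y _ => h y, fun h y => h y trivial⟩]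
    simp [μ, eB]
  obtain ⟨β, b1, b2, rfl⟩ := gallagher_one_surj (B D Q) (isCharacter_indFun_monoidHom K μ) (h5 ▸ hθ) hχ
    (h5 ▸ h1)
  have : IsMulCommutative (D ≀ᵣ Q ⧸ B D Q) := by
    have := Fact.mk hQ
    have := isCyclic_of_prime_card (α := D ≀ᵣ Q ⧸ B D Q) index_B
    exact IsCyclic.isMulCommutative
  obtain ⟨ν, rfl⟩ := b1.isCharacter.exists_monoidHom (by
    obtain ⟨γ, c1, rfl⟩ := b1.exists_quotient _ b2
    exact c1.apply_one_of_comm)
  exact ⟨K, ν.comp K.subtype * μ, (indFun_res_mul K _ _ b1.isClassFunction).symm⟩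

theorem exists_mgroup.{u} (n : ℕ) : ∀ (G : Type u) [Group G] [Finite G] [Group.IsSolvable G],
    Nat.card G = n → ∃ (M : Type u) (_ : Group M) (_ : Fintype M),
      (∀ χ, IsIrrCharacter M χ → IsMonomialChar χ) ∧ ∃ f : G →* M, Function.Injective f := by
  induction n using Nat.strong_induction_on with
  | _ n ih =>
  intro G _ _ _ hn
  rcases subsingleton_or_nontrivial G with h | h
  · have := Fintype.ofFinite G
    exact ⟨G, _, this, fun χ => isMonomialChar_of_nilpotent, .id _, fun _ _ => id⟩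
  obtain ⟨N, _, -, hN⟩ := H16.exists_normal_prime_index G
  obtain ⟨M, _, _, h1, f, hf⟩ := ih _ (by
    rw [← hn, ← N.card_mul_index]
    exact (Nat.lt_mul_iff_one_lt_right Nat.card_pos).2 hN.one_lt) N rfl
  have := Fintype.ofFinite (M ≀ᵣ (G ⧸ N))
  exact ⟨_, _, this, fun χ => mono_wreath hN h1, _, kk_injective N hf⟩

/-- passing to the faithful quotient of a character fully ramified over `ker ρ` -/
theorem ct_quot [Finite G] {χ : G → ℂ} (hχ : IsIrrCharacter G χ) (ρ : G →* D) (hρ : Function.Surjective ρ)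
    (h1 : ρ.ker ≤ charCenter χ) (h2 : charDegree χ ^ 2 = Nat.card D) {m : ℕ} (h3 : ∀ z ∈ ρ.ker, z ^ m = 1) :
    ∃ ψ : IrrCharacter (G ⧸ charKer χ), (∀ h, ψ.1 h = ψ.1 1 → h = 1) ∧
      charDegree ψ.1 ^ 2 = (center (G ⧸ charKer χ)).index ∧
      (∃ f : D →* (G ⧸ charKer χ) ⧸ center _, Function.Injective f) ∧
      Nat.card (center (G ⧸ charKer χ)) ∣ m ∧ ∀ p : ℕ, p.Prime → ∀ z ∈ ρ.ker, z ^ p = 1 → χ z ≠ χ 1 →
        p ∣ Nat.card (center (G ⧸ charKer χ)) := by
  obtain ⟨ψ, a1, a2, a3⟩ := exists_faithful_quotient hχ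
  have h4 : ρ.ker.index = Nat.card D := by rw [index_ker, MonoidHom.range_eq_top.2 hρ, card_top]
  have h5 : ρ.ker = charCenter χ := by
    have := charDegree_sq_le_index_charCenter hχ
    rw [h2, ← h4, ← relIndex_mul_index h1] at this
    have h6 := Nat.pos_of_ne_zero (charCenter χ).index_ne_zero_of_finite
    have h7 := Nat.pos_of_ne_zero (show ρ.ker.relIndex (charCenter χ) ≠ 0 from index_ne_zero_of_finite)
    exact le_antisymm h1 (relIndex_eq_one.1 (by nlinarith))
  let τ := (QuotientGroup.mk' (center (G ⧸ charKer χ))).comp (QuotientGroup.mk' (charKer χ))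
  have h6 : τ.ker = ρ.ker := by rw [h5, ← MonoidHom.comap_ker, QuotientGroup.ker_mk']; rfl
  refine ⟨⟨ψ, a1⟩, fun h hh => a2.le (a1.isCharacter.mem_charKer.2 hh), ?_,
    ⟨ρ.liftOfSurjective hρ ⟨τ, h6.ge⟩, (injective_iff_map_eq_one _).2 fun x hx => ?_⟩, ?_,
    fun p hp z hz h7 h8 => ?_⟩
  · rw [← index_comap_of_surjective _ (QuotientGroup.mk'_surjective _), show comap _ _ = ρ.ker from h5.symm,
      h4, ← h2]
    exact congrArg (fun z : ℂ => ⌊z.re⌋₊ ^ 2) (congrFun a3 1).symm
  · obtain ⟨x, rfl⟩ := hρ x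
    rw [MonoidHom.liftOfRightInverse_comp_apply] at hx
    exact h6.le hx
  · have := isCyclic_center_of_faithful a1 a2
    rw [← IsCyclic.exponent_eq_card]
    refine Monoid.exponent_dvd_of_forall_pow_eq_one fun ⟨z, hz⟩ => Subtype.ext ?_
    obtain ⟨z, rfl⟩ := QuotientGroup.mk_surjective z
    exact congrArg QuotientGroup.mk (h3 z (h5.ge hz))
  · have := Fact.mk hp
    rw [← orderOf_eq_prime (x := (z : G ⧸ charKer χ)) (congrArg QuotientGroup.mk h7) fun h =>
      h8 (hχ.isCharacter.mem_charKer.1 ((QuotientGroup.eq_one_iff z).1 h))]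
    exact orderOf_dvd_natCard (center _) (h5.le hz)

end Wreath

section CT
variable {H Q : Type*} [Group H] [CommGroup Q] [Fintype Q]

/-- the quotient map onto `(H/Z(H)) ≀ Q × Q^` -/
noncomputable def rho : (H × (Q →* ℂˣ)) ≀ᵣ Q →* ((H ⧸ center H) ≀ᵣ Q) × (Q →* ℂˣ) where
  toFun w := (⟨fun x => (w.left x).1, w.right⟩, ∏ x, (w.left x).2)
  map_one' := Prod.ext rfl (by simp)
  map_mul' a b := by
    refine Prod.ext rfl ?_
    simp only [mul_left, Pi.mul_apply, Prod.snd_mul, Finset.prod_mul_distrib]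
    exact congrArg _ (Fintype.prod_equiv (Equiv.mulLeft a.right⁻¹) _ (fun x => (b.left x).2) fun _ => rfl)

theorem rho_surj : Function.Surjective (rho (H := H) (Q := Q)) := by
  classical
  rintro ⟨⟨g, σ⟩, a⟩
  exact ⟨⟨fun x => ((g x).out, if x = 1 then a else 1), σ⟩, by simp [rho]⟩

theorem mem_ker_rho {w : (H × (Q →* ℂˣ)) ≀ᵣ Q} :
    w ∈ rho.ker ↔ w.right = 1 ∧ (∀ x, (w.left x).1 ∈ center H) ∧ ∏ x, (w.left x).2 = 1 := by
  simp [rho, RegularWreathProduct.ext_iff, funext_iff]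
  tauto

theorem ct_step [Finite H] (hQ : (Nat.card Q).Prime) {χ : H → ℂ} (hχ : IsIrrCharacter H χ)
    (h1 : ∀ h, χ h = χ 1 → h = 1) (h2 : charDegree χ ^ 2 = (center H).index) :
    ∃ ξ : (H × (Q →* ℂˣ)) ≀ᵣ Q → ℂ, IsIrrCharacter _ ξ ∧ rho.ker ≤ charCenter ξ ∧
      charDegree ξ ^ 2 = Nat.card (((H ⧸ center H) ≀ᵣ Q) × (Q →* ℂˣ)) ∧
      ∀ p : ℕ, p.Prime → p ∣ Nat.card (center H) ∨ p = Nat.card Q →
        ∃ z ∈ rho.ker, z ^ p = 1 ∧ ξ z ≠ ξ 1 := by
  classical
  have hc := CommGroup.card_monoidHom_of_hasEnoughRootsOfUnity Q ℂ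
  have : Finite (Q →* ℂˣ) := Nat.finite_of_card_ne_zero (hc ▸ hQ.ne_zero)
  have := Fintype.ofFinite (H × (Q →* ℂˣ))
  have := Fintype.ofFinite ((H × (Q →* ℂˣ)) ≀ᵣ Q)
  let φ : Q → H × (Q →* ℂˣ) → ℂ := fun x d => χ d.1 * d.2 x
  have hφ : ∀ x, IsIrrCharacter _ (φ x) := fun x =>
    isIrr_prod hχ (isIrrCharacter_monoidHom (MonoidHom.eval x))
  have hθ := (isIrr_piChar hφ).comp_mulEquiv (eB (D := H × (Q →* ℂˣ)))
  have h0 := hχ.apply_one_ne_zero
  have h3 := isIrr_indFun_of_inertia_le _ hθ fun w hw => by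
    rw [mem_inertia, conjFun_eB fun x => (hφ x).isClassFunction] at hw
    by_contra h
    obtain ⟨a, ha⟩ := CommGroup.exists_apply_ne_one_of_hasEnoughRootsOfUnity Q ℂ h
    have := congrFun (congrFun (piChar_inj (fun y => hφ _) hφ
      (funext fun f => congrFun hw (eB.symm f))) 1) (1, a)
    exact ha (by simpa [φ, h0] using this)
  have h4 : ∀ z ∈ rho.ker, indFun _ (fun b => piChar φ (eB b)) z = Nat.card Q * piChar φ z.left := by
    intro z hz
    obtain ⟨a1, -, a3⟩ := mem_ker_rho.1 hz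
    have := congrFun (res_indFun_normal _ (fun b => piChar φ (eB b))) ⟨z, a1⟩
    rw [this, Pi.smul_apply, Finset.sum_apply, Finset.sum_congr rfl (g := fun _ => piChar φ z.left) fun w _ => by
      rw [conjFun_eB fun x => (hφ x).isClassFunction]
      have := congrArg (fun a : Q →* ℂˣ => (a w.right : ℂ)) a3
      simp only [MonoidHom.finsetProd_apply, Units.coe_prod, MonoidHom.one_apply, Units.val_one] at this
      simp [piChar, φ, eB, Finset.prod_mul_distrib, this]]
    rw [Finset.sum_const, Finset.card_univ, ← Nat.card_eq_fintype_card, ← (B _ Q).card_mul_index, index_B]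
    rw [nsmul_eq_mul, Nat.cast_mul, smul_eq_mul, mul_assoc, inv_mul_cancel_left₀ (natCard_ne_zero _)]
  have h5 : indFun _ (fun b => piChar φ (eB b)) 1 = (Nat.card Q * charDegree χ ^ Nat.card Q : ℕ) := by
    rw [h4 1 (one_mem _)]
    simp [piChar, φ, hχ.charDegree_eq]
  refine ⟨_, h3, fun z hz => h3.mem_charCenter.2 ?_, ?_, fun p hp h => ?_⟩
  · rw [h4 z hz, charDegree_eq_of_apply_one h5]
    simp [piChar, φ, fun x => hχ.norm_eq_of_mem_center ((mem_ker_rho.1 hz).2.1 x), norm_monoidHom_eq_one]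
  · rw [charDegree_eq_of_apply_one h5, Nat.card_prod, RegularWreathProduct.card, hc, ← index, ← h2]
    ring
  have key : ∀ f : Q → H × (Q →* ℂˣ), (∀ x, (f x).1 ∈ center H) → ∏ x, (f x).2 = 1 → f ^ p = 1 →
      piChar φ f ≠ piChar φ 1 → ∃ z ∈ rho.ker, z ^ p = 1 ∧
        indFun _ (fun b => piChar φ (eB b)) z ≠ indFun _ (fun b => piChar φ (eB b)) 1 := by
    intro f a1 a2 a3 a4
    have a5 : (eB.symm f).1 ∈ rho.ker := mem_ker_rho.2 ⟨rfl, a1, a2⟩
    refine ⟨_, a5, by rw [← coe_pow, ← map_pow, a3, map_one, coe_one], ?_⟩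
    rw [h4 _ a5, h4 1 (one_mem _)]
    exact fun h => a4 (mul_left_cancel₀ (natCard_ne_zero _) h)
  have := Fact.mk hp
  rcases h with h | rfl
  · obtain ⟨z, hz⟩ := exists_prime_orderOf_dvd_card' p h
    refine key (Pi.mulSingle 1 (z.1, 1)) (fun x => ?_) ?_ ?_ fun h => ?_
    · by_cases hx : x = 1 <;> simp [hx]
    · exact Finset.prod_eq_one fun x _ => by by_cases hx : x = 1 <;> simp [hx]
    · ext1 x
      by_cases hx : x = 1
      · rw [hx, Pi.pow_apply, Pi.mulSingle_eq_same, ← hz]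
        exact Prod.ext (congrArg Subtype.val (pow_orderOf_eq_one z)) (one_pow (M := Q →* ℂˣ) _)
      · rw [Pi.pow_apply, Pi.mulSingle_eq_of_ne hx]
        exact one_pow (M := H × (Q →* ℂˣ)) _
    · rw [piChar, piChar, ← Finset.mul_prod_erase _ _ (Finset.mem_univ 1),
        ← Finset.mul_prod_erase _ _ (Finset.mem_univ 1), Finset.prod_congr rfl fun x hx => by
          rw [Pi.mulSingle_eq_of_ne (Finset.ne_of_mem_erase hx)]] at h
      have := h1 z (by
        simpa [φ] using mul_right_cancel₀ (Finset.prod_ne_zero_iff.2 fun x _ => (hφ x).apply_one_ne_zero) h)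
      rw [show z = 1 from Subtype.ext this, orderOf_one] at hz
      exact hp.ne_one hz.symm
  · have := Finite.one_lt_card_iff_nontrivial.1 hp.one_lt
    obtain ⟨y, hy⟩ := exists_ne (1 : Q)
    obtain ⟨a, ha⟩ := CommGroup.exists_apply_ne_one_of_hasEnoughRootsOfUnity Q ℂ hy
    refine key (fun x => (1, Pi.mulSingle (M := fun _ => Q →* ℂˣ) y a x * Pi.mulSingle (M := fun _ => Q →* ℂˣ) 1 a⁻¹ x))
      (fun x => one_mem _) (by
        rw [Finset.prod_mul_distrib, Fintype.prod_pi_mulSingle', Fintype.prod_pi_mulSingle']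
        exact mul_inv_cancel a)
      ?_ fun h => ha ?_
    · ext1 x
      exact Prod.ext (one_pow _) (hc ▸ pow_card_eq_one' (G := Q →* ℂˣ))
    · simp only [piChar, φ, Finset.prod_mul_distrib, MonoidHom.mul_apply, Units.val_mul, Pi.one_apply,
        Prod.fst_one, Prod.snd_one, MonoidHom.one_apply, Units.val_one, Finset.prod_const_one] at h
      have e : ∀ (y : Q) (a : Q →* ℂˣ), ∏ x, ((Pi.mulSingle (M := fun _ => Q →* ℂˣ) y a x x : ℂˣ) : ℂ) = a y :=
        fun y a => by rw [Finset.prod_eq_single y (fun x _ hx => by simp [hx]) (by simp), Pi.mulSingle_eq_same]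
      simpa [e, h0] using h

theorem exists_ct.{u} (n : ℕ) : ∀ (G : Type u) [Group G] [Finite G] [Group.IsSolvable G],
    Nat.card G = n → ∃ (H : Type u) (_ : Group H) (_ : Finite H) (χ : IrrCharacter H),
      (∀ h, χ.1 h = χ.1 1 → h = 1) ∧ charDegree χ.1 ^ 2 = (center H).index ∧
      (∃ f : G →* H ⧸ center H, Function.Injective f) ∧
      (∀ p : ℕ, p.Prime → (p ∣ Nat.card H → p ∣ Nat.card G) ∧ (p ∣ Nat.card G → p ∣ Nat.card (center H))) ∧
      Squarefree (Nat.card (center H)) := by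
  induction n using Nat.strong_induction_on with
  | _ n ih =>
  intro G _ _ _ hn
  classical
  rcases subsingleton_or_nontrivial G with h | h
  · refine ⟨G, _, ‹_›, ⟨1, isIrrCharacter_one⟩, fun _ _ => Subsingleton.elim _ _, ?_,
      ⟨1, fun _ _ _ => Subsingleton.elim _ _⟩, fun p hp => by simp, by simp⟩
    rw [Subsingleton.elim (center G) ⊤, index_top, charDegree_eq_of_apply_one (n := 1) (by simp), one_pow]
  obtain ⟨N, _, -, hN⟩ := H16.exists_normal_prime_index G
  obtain ⟨H, _, _, χ, h1, h2, ⟨f, hf⟩, h3, h4⟩ := ih _ (by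
    rw [← hn, ← N.card_mul_index]
    exact (Nat.lt_mul_iff_one_lt_right Nat.card_pos).2 hN.one_lt) N rfl
  have := Fact.mk hN
  have := isCyclic_of_prime_card (α := G ⧸ N) (p := N.index) rfl
  let _ : CommGroup (G ⧸ N) := IsCyclic.commGroup
  have := Fintype.ofFinite (G ⧸ N)
  have hc := CommGroup.card_monoidHom_of_hasEnoughRootsOfUnity (G ⧸ N) ℂ
  have : Finite (G ⧸ N →* ℂˣ) := Nat.finite_of_card_ne_zero (hc ▸ hN.ne_zero)
  obtain ⟨ξ, a1, a2, a3, a4⟩ := ct_step (Q := G ⧸ N) hN χ.2 h1 h2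
  obtain ⟨ψ, b1, b2, ⟨j, b3⟩, b4, b5⟩ := ct_quot a1 rho rho_surj a2 a3
    (m := (Nat.card (center H)).lcm N.index) fun z hz => by
      obtain ⟨c1, c2, -⟩ := mem_ker_rho.1 hz
      refine congrArg Subtype.val (eB.injective (a₁ := ⟨z, c1⟩ ^ _) (a₂ := 1) ?_)
      rw [map_pow, map_one]
      ext1 x
      exact Prod.ext (orderOf_dvd_iff_pow_eq_one.1 ((orderOf_dvd_natCard _ (c2 x)).trans (Nat.dvd_lcm_left _ _)))
        (orderOf_dvd_iff_pow_eq_one.1 ((_root_.orderOf_dvd_natCard _).trans (hc ▸ Nat.dvd_lcm_right _ _)))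
  refine ⟨_, _, inferInstance, ψ, b1, b2, ⟨j.comp ((MonoidHom.inl _ _).comp (kk N f)),
    b3.comp ((Prod.mk_left_injective _).comp (kk_injective N hf))⟩, fun p hp => ⟨fun h => ?_, fun h => ?_⟩,
    Squarefree.squarefree_of_dvd b4 ?_⟩
  · have h5 := h.trans (card_quotient_dvd_card _)
    rw [RegularWreathProduct.card, Nat.card_prod, hc, hp.dvd_mul] at h5
    rcases h5 with h5 | h5
    · rcases hp.dvd_mul.1 (hp.dvd_of_dvd_pow h5) with h5 | h5
      exacts [((h3 p hp).1 h5).trans N.card_subgroup_dvd_card, h5.trans N.index_dvd_card]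
    · exact h5.trans N.index_dvd_card
  · rw [← N.card_mul_index, hp.dvd_mul] at h
    obtain ⟨z, c1, c2, c3⟩ := a4 p hp (h.imp (h3 p hp).2 (Nat.prime_dvd_prime_iff_eq hp hN).1)
    exact b5 p hp z c1 c2 c3
  · rcases (Nat.coprime_or_dvd_of_prime hN (Nat.card (center H))).symm with h | h
    · rwa [Nat.lcm_eq_left h]
    · exact h.symm.lcm_eq_mul ▸ (Nat.squarefree_mul h.symm).2 ⟨h4, hN.squarefree⟩

end CT

end H07.Wr
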