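import Cfsg.Agent.H07.W8

/-! Groups with Sylow 2-subgroup of type `A8` (namespace `H07.A8`): coordinates `Sy`, sections `Sec`, actions `Act`. -/

set_option autoImplicit false
set_option maxRecDepth 100000
set_option synthInstance.maxSize 4096

namespace H07.A8
open H13 H14.PK H27.PKx L.DC Subgroup Cfsg H07.Wg

def ACS : ℕ := nat_lit 0x6b1eece37a398a49ca30ef3fe4a16abdab418820ffbbcdeb38bdab49ca307b9ac5a928398a418820
def MTS : ℕ := nat_lit 0x20020000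
def IVS : ℕ := nat_lit 0x2d02c02e02f03803903a03b02602702502403303203103003c03d03f03e02902802b02a03603703503402302202102001f01e01c01d01a01b01801901601701501401301201101000e00f00d00c00b00a009008006007005004003002001000
def TRS : ℕ := nat_lit 0x1000000
def WTS : List (List ℕ) := [[], [5]]
def TGS : List (ℕ × ℕ) := [(5, 1)]
def RUS : Rules := [(0, 0, []), (1, 0, [0, 1]), (1, 1, []), (2, 0, [0, 2]), (2, 1, [0, 1, 2]), (2, 2, []), (3, 0, [0, 3]), (3, 1, [1, 3]), (3, 2, [2, 3]), (3, 3, []), (4, 0, [0, 4]), (4, 1, [1, 4]), (4, 2, [2, 4]), (4, 3, [0, 3, 4]), (4, 4, []), (5, 0, [0, 5]), (5, 1, [1, 5]), (5, 2, [2, 4, 5]), (5, 3, [1, 3, 5]), (5, 4, [4, 5]), (5, 5, [])]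
def mF : ℕ := nat_lit 0xf000f000f000f
def mQ : ℕ := nat_lit 0xffffffff
def mE : ℕ := nat_lit 0xf0f

noncomputable abbrev MS : ℕ → ℕ → ℕ := mu 2 ACS MTS
abbrev IS : ℕ → ℕ := iv 2 IVS

theorem twoS : twoOk RUS 2 ACS MTS IVS TRS WTS TGS = true := by decide +kernel

/-- linear map -/
noncomputable def lin (a b c d i : ℕ) : ℕ := force i fun i => Nat.xor (Nat.xor (Nat.xor (Nat.mul a (Nat.mod i 2))
  (Nat.mul b (Nat.mod (Nat.div i 2) 2))) (Nat.mul c (Nat.mod (Nat.div i 4) 2))) (Nat.mul d (Nat.mod (Nat.div i 8) 2))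

/-- product of basis codes -/
noncomputable def bq (a b c d i : ℕ) : ℕ := MS (MS (MS (a * (i % 2)) (b * (i / 2 % 2))) (c * (i / 4 % 2))) (d * (i / 8 % 2))

/-- action of a word -/
noncomputable def wa (L : ℕ → ℕ → ℕ) (w : List ℕ) (i : ℕ) : ℕ := List.rec i (fun l _ ih => L l ih) w

/-- the action has order four -/
noncomputable def o4 (p : ℕ → ℕ) : Bool := band (anyL (fun b => bn (Nat.beq (p (p b)) b)) [1, 2, 4, 8])
  (allL (fun b => Nat.beq (p (p (p (p b)))) b) [1, 2, 4, 8])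

/-- not injective -/
noncomputable def sing (p : ℕ → ℕ) : Bool := bn (allLt (fun i => bor (Nat.beq i 0) (bn (Nat.beq (p i) 0))) 16)

/-- equal tables -/
noncomputable def eqT (p q : ℕ → ℕ) : Bool := allLt (fun i => Nat.beq (p i) (q i)) 16

def ixF (a : ℕ) : ℕ := a % 4 + 4 * (a / 16)
def ixQ (a : ℕ) : ℕ := a / 2
def ixE (a : ℕ) : ℕ := a % 4 + 4 * (a / 8)

/-- membership of a code in a mask -/
abbrev In (M a : ℕ) : Prop := a < 64 ∧ bt M a = true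

/-- an elementary abelian section of the Sylow subgroup -/
structure Sec (M : ℕ) (ix : ℕ → ℕ) (zz b1 b2 b4 b8 : ℕ) : Prop where
  z0 : In M 0 ∧ ix 0 = 0 ∧ In M zz ∧ ix zz = 0
  mul : ∀ a < 64, bt M a = true → ∀ b < 64, bt M b = true → bt M (MS a b) = true ∧ ix (MS a b) = Nat.xor (ix a) (ix b)
  inv : ∀ a < 64, bt M a = true → bt M (IS a) = true ∧ ix a < 16 ∧
    (a = bq b1 b2 b4 b8 (ix a) ∨ a = MS (bq b1 b2 b4 b8 (ix a)) zz)
  nrm : ∀ a < 64, bt M a = true → ∀ s < 64, bt M (cj MS IS s a) = true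

theorem secF : Sec mF ixF 0 1 2 16 32 := ⟨by decide +kernel, by decide +kernel, by decide +kernel, by decide +kernel⟩
theorem secQ : Sec mQ ixQ 1 2 4 8 16 := ⟨by decide +kernel, by decide +kernel, by decide +kernel, by decide +kernel⟩
theorem secE : Sec mE ixE 0 1 2 8 0 := ⟨by decide +kernel, by decide +kernel, by decide +kernel, by decide +kernel⟩

variable {G : Type*} [Group G] {e : ℕ → G} {M : ℕ} {ix : ℕ → ℕ} {zz b1 b2 b4 b8 : ℕ} {g g' : G} {p q : ℕ → ℕ}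

/-- coordinates of a Sylow subgroup -/
structure Sy (e : ℕ → G) : Prop extends CG 64 MS IS e where
  syl : H26.IsSyl 2 toCG.sub ⊤

/-- `g` acts on the section as `p` -/
def Act (e : ℕ → G) (M : ℕ) (ix : ℕ → ℕ) (g : G) (p : ℕ → ℕ) : Prop :=
  ∀ a, In M a → ∃ b, In M b ∧ ix b = p (ix a) ∧ g * e a * g⁻¹ = e b

theorem Act.mul (h : Act e M ix g p) (h' : Act e M ix g' q) : Act e M ix (g * g') fun i => p (q i) := fun a ha => by
  obtain ⟨b, b1, b2, b3⟩ := h' a ha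
  obtain ⟨c, c1, c2, c3⟩ := h b b1
  exact ⟨c, c1, c2.trans (congrArg p b2), by rw [← c3, ← b3]; group⟩

theorem Act.one : Act e M ix 1 fun i => i := fun a ha => ⟨a, ha, rfl, by group⟩

theorem Act.word {gl : ℕ → G} {L : ℕ → ℕ → ℕ} (h : ∀ l, Act e M ix (gl l) (L l)) (w : List ℕ) :
    Act e M ix (evalW gl w) (wa L w) := by
  induction w with
  | nil => exact Act.one
  | cons l w ih => rw [evalW_cons]; exact (h l).mul ih

theorem Act.congr (s : Sec M ix zz b1 b2 b4 b8) (h : Act e M ix g p) (r : eqT p q = true) : Act e M ix g q := fun a ha => by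
  obtain ⟨b, b1, b2, b3⟩ := h a ha
  exact ⟨b, b1, b2.trans (Nat.eq_of_beq_eq_true (allLt_iff.1 r _ (s.inv a ha.1 ha.2).2.1)), b3⟩

theorem Act.letters {gs : List G} {Ls : List (ℕ → ℕ)} (h : List.Forall₂ (Act e M ix) gs Ls) (l : ℕ) :
    Act e M ix (gs.getD l 1) (nd (fun i => i) Ls l) := by
  induction h generalizing l with
  | nil => exact Act.one
  | cons a _ ih => cases l; exacts [a, ih _]

theorem act_code (h : CG 64 MS IS e) (s : Sec M ix zz b1 b2 b4 b8) (c : ℕ) (hc : c < 64)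
    (r : ∀ a < 64, bt M a = true → ix (cj MS IS c a) = p (ix a)) : Act e M ix (e c) p := fun a ha =>
  ⟨_, ⟨h.cj_lt c a, s.nrm a ha.1 ha.2 c hc⟩, r a ha.1 ha.2, h.cj c a⟩

theorem Sec.lin (s : Sec M ix zz b1 b2 b4 b8) (h : CG 64 MS IS e) (hz : g * e zz * g⁻¹ = e zz) {a b c d : ℕ}
    (ha : In M a ∧ g * e b1 * g⁻¹ = e a) (hb : In M b ∧ g * e b2 * g⁻¹ = e b) (hc : In M c ∧ g * e b4 * g⁻¹ = e c)
    (hd : In M d ∧ g * e b8 * g⁻¹ = e d) : Act e M ix g (lin (ix a) (ix b) (ix c) (ix d)) := by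
  let R : ℕ → ℕ → Prop := fun x n => ∃ y, In M y ∧ ix y = n ∧ g * e x * g⁻¹ = e y
  have m : ∀ {x y n k}, R x n → R y k → R (MS x y) (Nat.xor n k) := by
    rintro x y _ _ ⟨u, u1, rfl, u3⟩ ⟨v, v1, rfl, v3⟩
    have := s.mul u u1.1 u1.2 v v1.1 v1.2
    exact ⟨_, ⟨h.mu_lt u v, this.1⟩, this.2, by rw [← h.mul, ← h.mul, ← u3, ← v3]; group⟩
  have t : ∀ {x y} (i : ℕ), In M y ∧ g * e x * g⁻¹ = e y → R (x * (i % 2)) (ix y * (i % 2)) := by
    intro x y i r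
    rcases Nat.mod_two_eq_zero_or_one i with k | k <;> rw [k]
    · exact ⟨0, s.z0.1, s.z0.2.1, by simp [h.zero]⟩
    · exact ⟨y, r.1, by simp, by simpa using r.2⟩
  intro x hx
  have k : R (bq b1 b2 b4 b8 (ix x)) (A8.lin (ix a) (ix b) (ix c) (ix d) (ix x)) := m (m (m (t _ ha) (t _ hb)) (t _ hc)) (t _ hd)
  rcases (s.inv x hx.1 hx.2).2.2 with r | r
  · rw [← r] at k; exact k
  · have := m k ⟨zz, s.z0.2.2.1, s.z0.2.2.2, hz⟩
    rw [← r] at this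
    obtain ⟨y, y1, y2, y3⟩ := this
    exact ⟨y, y1, y2.trans (Nat.xor_zero _), y3⟩

/-- the subgroup of a section -/
noncomputable def Sec.sub (s : Sec M ix zz b1 b2 b4 b8) (h : CG 64 MS IS e) : Subgroup G :=
  h.msub (fun a => bt M a = true) s.z0.1.2 (fun a ha b hb x y => (s.mul a ha x b hb y).1) fun a ha x => (s.inv a ha x).1

theorem Sec.mem (s : Sec M ix zz b1 b2 b4 b8) (h : CG 64 MS IS e) {a : ℕ} (ha : In M a) : e a ∈ s.sub h := ⟨a, ha.1, ha.2, rfl⟩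

theorem Sec.mem' (s : Sec M ix zz b1 b2 b4 b8) (h : CG 64 MS IS e) {a : ℕ} (ha : a < 64) (r : e a ∈ s.sub h) : bt M a = true := by
  obtain ⟨b, b1, b2, b3⟩ := r
  exact h.inj _ b1 _ ha b3 ▸ b2

theorem Sec.le (s : Sec M ix zz b1 b2 b4 b8) (h : CG 64 MS IS e) : s.sub h ≤ h.sub := by
  rintro _ ⟨a, -, -, rfl⟩; exact h.mem' a

theorem Act.norm [Finite G] (s : Sec M ix zz b1 b2 b4 b8) (h : CG 64 MS IS e) (r : Act e M ix g p) :
    g ∈ normalizer (s.sub h : Set G) := H26.mem_normalizer_of_cj_le (H26.cj_le_iff.2 (by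
  rintro _ ⟨a, a1, a2, rfl⟩
  obtain ⟨b, b1, -, b3⟩ := r a ⟨a1, a2⟩
  exact b3 ▸ s.mem h b1))

theorem Sec.nS [Finite G] (s : Sec M ix zz b1 b2 b4 b8) (h : CG 64 MS IS e) : h.sub ≤ normalizer (s.sub h : Set G) := by
  intro x hx
  obtain ⟨c, hc, rfl⟩ := h.mem.1 hx
  refine H26.mem_normalizer_of_cj_le (H26.cj_le_iff.2 ?_)
  rintro _ ⟨a, a1, a2, rfl⟩
  exact h.cj c a ▸ s.mem h ⟨h.cj_lt c a, s.nrm a a1 a2 c hc⟩

theorem Sec.img (s : Sec M ix zz b1 b2 b4 b8) (h : CG 64 MS IS e) (hg : g ∈ normalizer (s.sub h : Set G)) {a : ℕ} (ha : In M a) :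
    ∃ b, In M b ∧ g * e a * g⁻¹ = e b := by
  obtain ⟨b, b1, b2, b3⟩ := (mem_normalizer_iff.1 hg _).1 (s.mem h ha)
  exact ⟨b, ⟨b1, b2⟩, b3.symm⟩

theorem Sec.act (s : Sec M ix zz b1 b2 b4 b8) (h : CG 64 MS IS e) (hg : g ∈ normalizer (s.sub h : Set G))
    (hz : g * e zz * g⁻¹ = e zz) (i : In M b1 ∧ In M b2 ∧ In M b4 ∧ In M b8) :
    ∃ a b c d, (In M a ∧ g * e b1 * g⁻¹ = e a) ∧ (In M b ∧ g * e b2 * g⁻¹ = e b) ∧ (In M c ∧ g * e b4 * g⁻¹ = e c) ∧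
      (In M d ∧ g * e b8 * g⁻¹ = e d) ∧ Act e M ix g (A8.lin (ix a) (ix b) (ix c) (ix d)) := by
  obtain ⟨a, ha⟩ := s.img h hg i.1
  obtain ⟨b, hb⟩ := s.img h hg i.2.1
  obtain ⟨c, hc⟩ := s.img h hg i.2.2.1
  obtain ⟨d, hd⟩ := s.img h hg i.2.2.2
  exact ⟨a, b, c, d, ha, hb, hc, hd, s.lin h hz ha hb hc hd⟩

/-- change of coordinates -/
theorem Sy.rc [Finite G] (h : Sy e) {cs : List ℕ} (c0 : nd 0 cs 0 = 1)
    (ok : allL (fun r => Nat.beq (MS (nd 0 cs r.1) (nd 0 cs r.2.1)) (pr MS (r.2.2.map (nd 0 cs)))) RUS = true) :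
    ∃ e' : ℕ → G, Sy e' ∧ ∀ a, e' a = e (pr MS ((wc 2 WTS a).map (nd 0 cs))) := by
  have z : e (nd 0 cs 0) ≠ 1 := c0 ▸ fun r => absurd ((h.eq1 (by decide)).1 r) (by decide)
  have k := CG.ofRules (h.holds ok) z twoS
  have r : ∀ a, el 2 WTS (fun i => e (nd 0 cs i)) a = e (pr MS ((wc 2 WTS a).map (nd 0 cs))) := fun a => by rw [el_wc, h.evalW]
  refine ⟨_, ⟨k, ?_⟩, r⟩
  rw [eq_of_le_of_card_ge (H := k.sub) (K := h.sub) (by rintro _ ⟨a, -, rfl⟩; exact r a ▸ h.mem' _) (by rw [k.card, h.card])]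
  exact h.syl

end H07.A8
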