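import Cfsg.Agent.H07.X0

/-! Sylow type `A8`: fusion lemmas (`two_in`, `wcl`, `burn`, `no4`, `ext`, `sylC`, searches on the elementary abelian subgroup of order 16). -/

set_option autoImplicit false
set_option maxRecDepth 100000
set_option synthInstance.maxSize 4096

namespace H07.A8
open H13 H14.PK H27.PKx L.DC Subgroup Cfsg H07.Wg H26

variable {G : Type*} [Group G] [Finite G] {e : ℕ → G} {g g' : G} {p q : ℕ → ℕ}

instance f2 : Fact (Nat.Prime 2) := ⟨Nat.prime_two⟩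

theorem odd_two (g : G) : ∃ m k, Odd m ∧ (g ^ m) ^ 2 ^ k = 1 := by
  obtain ⟨k, m, h, r⟩ := Nat.exists_eq_two_pow_mul_odd (orderOf_pos g).ne'
  exact ⟨m, k, h, by rw [← pow_mul, mul_comm, ← r, pow_orderOf_eq_one]⟩

theorem Sy.into (h : Sy e) {D : Subgroup G} (hD : h.sub ≤ D) {u : G} (hu : u ∈ D) {k : ℕ} (r : u ^ 2 ^ k = 1) :
    ∃ c ∈ D, ∃ s < 64, c * u * c⁻¹ = e s := by
  obtain ⟨c, c1, c2⟩ := (h.syl.mono hD le_top).exists_cj_le (isPGroup_zpowers ⟨k, r⟩) (zpowers_le.2 hu)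
  obtain ⟨s, s1, s2⟩ := h.mem.1 (cj_le_iff.1 c2 u (mem_zpowers u))
  exact ⟨c, c1, s, s1, s2.symm⟩

theorem Sy.two_in (h : Sy e) {D P1 P2 : Subgroup G} (h1 : IsPGroup 2 P1) (h2 : IsPGroup 2 P2) (l1 : P1 ≤ D) (l2 : P2 ≤ D) :
    ∃ g c, c ∈ D ∧ (∀ x ∈ P1, ∃ a < 64, e a = g * x * g⁻¹) ∧ ∀ x ∈ P2, ∃ a < 64, e a = g * c * x * (g * c)⁻¹ := by
  obtain ⟨T, t1, t2⟩ := exists_isSyl_ge h1 l1
  obtain ⟨c, c1, c2⟩ := t1.exists_cj_le h2 l2
  obtain ⟨g, -, g2⟩ := h.syl.exists_cj_le t1.2 le_top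
  refine ⟨g, c, c1, fun x hx => h.mem.1 (cj_le_iff.1 g2 x (t2 hx)), fun x hx => h.mem.1 ?_⟩
  rw [show g * c * x * (g * c)⁻¹ = g * (c * x * c⁻¹) * g⁻¹ by group]
  exact cj_le_iff.1 g2 _ (cj_le_iff.1 c2 x hx)

/-- the elementary abelian subgroup of order 16 -/
noncomputable abbrev Sy.F (h : Sy e) : Subgroup G := secF.sub h.toCG

theorem fcomm : ∀ a < 64, bt mF a = true → MS a a = 0 ∧ ∀ b < 64, bt mF b = true → MS a b = MS b a ∧ (ixF a = ixF b → a = b) := by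
  decide +kernel

omit [Finite G] in
theorem Sy.Fc (h : Sy e) {x y : G} (hx : x ∈ h.F) (hy : y ∈ h.F) : x * y = y * x := by
  obtain ⟨a, a1, a2, rfl⟩ := hx
  obtain ⟨b, b1, b2, rfl⟩ := hy
  exact h.meq.2 ((fcomm a a1 a2).2 b b1 b2).1

omit [Finite G] in
theorem Sy.F2 (h : Sy e) {x : G} (hx : x ∈ h.F) : x * x = 1 := by
  obtain ⟨a, a1, a2, rfl⟩ := hx
  exact h.meq1.2 (fcomm a a1 a2).1

omit [Finite G] in
theorem Sy.pg (h : Sy e) {P : Subgroup G} (r : P ≤ h.sub) : IsPGroup 2 P := h.syl.2.to_le r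

theorem Sy.wcl (h : Sy e) (r : ∀ x ∈ h.F, ∃ a < 64, e a = g * x * g⁻¹) : g ∈ normalizer (h.F : Set G) := by
  refine mem_normalizer_of_cj_le (cj_le_iff.2 fun x hx => ?_)
  obtain ⟨a, a1, a2⟩ := r x hx
  by_contra n
  have n' : bt mF a = false := by
    cases k : bt mF a
    · rfl
    · exact (n (a2 ▸ secF.mem h.toCG ⟨a1, k⟩)).elim
  choose! φ φ1 φ2 using fun b (hb : In mF b) => r _ (secF.mem h.toCG hb)
  have m : ∀ {b}, b ∈ (Finset.range 64).filter (fun b => bt mF b = true) → In mF b := fun hb => by simpa using hb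
  have := Finset.card_le_card_of_injOn (s := (Finset.range 64).filter fun b => bt mF b = true)
    (t := (Finset.range 64).filter fun c => MS c c = 0 ∧ MS a c = MS c a) φ (fun b hb => by
      have k := secF.mem h.toCG (m hb)
      simp only [Finset.coe_filter, Finset.mem_range, Set.mem_ofPred_eq]
      exact ⟨φ1 b (m hb), h.meq1.1 (φ2 b (m hb) ▸ cj_sq (h.F2 k)), h.meq.1 (by rw [φ2 b (m hb), a2]; exact cj_comm (h.Fc hx k))⟩)
    fun b hb c hc k => h.inj b (m hb).1 c (m hc).1 (by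
      have := (φ2 b (m hb)).symm.trans (k ▸ φ2 c (m hc))
      simpa using this)
  exact absurd this ((by decide +kernel : ∀ a < 64, bt mF a = false → MS a a = 0 →
    ¬ ((Finset.range 64).filter fun b => bt mF b = true).card ≤ ((Finset.range 64).filter fun c => MS c c = 0 ∧ MS a c = MS c a).card)
    a a1 n' (h.meq1.1 (a2 ▸ cj_sq (h.F2 hx))))

theorem Sy.burn (h : Sy e) {x y : G} (hx : x ∈ h.F) (hy : y ∈ h.F) (c : IsConj x y) :
    ∃ n ∈ normalizer (h.F : Set G), n * x * n⁻¹ = y := by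
  obtain ⟨k, rfl⟩ := isConj_iff.1 c
  obtain ⟨g, c, c1, g1, g2⟩ := h.two_in (D := centralizer {k * x * k⁻¹}) (h.pg (secF.le h.toCG)) (isPGroup_cj (h.pg (secF.le h.toCG)) k)
    (fun a ha => mem_centralizer_singleton_iff.2 (h.Fc ha hy)) (cj_le_iff.2 fun a ha => mem_centralizer_singleton_iff.2 (cj_comm (h.Fc ha hx)))
  refine ⟨g⁻¹ * (g * c * k), mul_mem (inv_mem (h.wcl g1)) (h.wcl fun a ha => ?_), ?_⟩
  · obtain ⟨b, b1, b2⟩ := g2 _ (conj_mem_cj ha)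
    exact ⟨b, b1, by rw [b2]; group⟩
  · rw [show g⁻¹ * (g * c * k) * x * (g⁻¹ * (g * c * k))⁻¹ = c * (k * x * k⁻¹) * c⁻¹ by group, mem_centralizer_singleton_iff.1 c1]; group

omit [Finite G] in
theorem Sy.cenF (h : Sy e) (r : Act e mF ixF g p) : g ∈ centralizer (h.F : Set G) ↔ ∀ b ∈ [1, 2, 4, 8], p b = b := by
  have f : ∀ {g p}, Act e mF ixF g p → ∀ a, In mF a → (g * e a * g⁻¹ = e a ↔ p (ixF a) = ixF a) := fun r a ha => by
    obtain ⟨b, b1, b2, b3⟩ := r a ha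
    rw [b3, ← b2, h.eq b1.1 ha.1]
    exact ⟨congrArg _, ((fcomm b b1.1 b1.2).2 a ha.1 ha.2).2⟩
  constructor
  · intro c b hb
    obtain ⟨a, a1, rfl⟩ := (by decide +kernel : ∀ b ∈ [1, 2, 4, 8], ∃ a < 64, bt mF a = true ∧ ixF a = b) b hb |>.imp fun a r => and_assoc.2 r
    exact (f r a a1).1 (mul_inv_eq_iff_eq_mul.2 (c _ (secF.mem h.toCG a1)).symm)
  · rintro k _ ⟨a, a1, a2, rfl⟩
    simp only [List.forall_mem_cons] at k
    have := secF.lin h.toCG (g := g) (by simp [h.zero]) ⟨by decide +kernel, (f r 1 (by decide +kernel)).2 k.1⟩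
      ⟨by decide +kernel, (f r 2 (by decide +kernel)).2 k.2.1⟩ ⟨by decide +kernel, (f r 16 (by decide +kernel)).2 k.2.2.1⟩
      ⟨by decide +kernel, (f r 32 (by decide +kernel)).2 k.2.2.2.1⟩
    exact (mul_inv_eq_iff_eq_mul.1 ((f this a ⟨a1, a2⟩).2 ((by decide +kernel : ∀ a < 64, bt mF a = true →
      lin (ixF 1) (ixF 2) (ixF 16) (ixF 32) (ixF a) = ixF a) a a1 a2))).symm

theorem Sy.no4 (h : Sy e) (r : Act e mF ixF g p) (o : o4 p = true) : False := by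
  simp only [o4, band_eq_true, anyL_iff, allL_iff] at o
  obtain ⟨⟨b, b1, b2⟩, o2⟩ := o
  have c4 := (h.cenF (r.mul (r.mul (r.mul r)))).2 fun b hb => Nat.eq_of_beq_eq_true (o2 b hb)
  obtain ⟨m, k, ⟨j, rfl⟩, m2⟩ := odd_two g
  obtain ⟨c, c1, s, s1, s2⟩ := h.into (secF.nS h.toCG) (pow_mem (r.norm secF h.toCG) _) m2
  have k1 : e s * e s ∈ h.F := h.mul s s ▸ secF.mem h.toCG ⟨h.mu_lt s s, (by decide +kernel : ∀ s < 64, bt mF (MS s s) = true) s s1⟩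
  have k2 : (g * (g * (g * g))) ^ j * (g * g) ∈ h.F := (mem_normalizer_iff.1 c1 _).2 (by
    rw [show c * ((g * (g * (g * g))) ^ j * (g * g)) * c⁻¹ = c * g ^ (2 * j + 1) * c⁻¹ * (c * g ^ (2 * j + 1) * c⁻¹) by
      rw [show g * (g * (g * g)) = g ^ 4 by simp [pow_succ, mul_assoc], ← pow_mul]; group, s2]; exact k1)
  have k3 : g * g ∈ centralizer (h.F : Set G) := (mul_mem_cancel_left (pow_mem c4 j)).1 fun x hx => h.Fc hx k2
  rw [(h.cenF (r.mul r)).1 k3 b b1] at b2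
  simp [bn] at b2

omit [Finite G] in
theorem Sy.nsing (h : Sy e) (r : Act e mF ixF g p) (o : sing p = true) : False := by
  have : ¬ allLt (fun i => bor (Nat.beq i 0) (bn (Nat.beq (p i) 0))) 16 = true := fun k => by rw [sing, k] at o; exact absurd o (by decide)
  refine this (allLt_iff.2 fun i hi => bor_eq_true.2 ?_)
  obtain ⟨a, a1, a2, rfl, a4⟩ := (by decide +kernel : ∀ i < 16, ∃ a < 64, bt mF a = true ∧ ixF a = i ∧ (a = 0 → i = 0)) i hi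
  obtain ⟨b, b1, b2, b3⟩ := r a ⟨a1, a2⟩
  by_cases k : p (ixF a) = 0
  · rw [((fcomm b b1.1 b1.2).2 0 (by decide) (by decide +kernel)).2 (b2.trans k), h.zero, conj_eq_one_iff, h.eq1 a1] at b3
    exact .inl (Nat.beq_eq ▸ a4 b3)
  · exact .inr (by cases t : Nat.beq (p (ixF a)) 0; exacts [rfl, (k (Nat.eq_of_beq_eq_true t)).elim])

/-- search over the automorphisms of the elementary abelian subgroup of order 16 -/
noncomputable def sF (a : ℕ) (Ls : List (ℕ → ℕ)) (BW : List (List ℕ)) (good : (ℕ → ℕ) → Bool) : Bool :=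
  allLt (fun b => allLt (fun c => allLt (fun d => bor (sing (lin a b c d))
    (bor (anyL (fun w => o4 (wa (nd (fun i => i) (lin a b c d :: Ls)) w)) BW) (good (lin a b c d)))) 16) 16) 16

theorem Sy.actF (h : Sy e) (hg : g ∈ normalizer (h.F : Set G)) {a : ℕ} (ha : a < 64) (r : g * e 1 * g⁻¹ = e a) :
    ∃ b < 16, ∃ c < 16, ∃ d < 16, Act e mF ixF g (lin (ixF a) b c d) := by
  obtain ⟨a', b, c, d, a1, b1, c1, d1, k⟩ := secF.act h.toCG hg (by simp [h.zero]) (by decide +kernel)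
  obtain rfl := h.inj _ ha _ a1.1.1 (r.symm.trans a1.2)
  exact ⟨_, (secF.inv b b1.1.1 b1.1.2).2.1, _, (secF.inv c c1.1.1 c1.1.2).2.1, _, (secF.inv d d1.1.1 d1.1.2).2.1, k⟩

theorem Sy.srch (h : Sy e) (hg : g ∈ normalizer (h.F : Set G)) {a : ℕ} (ha : a < 64) (r : g * e 1 * g⁻¹ = e a) {gs : List G}
    {Ls : List (ℕ → ℕ)} (f : List.Forall₂ (Act e mF ixF) gs Ls) {BW : List (List ℕ)} {good : (ℕ → ℕ) → Bool}
    (ok : sF (ixF a) Ls BW good = true) : ∃ p, Act e mF ixF g p ∧ good p = true := by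
  obtain ⟨b, b1, c, c1, d, d1, k⟩ := h.actF hg ha r
  rcases bor_eq_true.1 (allLt_iff.1 (allLt_iff.1 (allLt_iff.1 ok b b1) c c1) d d1) with t | t
  · exact (h.nsing k t).elim
  rcases bor_eq_true.1 t with t | t
  · obtain ⟨w, -, t⟩ := anyL_iff.1 t
    exact (h.no4 (Act.word (Act.letters (.cons k f)) w) t).elim
  · exact ⟨_, k, t⟩

/-- some word gives the target -/
noncomputable def tgt (Ls : List (ℕ → ℕ)) (GW : List (List ℕ)) (t p : ℕ → ℕ) : Bool :=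
  anyL (fun w => eqT (wa (nd (fun i => i) (p :: Ls)) w) t) GW

omit [Finite G] in
theorem Act.tgt {M zz b1 b2 b4 b8 : ℕ} {ix : ℕ → ℕ} (s : Sec M ix zz b1 b2 b4 b8) (k : Act e M ix g p) {gs : List G}
    {Ls : List (ℕ → ℕ)} (f : List.Forall₂ (Act e M ix) gs Ls) {GW : List (List ℕ)} (t : tgt Ls GW q p = true) :
    ∃ g, Act e M ix g q := by
  obtain ⟨w, -, t⟩ := anyL_iff.1 t
  exact ⟨_, (Act.word (Act.letters (.cons k f)) w).congr s t⟩

omit [Finite G] in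
theorem Sy.fus (h : Sy e) (r : Act e mF ixF g p) {a b : ℕ} (k : In mF a ∧ In mF b ∧ p (ixF a) = ixF b) : g * e a * g⁻¹ = e b := by
  obtain ⟨c, c1, c2, c3⟩ := r a k.1
  rw [c3, ((fcomm c c1.1 c1.2).2 b k.2.1.1 k.2.1.2).2 (c2.trans k.2.2)]

noncomputable def v4 : ℕ → ℕ := lin 1 3 4 12
noncomputable def v8 : ℕ → ℕ := lin 1 2 5 10

omit [Finite G] in
theorem Sy.vv (h : Sy e) : List.Forall₂ (Act e mF ixF) [e 4, e 8] [v4, v8] :=
  .cons (act_code h.toCG secF 4 (by decide) (by decide +kernel)) (.cons (act_code h.toCG secF 8 (by decide) (by decide +kernel)) .nil)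

theorem outs : ∀ x < 64, MS x x = 0 → bt mF x = false → x < 32 ∧
    ∃ a < 32, MS a x = MS x a ∧ ∃ b < 32, MS b x = MS x b ∧ MS (IS (MS b a)) (MS a b) = 1 := by decide +kernel

theorem ext0 : ∀ u < 64, MS u u = 0 → u ≠ 0 → ∀ a < 64, MS a u = MS u a → ∀ b < 64, MS b u = MS u b →
    MS (IS (MS b a)) (MS a b) = 0 ∨ (bt mF u = true ∧ u < 32 ∧ bt mF (MS (IS (MS b a)) (MS a b)) = true) ∨
      (bt mF u = false ∧ MS (IS (MS b a)) (MS a b) = 1) := by decide +kernel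

omit [Finite G] in
theorem Sy.z1 (h : Sy e) : e 1 ≠ 1 := fun r => absurd ((h.eq1 (by decide)).1 r) (by decide)

omit [Finite G] in
theorem Sy.z2 (h : Sy e) : e 1 * e 1 = 1 := h.meq1.2 (by decide +kernel)

omit [Finite G] in
theorem Sy.zc (h : Sy e) {a : ℕ} (ha : a < 64) : e a * e 1 = e 1 * e a :=
  h.meq.2 ((by decide +kernel : ∀ a < 64, MS a 1 = MS 1 a) a ha)

omit [Finite G] in
theorem Sy.ext1 (h : Sy e) {x u : ℕ} (hx : x < 64) (x2 : MS x x = 0) (xF : bt mF x = false) (hu : u < 64) (r : e u = g * e x * g⁻¹)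
    (t : ∀ y ∈ h.sub ⊓ centralizer {e x}, ∃ a < 64, e a = g * y * g⁻¹) :
    (bt mF u = true ∧ u < 32 ∧ g * e 1 * g⁻¹ ∈ h.F) ∨ (bt mF u = false ∧ g * e 1 * g⁻¹ = e 1) := by
  obtain ⟨-, a, -, a2, b, -, b2, k⟩ := outs x hx x2 xF
  obtain ⟨a', a3, a4⟩ := t (e a) ⟨h.mem' a, mem_centralizer_singleton_iff.2 (h.meq.2 a2)⟩
  obtain ⟨b', b3, b4⟩ := t (e b) ⟨h.mem' b, mem_centralizer_singleton_iff.2 (h.meq.2 b2)⟩
  have z : g * e 1 * g⁻¹ = e (MS (IS (MS b' a')) (MS a' b')) := by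
    rw [← k]; simp only [← h.mul, ← h.inv]; rw [a4, b4]; group
  rcases ext0 u hu (h.meq1.1 (r ▸ cj_sq (h.meq1.2 x2))) (by
      rintro rfl
      rw [h.zero, eq_comm, conj_eq_one_iff, h.eq1 hx] at r
      subst r; exact absurd xF (by decide +kernel)) a' a3 (h.meq.1 (by rw [a4, r]; exact cj_comm (h.meq.2 a2))) b' b3
    (h.meq.1 (by rw [b4, r]; exact cj_comm (h.meq.2 b2))) with k | k | k
  · rw [k, h.zero, conj_eq_one_iff] at z; exact (h.z1 z).elim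
  · exact .inl ⟨k.1, k.2.1, z ▸ secF.mem h.toCG ⟨h.mu_lt _ _, k.2.2⟩⟩
  · exact .inr ⟨k.1, k.2 ▸ z⟩

theorem Sy.ext (h : Sy e) {x u : ℕ} (hx : x < 64) (x2 : MS x x = 0) (xF : bt mF x = false) (hu : u < 64) (r : IsConj (e u) (e x)) :
    (∃ g, ∃ u' < 32, bt mF u' = true ∧ e u' = g * e x * g⁻¹ ∧ g * e 1 * g⁻¹ ∈ h.F) ∨
      (bt mF u = false ∧ ∃ l, l * e 1 * l⁻¹ = e 1 ∧ l * e u * l⁻¹ = e x) := by
  obtain ⟨k, r⟩ := isConj_iff.1 r
  obtain ⟨g, c, c1, g1, g2⟩ := h.two_in (D := centralizer {e x}) (P1 := h.sub ⊓ centralizer {e x})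
    (P2 := cj(k, h.sub ⊓ centralizer {e u})) (h.pg inf_le_left) (isPGroup_cj (h.pg inf_le_left) k) inf_le_right
    (cj_le_iff.2 fun a ha => mem_centralizer_singleton_iff.2 (r ▸ cj_comm (mem_centralizer_singleton_iff.1 ha.2)))
  obtain ⟨u', u1, u2⟩ := g1 (e x) ⟨h.mem' x, mem_centralizer_singleton_iff.2 rfl⟩
  rcases h.ext1 hx x2 xF u1 u2 g1 with t | t
  · exact .inl ⟨g, u', t.2.1, t.1, u2, t.2.2⟩
  have g3 : ∀ y ∈ h.sub ⊓ centralizer {e u}, ∃ a < 64, e a = g * c * k * y * (g * c * k)⁻¹ := fun y hy => by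
    obtain ⟨b, b1, b2⟩ := g2 _ (conj_mem_cj hy)
    exact ⟨b, b1, by rw [b2]; group⟩
  have u3 : e u' = g * c * k * e u * (g * c * k)⁻¹ := by
    rw [show g * c * k * e u * (g * c * k)⁻¹ = g * (c * (k * e u * k⁻¹) * c⁻¹) * g⁻¹ by group, r, mem_centralizer_singleton_iff.1 c1, u2]
    group
  have uF : bt mF u = false := by
    cases b : bt mF u
    · rfl
    · have m := secF.mem h.toCG ⟨hu, b⟩
      have := (mem_normalizer_iff.1 (h.wcl fun y hy => g3 y ⟨secF.le h.toCG hy, mem_centralizer_singleton_iff.2 (h.Fc hy m)⟩) _).1 m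
      rw [← u3] at this
      rw [secF.mem' h.toCG u1 this] at t
      exact absurd t.1 (by decide)
  rcases h.ext1 hu (h.meq1.1 (sq_of_conj (isConj_iff.2 ⟨k, r⟩).symm (h.meq1.2 x2))) uF u1 u3 g3 with t' | t'
  · rw [t'.1] at t; exact absurd t.1 (by decide)
  refine .inr ⟨uF, g⁻¹ * (g * c * k), ?_, ?_⟩
  · rw [show g⁻¹ * (g * c * k) * e 1 * (g⁻¹ * (g * c * k))⁻¹ = g⁻¹ * (g * c * k * e 1 * (g * c * k)⁻¹) * g by group, t'.2]
    nth_rw 1 [← t.2]; group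
  · rw [show g⁻¹ * (g * c * k) * e u * (g⁻¹ * (g * c * k))⁻¹ = g⁻¹ * (g * c * k * e u * (g * c * k)⁻¹) * g by group, ← u3, u2]; group

theorem Sy.ext' (h : Sy e) {x u : ℕ} (hx : x < 64) (x2 : MS x x = 0) (xF : bt mF x = false) (hu : u < 64) (r : IsConj (e u) (e x)) :
    ∃ l, l * e 1 * l⁻¹ = e 1 ∧ (l * e x * l⁻¹ ∈ h.F ∨ bt mF u = false ∧ l * e u * l⁻¹ = e x) := by
  rcases h.ext hx x2 xF hu r with ⟨g, u', u1, u2, u3, u4⟩ | ⟨k, l, l1, l2⟩
  · obtain ⟨n, n1, n2⟩ := h.burn u4 (secF.mem h.toCG (a := 1) (by decide +kernel)) (isConj_iff.2 ⟨g, rfl⟩).symm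
    refine ⟨n * g, Eq.trans (by group) n2, .inl ?_⟩
    rw [show n * g * e x * (n * g)⁻¹ = n * (g * e x * g⁻¹) * n⁻¹ by group, ← u3]
    exact (mem_normalizer_iff.1 n1 _).1 (secF.mem h.toCG ⟨by omega, u2⟩)
  · exact ⟨l, l1, .inr ⟨k, l2⟩⟩

theorem Sy.sylC (h : Sy e) {u : ℕ} (c : cn 64 MS u = 32) (n : ¬ IsConj (e 1) (e u)) (u1 : e u ≠ 1) :
    IsSyl 2 (h.sub ⊓ centralizer {e u}) (centralizer {e u}) := by
  obtain ⟨T, t1, t2⟩ := exists_isSyl_ge (h.pg (inf_le_left (b := centralizer {e u}))) inf_le_right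
  obtain ⟨g, -, g2⟩ := h.syl.exists_cj_le t1.2 le_top
  obtain ⟨a, a1, a2⟩ := h.mem.1 (cj_le_iff.1 g2 _ (t2 ⟨h.mem' u, mem_centralizer_singleton_iff.2 rfl⟩))
  refine t1.of_card_le (h.pg inf_le_left) inf_le_right ?_
  rw [h.cn, c, ← H26.card_cj g]
  refine (card_le_of_le (le_inf g2 (cj_le_iff.2 fun y hy => mem_centralizer_singleton_iff.2
    (a2 ▸ cj_comm (mem_centralizer_singleton_iff.1 (t1.1 hy)))) : cj(g, T) ≤ h.sub ⊓ centralizer {e a})).trans ?_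
  rw [h.cn]
  rcases (by decide +kernel : ∀ a < 64, a = 0 ∨ a = 1 ∨ cn 64 MS a ≤ 32) a a1 with rfl | rfl | k
  · rw [h.zero, eq_comm, conj_eq_one_iff] at a2; exact (u1 a2).elim
  · exact (n (isConj_iff.2 ⟨g, a2.symm⟩).symm).elim
  · exact k

end H07.A8
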