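import Cfsg.Agent.H07.X1
import Cfsg.Agent.S0017

/-! Sylow type `A8`: solvable groups with trivial odd core centralising the central involution (`Lx`). -/

set_option autoImplicit false
set_option maxRecDepth 100000
set_option synthInstance.maxSize 4096

namespace H07.A8
open H13 H14.PK H27.PKx L.DC Subgroup Cfsg H07.Wg H26

variable {X : Type*} [Group X] {e : ℕ → X} {g g' : X} {p q : ℕ → ℕ}

/-- elements acting trivially on `A` modulo `B` -/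
def st (A B : Subgroup X) [A.Normal] [hB : B.Normal] : Subgroup X where
  carrier := {x | ∀ a ∈ A, x * a * x⁻¹ * a⁻¹ ∈ B}
  one_mem' a _ := by simpa using B.one_mem
  mul_mem' {x y} hx hy a ha := by
    rw [show x * y * a * (x * y)⁻¹ * a⁻¹ = x * (y * a * y⁻¹ * a⁻¹) * x⁻¹ * (x * a * x⁻¹ * a⁻¹) by group]
    exact mul_mem (hB.conj_mem _ (hy a ha) x) (hx a ha)
  inv_mem' {x} hx a ha := by
    have := inv_mem (hx _ (Normal.conj_mem inferInstance a ha x⁻¹))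
    rwa [show (x * (x⁻¹ * a * x⁻¹⁻¹) * x⁻¹ * (x⁻¹ * a * x⁻¹⁻¹)⁻¹)⁻¹ = x⁻¹ * a * x⁻¹⁻¹ * a⁻¹ by group] at this

instance st_normal (A B : Subgroup X) [hA : A.Normal] [hB : B.Normal] : (st A B).Normal := ⟨fun x hx g a ha => by
  have := hB.conj_mem _ (hx _ (hA.conj_mem a ha g⁻¹)) g
  rwa [show g * (x * (g⁻¹ * a * g⁻¹⁻¹) * x⁻¹ * (g⁻¹ * a * g⁻¹⁻¹)⁻¹) * g⁻¹ = g * x * g⁻¹ * a * (g * x * g⁻¹)⁻¹ * a⁻¹ by group] at this⟩

/-- the subgroup generated by an involution -/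
def two (z : X) (h : z * z = 1) : Subgroup X where
  carrier := {x | x = 1 ∨ x = z}
  one_mem' := .inl rfl
  mul_mem' := by rintro _ _ (rfl | rfl) (rfl | rfl) <;> simp [h]
  inv_mem' := by rintro _ (rfl | rfl) <;> simp [inv_self h]

theorem two_normal {z : X} (h : z * z = 1) (c : ∀ x, x * z = z * x) : (two z h).Normal :=
  ⟨by rintro _ (rfl | rfl) g; exacts [.inl (by simp), .inr (by rw [c]; simp)]⟩

/-- the local situation -/
structure Lx (e : ℕ → X) : Prop extends Sy e where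
  zc : ∀ x, x * e 1 = e 1 * x
  sol : Group.IsSolvable X
  odd : oddCore X = ⊥

theorem n1 : sF (ixF 1) [v4, v8] [[0], [0, 1], [0, 2], [0, 1, 2]] (fun p => allLt (fun i => Nat.blt (p i) 8) 8) = true := by
  decide +kernel

variable [Finite X] (h : Lx e)
include h

theorem Lx.zz (x : X) : x * e 1 * x⁻¹ = e 1 := by rw [h.zc]; group

theorem Lx.sq {a b : ℕ} (ha : a < 32) (r : g * e a * g⁻¹ = e b) : MS b b = MS a a := by
  refine h.inj _ (h.mu_lt _ _) _ (h.mu_lt _ _) ?_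
  rw [← h.mul, ← r, conj_mul, h.mul]
  rcases (by decide +kernel : ∀ a < 32, MS a a = 0 ∨ MS a a = 1) a ha with k | k <;> rw [k]
  · simp [h.zero]
  · exact h.zz g

theorem Lx.sc {a s : ℕ} (ha : a < 32) (hs : s < 64) (r : g * e a * g⁻¹ = e s) : s < 32 := by
  by_contra n
  obtain ⟨sF, a2, s8⟩ := (by decide +kernel : ∀ s < 64, ¬ s < 32 → ∀ a < 32, MS s s = MS a a → bt mF s = true ∧ MS a a = 0 ∧ ¬ ixF s < 8)
    s hs n a ha (h.sq ha r)
  obtain ⟨u, u1, u2, u3⟩ : ∃ u < 32, bt mF u = true ∧ IsConj (e u) (e s) := by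
    cases k : bt mF a
    · rcases h.ext (by omega) a2 k hs (isConj_iff.2 ⟨g, r⟩).symm with ⟨g', u, u1, u2, u3, -⟩ | t
      · exact ⟨u, u1, u2, (isConj_iff.2 ⟨g', u3.symm⟩).symm.trans (isConj_iff.2 ⟨g, r⟩)⟩
      · rw [sF] at t; exact absurd t.1 (by decide)
    · exact ⟨a, ha, k, isConj_iff.2 ⟨g, r⟩⟩
  obtain ⟨n, m1, m2⟩ := h.burn (secF.mem h.toCG ⟨by omega, u2⟩) (secF.mem h.toCG ⟨hs, sF⟩) u3
  obtain ⟨p, p1, p2⟩ := h.srch m1 (by decide) (h.zz n) h.vv n1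
  obtain ⟨b, b1, b2, b3⟩ := p1 u ⟨by omega, u2⟩
  obtain rfl := h.inj _ hs _ b1.1 (m2.symm.trans b3)
  exact s8 (b2 ▸ Nat.blt_eq ▸ allLt_iff.1 p2 _ (by unfold ixF; omega))

/-- the extraspecial subgroup -/
noncomputable abbrev Lx.Q : Subgroup X := secQ.sub h.toCG

omit h [Finite X] in
theorem inQ {a : ℕ} : In mQ a ↔ a < 32 := ⟨fun r => (by decide +kernel : ∀ a < 64, bt mQ a = true → a < 32) a r.1 r.2,
  fun r => (by decide +kernel : ∀ a < 32, In mQ a) a r⟩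

theorem Lx.memQ {x : X} : x ∈ h.Q ↔ ∃ a < 32, e a = x :=
  ⟨fun ⟨a, a1, a2, a3⟩ => ⟨a, inQ.1 ⟨a1, a2⟩, a3⟩, fun ⟨_, a1, a2⟩ => a2 ▸ secQ.mem h.toCG (inQ.2 a1)⟩

theorem Lx.main : h.Q.Normal ∧ ∀ x, (∀ a ∈ [2, 4, 8, 16], x * e a * x⁻¹ = e a) → x = 1 ∨ x = e 1 := by
  have := h.sol
  have pc := Cfsg.Agent.S0017.result 2 h.odd
  have pS : pCore 2 X ≤ h.sub := h.syl.le_of_le_normalizer (H02.pCore_isPGroup 2 X) le_top (le_normalizer_of_normal)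
  have nB : (pCore 2 X ⊓ h.Q).Normal := ⟨fun x hx g => by
    have k := Normal.conj_mem inferInstance x hx.1 g
    obtain ⟨a, a1, rfl⟩ := h.memQ.1 hx.2
    obtain ⟨s, s1, s2⟩ := h.mem.1 (pS k)
    exact ⟨k, h.memQ.2 ⟨s, h.sc a1 s1 s2.symm, s2⟩⟩⟩
  have nZ := two_normal h.z2 h.zc
  have D : st (pCore 2 X) (pCore 2 X ⊓ h.Q) ⊓ st (pCore 2 X ⊓ h.Q) (two _ h.z2) ≤ pCore 2 X := H02.le_pCore (isPGroup_iff_mem.2 fun x hx => by
    obtain ⟨k, hk⟩ := isPGroup_iff_mem.1 (H02.pCore_isPGroup 2 X) (x ^ 4) (pc fun y hy => by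
      have b1 := hx.1 y hy
      have c1 := hx.2 _ b1
      obtain ⟨b, hb⟩ : ∃ b, b = x * y * x⁻¹ * y⁻¹ := ⟨_, rfl⟩
      rw [← hb] at b1 c1
      have c2 : x * b * x⁻¹ * b⁻¹ * (b * b) ∈ two _ h.z2 := mul_mem c1 (by
        obtain ⟨a, a1, rfl⟩ := h.memQ.1 b1.2
        rw [h.mul]
        exact ((by decide +kernel : ∀ a < 32, MS a a = 0 ∨ MS a a = 1) a a1).imp (fun k => (congrArg e k).trans h.zero) (congrArg e))
      obtain ⟨c, hc⟩ : ∃ c, c = x * b * x⁻¹ * b⁻¹ * (b * b) := ⟨_, rfl⟩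
      rw [← hc] at c2
      have c3 : x * x * y * (x * x)⁻¹ = c * y := by rw [hc, hb]; group
      have c4 : ∀ w, w * c = c * w := fun w => by rcases c2 with r | r <;> simp [r, h.zc]
      have c5 : c * c = 1 := by rcases c2 with r | r <;> simp [r, h.z2]
      symm
      rw [← mul_inv_eq_iff_eq_mul, show x ^ 4 * y * (x ^ 4)⁻¹ = x * x * (x * x * y * (x * x)⁻¹) * (x * x)⁻¹ by
        simp only [pow_succ, pow_zero, one_mul]; group, c3, ← mul_assoc, c4, mul_assoc c, mul_assoc c, c3, ← mul_assoc, c5, one_mul])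
    exact ⟨2 + k, by rw [pow_add, pow_mul]; exact hk⟩)
  have Q : h.Q ≤ pCore 2 X := fun x hx => D ⟨fun y hy => ⟨(pCore 2 X).mul_mem (Normal.conj_mem inferInstance y hy x) (inv_mem hy), by
      rw [mul_assoc, mul_assoc, ← mul_assoc y]
      exact mul_mem hx ((mem_normalizer_iff.1 (secQ.nS h.toCG (pS hy)) _).1 (inv_mem hx))⟩, fun y hy => by
    obtain ⟨a, a1, rfl⟩ := h.memQ.1 hx
    obtain ⟨b, b1, rfl⟩ := h.memQ.1 hy.2
    rw [h.cj, h.inv, h.mul]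
    exact ((by decide +kernel : ∀ a < 32, ∀ b < 32, MS (cj MS IS a b) (IS b) = 0 ∨ MS (cj MS IS a b) (IS b) = 1) a a1 b b1).imp
      (fun k => (congrArg e k).trans h.zero) (congrArg e)⟩
  rw [inf_eq_right.2 Q] at nB
  have cS : ∀ x ∈ pCore 2 X, (∀ a ∈ [2, 4, 8, 16], x * e a * x⁻¹ = e a) → x = 1 ∨ x = e 1 := fun x hx r => by
    obtain ⟨c, c1, rfl⟩ := h.mem.1 (pS hx)
    exact ((by decide +kernel : ∀ c < 64, (∀ a ∈ [2, 4, 8, 16], MS c a = MS a c) → c = 0 ∨ c = 1) c c1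
      fun a ha => h.meq.1 (mul_inv_eq_iff_eq_mul.1 (r a ha))).imp (fun k => (congrArg e k).trans h.zero) (congrArg e)
  refine ⟨nB, fun x r => ?_⟩
  have r' : ∀ y ∈ h.Q, x * y * x⁻¹ = y := fun y hy => by
    obtain ⟨a, a1, rfl⟩ := h.memQ.1 hy
    exact gen32 (P := fun a => x * e a * x⁻¹ = e a) (by simp [h.zero]) (List.forall_mem_cons.2 ⟨h.zz x, r⟩) h.toCG
      (fun a _ b _ r s => by rw [← h.mul, ← conj_mul, r, s]) (by decide +kernel) a a1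
  refine cS x (D ⟨fun y hy => ?_, fun y hy => .inl (by rw [r' y hy.2]; simp)⟩) r
  have k := mul_mem (Normal.conj_mem inferInstance y hy x) (inv_mem hy)
  refine ⟨k, ?_⟩
  rcases cS _ k (fun a ha => by
    have m : e a ∈ h.Q := h.memQ.2 ⟨a, by simp at ha; omega, rfl⟩
    have t := r' _ (nB.conj_mem _ m y⁻¹)
    have t' := r' _ m
    rw [mul_inv_eq_iff_eq_mul] at t t' ⊢
    calc x * y * x⁻¹ * y⁻¹ * e a = x * y * x⁻¹ * (y⁻¹ * e a * y⁻¹⁻¹ * x) * x⁻¹ * y⁻¹ := by group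
      _ = x * e a * (y * x⁻¹ * y⁻¹) := by rw [← t]; group
      _ = _ := by rw [t']; group) with t | t <;> rw [t]
  exacts [one_mem _, h.memQ.2 ⟨1, by decide, rfl⟩]

/-- exact action on the extraspecial subgroup -/
def Ex (e : ℕ → X) (g : X) (T : ℕ → ℕ) : Prop := ∀ a < 32, T a < 32 ∧ g * e a * g⁻¹ = e (T a)

omit h [Finite X] in
theorem half : ∀ b < 32, ∀ c < 32, ixQ b = ixQ c → b = c ∨ b = MS c 1 := by decide +kernel

theorem Lx.ex0 (r : Act e mQ ixQ g p) {T : ℕ → ℕ} (k : ∀ a ∈ [2, 4, 8, 16], T a < 32 ∧ ixQ (T a) = p (ixQ a)) :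
    ∃ c < 32, ∀ a ∈ [2, 4, 8, 16], g * e c * e a * (g * e c)⁻¹ = e (T a) := by
  have f : ∀ a ∈ [2, 4, 8, 16], ∃ s < 2, g * e (MS a s) * g⁻¹ = e (T a) := fun a ha => by
    obtain ⟨b, b1, b2, b3⟩ := r a (inQ.2 (by simp at ha; omega))
    rcases half b (inQ.1 b1) _ (k a ha).1 (b2.trans (k a ha).2.symm) with rfl | rfl
    · exact ⟨0, by decide, by rw [← h.mul, h.zero, mul_one, b3]⟩
    · exact ⟨1, by decide, by rw [← h.mul, ← conj_mul, b3, h.zz, ← h.mul, mul_assoc, h.z2, mul_one]⟩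
  simp only [List.forall_mem_cons] at f
  obtain ⟨⟨s1, a1, b1⟩, ⟨s2, a2, b2⟩, ⟨s3, a3, b3⟩, ⟨s4, a4, b4⟩, -⟩ := f
  obtain ⟨c, c1, d1, d2, d3, d4⟩ := (by decide +kernel : ∀ s1 < 2, ∀ s2 < 2, ∀ s3 < 2, ∀ s4 < 2, ∃ c < 32, cj MS IS c 2 = MS 2 s1 ∧
    cj MS IS c 4 = MS 4 s2 ∧ cj MS IS c 8 = MS 8 s3 ∧ cj MS IS c 16 = MS 16 s4) s1 a1 s2 a2 s3 a3 s4 a4
  have t : ∀ a, g * e c * e a * (g * e c)⁻¹ = g * e (cj MS IS c a) * g⁻¹ := fun a => by rw [← h.cj]; group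
  refine ⟨c, c1, ?_⟩
  simp only [List.forall_mem_cons, t, d1, d2, d3, d4]
  exact ⟨b1, b2, b3, b4, by simp⟩

theorem Lx.triv (r : Act e mQ ixQ g p) (k : eqT p (fun i => i) = true) : g ∈ h.Q := by
  obtain ⟨c, c1, c2⟩ := h.ex0 (r.congr secQ k) (T := fun a => a) (by decide)
  rw [show g = g * e c * (e c)⁻¹ by group]
  refine mul_mem ?_ (inv_mem (h.memQ.2 ⟨c, c1, rfl⟩))
  rcases h.main.2 _ c2 with t | t <;> rw [t]
  exacts [one_mem _, h.memQ.2 ⟨1, by decide, rfl⟩]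

theorem Lx.actQ (r : g ∈ h.Q) : Act e mQ ixQ g fun i => i := by
  obtain ⟨c, c1, rfl⟩ := h.memQ.1 r
  exact act_code h.toCG secQ c (by omega) ((by decide +kernel : ∀ c < 32, ∀ a < 64, bt mQ a = true → ixQ (cj MS IS c a) = ixQ a) c c1)

/-- an involution fixing an element of order four -/
noncomputable def b4 (p : ℕ → ℕ) : Bool := band (eqT (fun i => p (p i)) fun i => i)
  (band (anyL (fun i => Nat.beq (p i) i) [3, 7, 11, 12, 13, 14]) (bn (eqT p fun i => i)))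

theorem Lx.fx4 (r : Act e mQ ixQ g p) (o : b4 p = true) : False := by
  simp only [b4, band_eq_true, anyL_iff, bn_iff, Nat.beq_eq] at o
  obtain ⟨o1, ⟨i, i1, i2⟩, o3⟩ := o
  obtain ⟨m, k, ⟨j, rfl⟩, m2⟩ := odd_two g
  have w : (g * g) ^ j ∈ h.Q := pow_mem (h.triv (r.mul r) o1) j
  rw [pow_succ, pow_mul, pow_two] at m2
  obtain ⟨c, -, s, s1, s2⟩ := h.into le_top (mem_top _) m2
  obtain ⟨a, a1, a2, rfl⟩ := (by decide +kernel : ∀ i ∈ [3, 7, 11, 12, 13, 14], ∃ a < 32, MS a a = 1 ∧ ixQ a = i) i i1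
  obtain ⟨b, b1, b2, b3⟩ := (h.actQ w).mul r a (inQ.2 a1)
  obtain ⟨a', a3, a4⟩ := h.memQ.1 (h.main.1.conj_mem _ (h.memQ.2 ⟨a, a1, rfl⟩) c)
  have t : e (cj MS IS s a') = c * e b * c⁻¹ := by rw [← h.cj, ← s2, a4, ← b3]; group
  have s3 := (by decide +kernel : ∀ s < 64, ∀ a < 32, MS a a = 1 → cj MS IS s a = a ∨ cj MS IS s a = MS a 1 → s < 32) s s1 a' a3
    ((h.sq a1 a4.symm).trans a2) (by
      rcases half b (inQ.1 b1) a a1 (b2.trans i2) with rfl | rfl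
      · exact .inl (h.inj _ (h.cj_lt _ _) _ (by omega) (t.trans a4.symm))
      · exact .inr (h.inj _ (h.cj_lt _ _) _ (h.mu_lt _ _) (by rw [t, ← h.mul, ← h.mul, ← conj_mul, a4, h.zz])))
  have g1 : g ∈ h.Q := (mul_mem_cancel_left w).1 (h.main.1.mem_comm_iff.1 (by
    have := h.main.1.conj_mem _ (h.memQ.2 ⟨s, s3, rfl⟩) c⁻¹
    rw [← s2] at this
    simpa [mul_assoc] using h.main.1.mem_comm this) |> fun k => by simpa [mul_assoc] using k)
  refine o3 (allLt_iff.2 fun i hi => Nat.beq_eq ▸ ?_)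
  obtain ⟨x, x1, x2, x3⟩ := r (2 * i) (inQ.2 (by omega))
  obtain ⟨y, y1, y2, y3⟩ := h.actQ g1 (2 * i) (inQ.2 (by omega))
  rw [h.inj _ x1.1 _ y1.1 (x3.symm.trans y3), y2, show ixQ (2 * i) = i by unfold ixQ; omega] at x2
  exact x2.symm

noncomputable def tA : ℕ → ℕ := lin 1 10 5 8
noncomputable def yA : ℕ → ℕ := lin 4 10 5 2
noncomputable def xA : ℕ → ℕ := lin 8 6 2 9

theorem Lx.tt : List.Forall₂ (Act e mQ ixQ) [e 32] [tA] := .cons (act_code h.toCG secQ 32 (by decide) (by decide +kernel)) .nil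

/-- search over the automorphisms of the extraspecial group -/
noncomputable def sQ (good : (ℕ → ℕ) → Bool) : Bool :=
  allLt (fun a => allLt (fun b => allLt (fun c => allLt (fun d =>
    bor (anyL (fun i => bn (Nat.beq (get 1 30856 (lin a b c d i)) (get 1 30856 i))) [1, 2, 3, 4, 5, 6, 8, 9, 10, 12])
    (bor (anyL (fun w => b4 (wa (nd (fun i => i) [lin a b c d, tA]) w)) [[0, 0, 0], [0, 0], [0, 1]]) (good (lin a b c d)))) 16) 16) 16) 16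

/-- the list of possible actions -/
noncomputable def inL (l : List (ℕ × ℕ × ℕ × ℕ)) (p : ℕ → ℕ) : Bool := anyL (fun t => eqT p (lin t.1 t.2.1 t.2.2.1 t.2.2.2)) l

def L18 : List (ℕ × ℕ × ℕ × ℕ) := [(1, 2, 4, 8), (6, 5, 15, 4), (15, 1, 9, 5), (1, 10, 5, 8), (10, 9, 8, 15), (8, 6, 2, 9), (6, 1, 9, 4), (2, 15, 10, 6), (15, 4, 6, 5), (4, 10, 5, 2), (10, 6, 2, 15), (5, 8, 1, 10), (8, 15, 10, 9), (2, 9, 8, 6), (9, 4, 6, 1), (4, 8, 1, 2), (5, 2, 4, 10), (9, 5, 15, 1)]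

omit h [Finite X] in
theorem sq18 : sQ (inL L18) = true := by decide +kernel

theorem Lx.cls (x : X) : ∃ t ∈ L18, Act e mQ ixQ x (lin t.1 t.2.1 t.2.2.1 t.2.2.2) := by
  have := h.main.1
  obtain ⟨a, b, c, d, a1, b1, c1, d1, k⟩ := secQ.act h.toCG (g := x) (le_normalizer_of_normal (mem_top x)) (h.zz x) (by decide +kernel)
  rcases bor_eq_true.1 (allLt_iff.1 (allLt_iff.1 (allLt_iff.1 (allLt_iff.1 sq18 _ (secQ.inv a a1.1.1 a1.1.2).2.1) _
    (secQ.inv b b1.1.1 b1.1.2).2.1) _ (secQ.inv c c1.1.1 c1.1.2).2.1) _ (secQ.inv d d1.1.1 d1.1.2).2.1) with t | t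
  · obtain ⟨i, i1, t⟩ := anyL_iff.1 t
    have i2 : 2 * i < 32 := by simp at i1; omega
    obtain ⟨y, y1, y2, y3⟩ := k (2 * i) (inQ.2 i2)
    have f : ∀ a < 32, MS a a = get 1 30856 (ixQ a) := by decide +kernel
    have := h.sq i2 y3
    rw [f _ i2, f _ (inQ.1 y1), y2, show ixQ (2 * i) = i by unfold ixQ; omega] at this
    exact (bn_iff.1 t (Nat.beq_eq ▸ this)).elim
  rcases bor_eq_true.1 t with t | t
  · obtain ⟨w, -, t⟩ := anyL_iff.1 t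
    exact (h.fx4 (Act.word (Act.letters (.cons k h.tt)) w) t).elim
  · obtain ⟨t, t1, t2⟩ := anyL_iff.1 t
    exact ⟨t, t1, k.congr secQ t2⟩

end H07.A8
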