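import Cfsg.Agent.H07.X2
import Cfsg.Agent.L.SpB

/-! Sylow type `A8`: coordinates of the centraliser of the central involution (`Lx.cenA`, `Lx.cenP`, `Lx.tri`, `Lx.alt`). -/

set_option autoImplicit false
set_option maxRecDepth 100000
set_option synthInstance.maxSize 4096

namespace H07.A8
open H13 H14.PK H27.PKx L.DC Subgroup Cfsg H07.Wg H26

variable {X : Type*} [Group X] {e : ℕ → X} {g g' : X} {p q T T' : ℕ → ℕ}

theorem Ex.mul (r : Ex e g T) (s : Ex e g' T') : Ex e (g * g') fun a => T (T' a) := fun a ha =>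
  ⟨(r _ (s a ha).1).1, by rw [← (r _ (s a ha).1).2, ← (s a ha).2]; group⟩

theorem ex_code (h : CG 64 MS IS e) {c : ℕ} (hc : c < 64) : Ex e (e c) (cj MS IS c) := fun a ha =>
  ⟨(by decide +kernel : ∀ c < 64, ∀ a < 32, cj MS IS c a < 32) c hc a ha, h.cj c a⟩

/-- letters -/
noncomputable def gg (e : ℕ → X) (cs : List ℕ) (ts : List X) (i : ℕ) : X := if i < 5 then e (nd 0 cs i) else ts.getD (i - 5) 1

theorem gg_w (h : CG 64 MS IS e) {cs w : List ℕ} {ts : List X} (r : ∀ i ∈ w, i < 5) :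
    evalW (gg e cs ts) w = e (pr MS (w.map (nd 0 cs))) := by
  rw [← h.evalW]
  exact congrArg List.prod (List.map_congr_left fun i hi => if_pos (r i hi))

theorem holdsQ (h : CG 64 MS IS e) {cs : List ℕ} {ts : List X} {Ts : List (ℕ → ℕ)} (f : List.Forall₂ (Ex e) ts Ts) {RL EX : Rules}
    (ok : ∀ r ∈ RL, (r.1 < 5 ∧ r.2.1 < 5 ∧ (∀ i ∈ r.2.2, i < 5) ∧ MS (nd 0 cs r.1) (nd 0 cs r.2.1) = pr MS (r.2.2.map (nd 0 cs))) ∨
      (5 ≤ r.1 ∧ r.2.1 < 5 ∧ r.2.2 = r.2.2.dropLast ++ [r.1] ∧ (∀ i ∈ r.2.2.dropLast, i < 5) ∧ nd 0 cs r.2.1 < 32 ∧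
        nd (fun i => i) Ts (r.1 - 5) (nd 0 cs r.2.1) = pr MS (r.2.2.dropLast.map (nd 0 cs))) ∨ r ∈ EX)
    (hx : Holds (gg e cs ts) EX) : Holds (gg e cs ts) RL := by
  have f' : ∀ l, Ex e (ts.getD l 1) (nd (fun i => i) Ts l) := by
    clear ok hx
    induction f with
    | nil => exact fun _ a ha => ⟨ha, by simp [nd]⟩
    | cons a _ ih => intro l; cases l; exacts [a, ih _]
  intro r hr
  rcases ok r hr with ⟨a, b, c, d⟩ | ⟨a, b, c, d, k, l⟩ | k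
  · rw [gg_w h c, ← d, ← h.mul, gg, gg, if_pos a, if_pos b]
  · rw [c, evalW_append, gg_w h d, ← l, ← (f' _ _ k).2, evalW_cons, evalW_nil, gg, gg, if_neg (by omega), if_pos b]; group
  · exact hx r k

variable [Finite X] (h : Lx e)
include h

theorem Lx.eq3 (r : Ex e g T) (s : Ex e g' T') (k : ∀ a ∈ [2, 4, 8, 16], T a = T' a) (a3 : g ^ 3 = 1) (b3 : g' ^ 3 = 1) : g = g' := by
  rcases h.main.2 (g'⁻¹ * g) (fun a ha => by
    have l : a < 32 := by simp at ha; omega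
    rw [show g'⁻¹ * g * e a * (g'⁻¹ * g)⁻¹ = g'⁻¹ * (g * e a * g⁻¹) * g' by group, (r a l).2, k a ha, ← (s a l).2]; group) with t | t
  · exact (inv_mul_eq_one.1 t).symm
  · rw [inv_mul_eq_iff_eq_mul.1 t, (show Commute g' (e 1) from h.zc g').mul_pow, b3, pow_succ, pow_two, h.z2, one_mul, one_mul] at a3
    exact (h.z1 a3).elim

theorem Lx.three (r : Act e mQ ixQ g p) (k : (∀ a ∈ [2, 4, 8, 16], T a < 32 ∧ ixQ (T a) = p (ixQ a) ∧ T (T (T a)) = a) ∧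
    T 0 = 0 ∧ T 1 = 1 ∧ ∀ a < 32, T a < 32 ∧ ∀ b < 32, T (MS a b) = MS (T a) (T b)) : ∃ u, Ex e u T ∧ u ^ 3 = 1 := by
  obtain ⟨k1, k2, k3, k4⟩ := k
  obtain ⟨c, -, c2⟩ := h.ex0 r (T := T) fun a ha => ⟨(k1 a ha).1, (k1 a ha).2.1⟩
  generalize g * e c = u at c2
  have x : Ex e u T := fun a ha => ⟨(k4 a ha).1, gen32 (P := fun a => u * e a * u⁻¹ = e (T a)) (by simp [k2, h.zero])
    (List.forall_mem_cons.2 ⟨k3.symm ▸ h.zz u, c2⟩) h.toCG (fun a ha b hb r s => by rw [(k4 a ha).2 b hb, ← h.mul, ← h.mul, ← conj_mul, r, s])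
    (by decide +kernel) a ha⟩
  have := h.main.2 (u * (u * u)) fun a ha => ((x.mul (x.mul x)) a (by simp at ha; omega)).2.trans (congrArg e (k1 a ha).2.2)
  refine ⟨u * (u * (u * u)), fun a ha => ⟨(x a ha).1, ?_⟩, ?_⟩
  · rw [← (x a ha).2]
    rcases this with t | t <;> rw [t]
    · simp
    · rw [show u * e 1 * e a * (u * e 1)⁻¹ = u * (e 1 * e a * (e 1)⁻¹) * u⁻¹ by group, ← h.zc]; group
  · rw [show (u * (u * (u * u))) ^ 3 = (u * (u * u) * (u * (u * u))) ^ 2 by simp only [pow_succ, pow_zero, one_mul, mul_assoc]]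
    rcases this with t | t <;> simp [t, h.z2]

theorem Lx.div (r : Act e mQ ixQ g p) (s : Act e mQ ixQ g' p) : g'⁻¹ * g ∈ h.Q := h.triv (p := fun i => i) (fun a ha => by
  obtain ⟨b, b1, b2, b3⟩ := r a ha
  obtain ⟨c, c1, c2, c3⟩ := s a ha
  have t : g'⁻¹ * g * e a * (g'⁻¹ * g)⁻¹ = g'⁻¹ * e b * g'⁻¹⁻¹ := by rw [← b3]; group
  rcases half b (inQ.1 b1) c (inQ.1 c1) (b2.trans c2.symm) with rfl | rfl
  · exact ⟨a, ha, rfl, by rw [t, ← c3]; group⟩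
  · have := (by decide +kernel : ∀ a < 32, MS a 1 < 32 ∧ ixQ (MS a 1) = ixQ a) a (inQ.1 ha)
    exact ⟨_, inQ.2 this.1, this.2, by rw [t, ← h.mul, ← h.mul, ← conj_mul, h.zz, ← c3]; group⟩) (by decide +kernel)

theorem Lx.bld {np AC MT IV TR : ℕ} {WT : List (List ℕ)} {TG : List (ℕ × ℕ)} {RL : Rules} {cs : List ℕ} {ts : List X}
    (H : Holds (gg e cs ts) RL) (c0 : nd 0 cs 0 = 1) (ok : twoOk RL np AC MT IV TR WT TG = true) {L : List (ℕ × ℕ × ℕ × ℕ)}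
    (hL : ∀ x, ∃ t ∈ L, Act e mQ ixQ x (lin t.1 t.2.1 t.2.2.1 t.2.2.2)) (φ : ℕ → ℕ) (hφ : φ = fun a => pr MS ((wc np WT a).map (nd 0 cs)))
    (k : (∀ a < 32, ∀ i ∈ wc np WT a, i < 5) ∧ (∀ b < 32, ∃ a < 32, φ a = b) ∧ ∀ t ∈ L, ∃ j < np, ∀ a < 32,
      cj (mu np AC MT) (iv np IV) (32 * j) a < 32 ∧ φ (cj (mu np AC MT) (iv np IV) (32 * j) a) < 32 ∧
      ixQ (φ (cj (mu np AC MT) (iv np IV) (32 * j) a)) = lin t.1 t.2.1 t.2.2.1 t.2.2.2 (ixQ (φ a))) :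
    ∃ e' : ℕ → X, CG (32 * np) (mu np AC MT) (iv np IV) e' ∧ (∀ x, ∃ a < 32 * np, e' a = x) ∧ ∀ a < 32, e' a = e (φ a) := by
  have h' := CG.ofRules H (by rw [gg, if_pos (by decide), c0]; exact h.z1) ok
  have r : ∀ a < 32, el np WT (gg e cs ts) a = e (φ a) := fun a ha => by rw [el_wc, gg_w h.toCG (k.1 a ha), hφ]
  refine ⟨_, h', fun x => h'.mem.1 ?_, r⟩
  obtain ⟨t, t1, t2⟩ := hL x
  obtain ⟨j, -, j2⟩ := k.2.2 t t1
  obtain ⟨b, b1, b2⟩ := h.memQ.1 (h.div t2 (g' := el np WT (gg e cs ts) (32 * j)) fun b hb => by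
    obtain ⟨a, a1, rfl⟩ := k.2.1 b (inQ.1 hb)
    exact ⟨_, inQ.2 (j2 a a1).2.1, (j2 a a1).2.2, by rw [← r a a1, h'.cj, r _ (j2 a a1).1]⟩)
  obtain ⟨a, a1, rfl⟩ := k.2.1 b b1
  rw [← r a a1, eq_inv_mul_iff_mul_eq] at b2
  exact b2 ▸ mul_mem (h'.mem' _) (h'.mem' _)

def L6 : List (ℕ × ℕ × ℕ × ℕ) := [(1, 2, 4, 8), (4, 10, 5, 2), (1, 10, 5, 8), (5, 8, 1, 10), (4, 8, 1, 2), (5, 2, 4, 10)]
def L6' : List (ℕ × ℕ × ℕ × ℕ) := [(1, 2, 4, 8), (8, 6, 2, 9), (1, 10, 5, 8), (9, 4, 6, 1), (8, 15, 10, 9), (9, 5, 15, 1)]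
def TY : ℕ → ℕ := get 5 (nat_lit 0x9cb7a399eece2306b0a4bdbfe1896aef2b44a020)
def T5 : ℕ → ℕ := get 5 (nat_lit 0x847bcdeaf67b86221528ce29594fdf3996a63420)
def T7 : ℕ → ℕ := get 5 (nat_lit 0x2177a39b38bd928a556a7ba1163653ef062f7c20)

theorem Lx.t2 : e 32 * e 32 = 1 := h.meq1.2 (by decide +kernel)

omit h [Finite X] in
theorem cj3 {t y : X} (h : y ^ 3 = 1) : (t * y * t) ^ 3 = 1 ∨ t * t ≠ 1 := by
  by_cases k : t * t = 1
  · left; nth_rw 2 [← inv_self k]; rw [conj_pow, h]; simp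
  · exact .inr k

omit h [Finite X] in
theorem sq3 {y : X} (h : y ^ 3 = 1) : (y * y) ^ 3 = 1 := by rw [← pow_two, ← pow_mul, mul_comm, pow_mul, h, one_pow]

theorem Lx.cenA (hL : ∀ x, ∃ t ∈ L6, Act e mQ ixQ x (lin t.1 t.2.1 t.2.2.1 t.2.2.2)) (r : Act e mQ ixQ g yA) :
    ∃ e' : ℕ → X, CG 192 MA IA e' ∧ (∀ x, ∃ a < 192, e' a = x) ∧ e' 1 = e 1 ∧ e' 2 = e 2 := by
  obtain ⟨y, y1, y3⟩ := h.three r (T := TY) (by decide +kernel)
  have t := ex_code h.toCG (c := 32) (by decide)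
  have k : e 32 * y * e 32 = y * y := h.eq3 ((t.mul y1).mul t) (y1.mul y1) (by decide +kernel) ((cj3 y3).resolve_right (not_not.2 h.t2)) (sq3 y3)
  have k1 : e 32 * y = y * y * e 32 := by rw [← k, mul_assoc, h.t2, mul_one]
  have y3' : y * (y * y) = 1 := by simpa [pow_succ, mul_assoc] using y3
  obtain ⟨e', a, b, c⟩ := h.bld (cs := [1, 2, 4, 8, 16]) (ts := [y, y * y, e 32]) (holdsQ h.toCG (.cons y1 (.cons (y1.mul y1) (.cons t .nil)))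
    (EX := [(5, 5, [6]), (5, 6, []), (6, 5, []), (6, 6, [5]), (7, 5, [6, 7]), (7, 6, [5, 7]), (7, 7, [])]) (RL := RUA) (by decide +kernel) (by
      simp only [Holds, List.forall_mem_cons, gg, evalW_cons, evalW_nil, mul_one]
      simp only [Nat.reduceLT, Nat.reduceSub, if_false, List.getD_cons_succ, List.getD_cons_zero]
      refine ⟨trivial, y3', by rw [mul_assoc, y3'], by rw [mul_assoc, y3', mul_one], k1, ?_, h.t2, by simp⟩
      rw [← mul_assoc, k1, mul_assoc, k1, ← mul_assoc, mul_assoc y, y3', mul_one])) rfl twoA hL _ rfl (by decide +kernel)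
  exact ⟨e', a, b, (c 1 (by decide)).trans (congrArg e (by decide +kernel)), (c 2 (by decide)).trans (congrArg e (by decide +kernel))⟩

theorem Lx.cenP (r : Act e mQ ixQ g (lin 6 5 15 4)) (s : Act e mQ ixQ g' (lin 15 1 9 5)) :
    ∃ e' : ℕ → X, CG 576 L.Sp.M L.Sp.I e' ∧ (∀ x, ∃ a < 576, e' a = x) ∧ e' 1 = e 1 := by
  obtain ⟨u, u1, u3⟩ := h.three r (T := T5) (by decide +kernel)
  obtain ⟨v, v1, v3⟩ := h.three s (T := T7) (by decide +kernel)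
  have t := ex_code h.toCG (c := 32) (by decide)
  have k : e 32 * u * e 32 = v := h.eq3 ((t.mul u1).mul t) v1 (by decide +kernel) ((cj3 u3).resolve_right (not_not.2 h.t2)) v3
  have k1 : e 32 * u = v * e 32 := by rw [← k, mul_assoc, h.t2, mul_one]
  have k2 : e 32 * v = u * e 32 := by rw [← k, ← mul_assoc, ← mul_assoc, h.t2, one_mul]
  have u3' : u * (u * u) = 1 := by simpa [pow_succ, mul_assoc] using u3
  have v3' : v * (v * v) = 1 := by simpa [pow_succ, mul_assoc] using v3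
  have c : v * u = u * v := by
    rw [← mul_inv_eq_iff_eq_mul, ← eq_inv_of_mul_eq_one_right v3']
    exact h.eq3 ((v1.mul u1).mul (v1.mul v1)) u1 (by decide +kernel)
      (by rw [eq_inv_of_mul_eq_one_right v3', conj_pow, u3]; simp) u3
  have c' : ∀ w, v * (u * w) = u * (v * w) := fun w => by rw [← mul_assoc, c, mul_assoc]
  obtain ⟨e', a, b, c⟩ := h.bld (cs := [1, 4, 3, 16, 8]) (ts := [u, u * u, v, v * v, e 32]) (holdsQ h.toCG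
    (.cons u1 (.cons (u1.mul u1) (.cons v1 (.cons (v1.mul v1) (.cons t .nil)))))
    (EX := [(5, 5, [6]), (5, 6, []), (6, 5, []), (6, 6, [5]), (7, 5, [5, 7]), (7, 6, [6, 7]), (7, 7, [8]), (7, 8, []), (8, 5, [5, 8]),
      (8, 6, [6, 8]), (8, 7, []), (8, 8, [7]), (9, 5, [7, 9]), (9, 6, [8, 9]), (9, 7, [5, 9]), (9, 8, [6, 9]), (9, 9, [])])
    (RL := L.Sp.RU) (by decide +kernel) (by
      simp only [Holds, List.forall_mem_cons, gg, evalW_cons, evalW_nil, mul_one]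
      simp only [Nat.reduceLT, Nat.reduceSub, if_false, List.getD_cons_succ, List.getD_cons_zero]
      refine ⟨trivial, u3', by rw [mul_assoc, u3'], by rw [mul_assoc, u3', mul_one], c, by simp only [mul_assoc, c, c'], trivial, v3',
        by simp only [mul_assoc, c, c'], by simp only [mul_assoc, c, c'], by rw [mul_assoc, v3'], by rw [mul_assoc, v3', mul_one], k1, ?_, k2, ?_,
        h.t2, by simp⟩
      · rw [← mul_assoc, k1, mul_assoc, k1, mul_assoc]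
      · rw [← mul_assoc, k2, mul_assoc, k2, mul_assoc])) rfl L.Sp.two h.cls _ rfl (by decide +kernel)
  exact ⟨e', a, b, (c 1 (by decide)).trans (congrArg e (by decide +kernel))⟩

theorem Lx.cj2 (r : Act e mQ ixQ g p) {a b : ℕ} (k : a < 32 ∧ b < 32 ∧ p (ixQ a) = ixQ b ∧ ∃ s < 64, cj MS IS s (MS b 1) = b) :
    IsConj (e a) (e b) := by
  obtain ⟨k1, k2, k3, s, -, k4⟩ := k
  obtain ⟨c, c1, c2, c3⟩ := r a (inQ.2 k1)
  refine (isConj_iff.2 ⟨g, c3⟩).trans ?_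
  rcases half c (inQ.1 c1) b k2 (c2.trans k3) with rfl | rfl
  exacts [IsConj.refl _, jc h.toCG s k4]

theorem Lx.tri : (IsConj (e 2) (e 16) ∧ IsConj (e 2) (e 18)) ∨ ∀ x, ∃ t ∈ L6, Act e mQ ixQ x (lin t.1 t.2.1 t.2.2.1 t.2.2.2) := by
  rw [or_iff_not_imp_right]
  intro n
  obtain ⟨x, n⟩ := not_forall.1 n
  obtain ⟨t, t1, t2⟩ := h.cls x
  obtain ⟨g, k⟩ := t2.tgt secQ h.tt (q := xA) (GW := [[0, 0], [0, 0, 0, 0], [0, 1, 0, 1], [0, 1, 0, 1, 0, 1, 0, 1]])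
    (((by decide +kernel : ∀ t ∈ L18, t ∈ L6 ∨ tgt [tA] [[0, 0], [0, 0, 0, 0], [0, 1, 0, 1], [0, 1, 0, 1, 0, 1, 0, 1]] xA
      (lin t.1 t.2.1 t.2.2.1 t.2.2.2) = true) t t1).resolve_left fun r => n ⟨t, r, t2⟩)
  exact ⟨h.cj2 k (by decide +kernel), h.cj2 (k.mul k) (by decide +kernel)⟩

theorem Lx.yy (hL : ∀ x, ∃ t ∈ L6, Act e mQ ixQ x (lin t.1 t.2.1 t.2.2.1 t.2.2.2)) {a b : ℕ} (ha : a < 32) (hb : b < 64)
    (r : g * e a * g⁻¹ = e b) (k : ¬ (ixQ a / 2 = 2 ↔ ixQ b / 2 = 2)) : ∃ y, Act e mQ ixQ y yA := by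
  obtain ⟨t, t1, t2⟩ := hL g
  obtain ⟨c, c1, c2, c3⟩ := t2 a (inQ.2 ha)
  obtain rfl := h.inj _ hb _ c1.1 (r.symm.trans c3)
  exact t2.tgt secQ h.tt (GW := [[0], [0, 0], [0, 1], [1, 0]])
    (((by decide +kernel : ∀ t ∈ L6, (∀ a < 32, ixQ a / 2 = 2 ↔ lin t.1 t.2.1 t.2.2.1 t.2.2.2 (ixQ a) / 2 = 2) ∨
      tgt [tA] [[0], [0, 0], [0, 1], [1, 0]] yA (lin t.1 t.2.1 t.2.2.1 t.2.2.2) = true) t t1).resolve_left fun s => k (c2 ▸ s a ha))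

theorem Lx.alt (r : g * e 2 * g⁻¹ = e 16) (s : g * e 16 * g⁻¹ = e 18) :
    (∀ x, ∀ a < 32, ∀ b < 64, x * e a * x⁻¹ = e b → bt mF b = true → bt mF a = true) ∨
    ∃ e' : ℕ → X, CG 576 L.Sp.M L.Sp.I e' ∧ (∀ x, ∃ a < 576, e' a = x) ∧ e' 1 = e 1 := by
  rw [or_iff_not_imp_left]
  intro n
  simp only [not_forall] at n
  obtain ⟨x, a, ha, b, hb, r', bF, aF⟩ := n
  obtain ⟨t, t1, t2⟩ := h.cls g
  obtain ⟨c, c1, c2, c3⟩ := t2 2 (by decide +kernel)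
  obtain ⟨d, d1, d2, d3⟩ := t2 16 (by decide +kernel)
  obtain rfl := h.inj _ (by decide) _ c1.1 (r.symm.trans c3)
  obtain rfl := h.inj _ (by decide) _ d1.1 (s.symm.trans d3)
  obtain ⟨y, hy⟩ := t2.tgt secQ h.tt (q := xA) (GW := [[0], [0, 1]]) ((by decide +kernel : ∀ t ∈ L18,
    ixQ 16 = lin t.1 t.2.1 t.2.2.1 t.2.2.2 (ixQ 2) → ixQ 18 = lin t.1 t.2.1 t.2.2.1 t.2.2.2 (ixQ 16) →
      tgt [tA] [[0], [0, 1]] xA (lin t.1 t.2.1 t.2.2.1 t.2.2.2) = true) t t1 c2 d2)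
  obtain ⟨t, t1, t2⟩ := h.cls x
  obtain ⟨c, c1, c2, c3⟩ := t2 a (inQ.2 ha)
  obtain rfl := h.inj _ hb _ c1.1 (r'.symm.trans c3)
  have := ((by decide +kernel : ∀ t ∈ L18, (∀ a < 32, ∀ b < 32, ixQ b = lin t.1 t.2.1 t.2.2.1 t.2.2.2 (ixQ a) → bt mF b = true → bt mF a = true) ∨
    ∀ u ∈ [(6, 5, 15, 4), (15, 1, 9, 5)], tgt [tA, xA] [[0], [0, 0], [0, 1], [0, 2], [1, 0], [0, 0, 2], [0, 1, 2], [0, 2, 2], [1, 0, 2],
      [0, 0, 2, 2], [0, 1, 2, 2], [1, 0, 2, 2]] (lin u.1 u.2.1 u.2.2.1 u.2.2.2) (lin t.1 t.2.1 t.2.2.1 t.2.2.2) = true) t t1).resolve_left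
    fun s => aF (s a ha b (inQ.1 c1) c2 bF)
  have f : List.Forall₂ (Act e mQ ixQ) [e 32, y] [tA, xA] :=
    .cons (act_code h.toCG secQ 32 (by decide) (by decide +kernel)) (.cons hy .nil)
  obtain ⟨u, hu⟩ := t2.tgt secQ f (this (6, 5, 15, 4) (by simp))
  obtain ⟨v, hv⟩ := t2.tgt secQ f (this (15, 1, 9, 5) (by simp))
  exact h.cenP hu hv

end H07.A8
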